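import Mathlib
import Cfsg.Agent.SL2Tor.PSL
import Cfsg.Agent.Lib.LinearGroup.Card

/-!
Indices of centralisers in `PSL₂(q)`.
-/

set_option autoImplicit false

namespace Cfsg.Agent.KS58

open Matrix SL2Tor

theorem index_centralizer_eq_card {G : Type*} [Group G] (a : G) (p : G → Prop) (hp : ∀ b, p b ↔ IsConj a b) :
    (Subgroup.centralizer ({a} : Set G)).index = Nat.card {b // p b} := by
  rw [Subgroup.index]
  refine Nat.card_congr (Equiv.ofBijective
    (fun x => Quotient.liftOn' x (fun g => (⟨g * a * g⁻¹, (hp _).mpr (isConj_iff.mpr ⟨g, rfl⟩)⟩ : {b // p b})) ?_) ⟨?_, ?_⟩)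
  · intro g h hgh
    rw [QuotientGroup.leftRel_apply, Subgroup.mem_centralizer_singleton_iff] at hgh
    apply Subtype.ext
    show g * a * g⁻¹ = h * a * h⁻¹
    calc g * a * g⁻¹ = g * (a * (g⁻¹ * h)) * h⁻¹ := by group
      _ = g * ((g⁻¹ * h) * a) * h⁻¹ := by rw [hgh]
      _ = h * a * h⁻¹ := by group
  · intro x y
    induction x using QuotientGroup.induction_on with | H g =>
    induction y using QuotientGroup.induction_on with | H h =>
    intro e
    have e' : g * a * g⁻¹ = h * a * h⁻¹ := congrArg Subtype.val e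
    refine QuotientGroup.eq.mpr (Subgroup.mem_centralizer_singleton_iff.mpr ?_)
    calc g⁻¹ * h * a = g⁻¹ * (h * a * h⁻¹) * h := by group
      _ = g⁻¹ * (g * a * g⁻¹) * h := by rw [e']
      _ = a * (g⁻¹ * h) := by group
  · rintro ⟨b, hb⟩
    obtain ⟨g, hg⟩ := isConj_iff.mp ((hp b).mp hb)
    exact ⟨QuotientGroup.mk g, Subtype.ext hg⟩

variable {F : Type*} [Field F] [Fintype F]

local notation "SL2" => Matrix.SpecialLinearGroup (Fin 2) F
local notation "PSL2" => Matrix.ProjectiveSpecialLinearGroup (Fin 2) F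
local notation "q" => Fintype.card F

open scoped Classical in
/-- number of roots of `X² - tX + 1` -/
noncomputable def nRoots (t : F) : ℕ := (Finset.univ.filter fun a : F => a * (t - a) = 1).card

theorem nRoots_eq_zero {t : F} (h : ∀ a : F, a * (t - a) ≠ 1) : nRoots t = 0 := by
  classical
  simp [nRoots, Finset.filter_eq_empty_iff, h]

theorem nRoots_eq_two {t a : F} (ha : a * (t - a) = 1) (ht : t ^ 2 ≠ 4) : nRoots t = 2 := by
  classical
  rw [nRoots, Finset.card_eq_two]
  refine ⟨a, t - a, fun e => ht ?_, ?_⟩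
  · linear_combination 4 * ha + (2 * a - t) * e
  · ext x
    simp only [Finset.mem_filter, Finset.mem_univ, true_and, Finset.mem_insert, Finset.mem_singleton]
    constructor
    · intro hx
      have : (x - a) * (x - (t - a)) = 0 := by linear_combination ha - hx
      rcases mul_eq_zero.mp this with h | h
      · exact Or.inl (sub_eq_zero.mp h)
      · exact Or.inr (sub_eq_zero.mp h)
    · rintro (rfl | rfl)
      · exact ha
      · linear_combination ha

theorem card_fiber (w : F) [DecidableEq F] :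
    Nat.card {p : F × F // p.1 * p.2 = w} = (q - 1) + if w = 0 then q else 0 := by
  classical
  by_cases hw : w = 0
  · subst hw
    rw [if_pos rfl, Nat.card_eq_fintype_card, Fintype.card_subtype]
    have : (Finset.univ.filter fun p : F × F => p.1 * p.2 = 0) =
        ({0} : Finset F) ×ˢ Finset.univ ∪ (Finset.univ.erase 0) ×ˢ ({0} : Finset F) := by
      ext ⟨x, y⟩
      by_cases hx : x = 0 <;> by_cases hy : y = 0 <;> simp [hx, hy, eq_comm]
    rw [this, Finset.card_union_of_disjoint, Finset.card_product, Finset.card_product, Finset.card_singleton,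
      Finset.card_erase_of_mem (Finset.mem_univ _), Finset.card_univ]
    · omega
    · rw [Finset.disjoint_left]
      rintro ⟨x, y⟩ h1 h2
      simp only [Finset.mem_product, Finset.mem_singleton, Finset.mem_erase, Finset.mem_univ, and_true] at h1 h2
      exact h2.1 h1
  · rw [if_neg hw, add_zero, ← Fintype.card_units, ← Nat.card_eq_fintype_card]
    exact Nat.card_congr
      { toFun := fun p => Units.mk0 p.1.1 (fun h => hw (by rw [← p.2, h, zero_mul]))
        invFun := fun u => ⟨((u : F), (u : F)⁻¹ * w), by simp⟩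
        left_inv := fun ⟨⟨x, y⟩, h⟩ => by
          have hx : x ≠ 0 := fun e => hw (by rw [← h]; simp [e])
          apply Subtype.ext
          refine Prod.ext rfl ?_
          show x⁻¹ * w = y
          rw [← h]; field_simp
        right_inv := fun u => Units.ext rfl }

theorem card_trace (t : F) :
    Nat.card {B : SL2 // (B : Matrix (Fin 2) (Fin 2) F).trace = t} = q * (q - 1) + q * nRoots t := by
  classical
  let e : {B : SL2 // (B : Matrix (Fin 2) (Fin 2) F).trace = t} ≃
      Σ a : F, {p : F × F // p.1 * p.2 = a * (t - a) - 1} :=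
    { toFun := fun B => ⟨B.1.1 0 0, (B.1.1 0 1, B.1.1 1 0), by
        have h := B.1.2
        have h' := B.2
        rw [det_fin_two] at h
        rw [trace_fin_two] at h'
        linear_combination -h + B.1.1 0 0 * h'⟩
      invFun := fun p => ⟨⟨!![p.1, p.2.1.1; p.2.1.2, t - p.1], by
        rw [det_fin_two_of]; linear_combination -p.2.2⟩, by simp [trace_fin_two]⟩
      left_inv := fun B => by
        have h' := B.2
        rw [trace_fin_two] at h'
        apply Subtype.ext; apply Subtype.ext
        ext i j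
        fin_cases i <;> fin_cases j <;> simp [← h']
      right_inv := fun ⟨a, ⟨⟨b, c⟩, h⟩⟩ => by simp }
  rw [Nat.card_congr e, Nat.card_sigma]
  simp only [card_fiber, Finset.sum_add_distrib, Finset.sum_const, Finset.card_univ, smul_eq_mul, sub_eq_zero]
  rw [← Finset.sum_filter, Finset.sum_const, smul_eq_mul, nRoots, Nat.mul_comm (Finset.card _)]

theorem isConj_trace_iff (A B : SL2) (h4 : (A : Matrix (Fin 2) (Fin 2) F).trace ^ 2 ≠ 4) :
    (B : Matrix (Fin 2) (Fin 2) F).trace = (A : Matrix (Fin 2) (Fin 2) F).trace ↔ IsConj A B := by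
  constructor
  · intro h
    obtain ⟨x, hx⟩ := isConj_of_trace A B h.symm h4
    exact isConj_iff.mpr ⟨x, hx.symm⟩
  · intro h
    obtain ⟨x, rfl⟩ := isConj_iff.mp h
    exact SL2Tor.trace_conj x A

theorem index_sl_semisimple (A : SL2) (h4 : (A : Matrix (Fin 2) (Fin 2) F).trace ^ 2 ≠ 4) :
    (Subgroup.centralizer ({A} : Set SL2)).index = q * (q - 1) + q * nRoots (A : Matrix (Fin 2) (Fin 2) F).trace := by
  rw [index_centralizer_eq_card A (fun B => (B : Matrix (Fin 2) (Fin 2) F).trace = (A : Matrix (Fin 2) (Fin 2) F).trace)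
    (fun B => isConj_trace_iff A B h4), card_trace]

theorem psl_mk_eq_iff (A B : SL2) : (QuotientGroup.mk A : PSL2) = QuotientGroup.mk B ↔ B = A ∨ B = -A := by
  constructor
  · intro h
    obtain ⟨c, hc, hcA⟩ := Matrix.SpecialLinearGroup.mem_center_iff.mp (QuotientGroup.eq.mp h)
    rw [Fintype.card_fin] at hc
    rcases sq_eq_one_iff.mp hc with rfl | rfl
    · left
      have : A⁻¹ * B = 1 := Subtype.ext (by rw [← hcA, map_one]; rfl)
      exact (inv_mul_eq_one.mp this).symm
    · right
      have : A⁻¹ * B = -1 := Subtype.ext (by rw [← hcA, map_neg, map_one, Matrix.SpecialLinearGroup.coe_neg]; rfl)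
      rw [inv_mul_eq_iff_eq_mul] at this
      rw [this]
      apply Subtype.ext
      simp
  · rintro (rfl | rfl)
    · rfl
    · exact (psl_mk_neg A).symm

theorem mem_preimage_centralizer (A g : SL2) :
    g ∈ (Subgroup.centralizer ({(QuotientGroup.mk A : PSL2)} : Set PSL2)).comap (QuotientGroup.mk' _) ↔
      g * A * g⁻¹ = A ∨ g * A * g⁻¹ = -A := by
  rw [Subgroup.mem_comap, Subgroup.mem_centralizer_singleton_iff, ← mul_inv_eq_iff_eq_mul]
  show (QuotientGroup.mk (g * A * g⁻¹) : PSL2) = QuotientGroup.mk A ↔ _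
  rw [eq_comm, psl_mk_eq_iff]

theorem index_psl_of_trace_ne_zero (A : SL2) (ht : (A : Matrix (Fin 2) (Fin 2) F).trace + (A : Matrix (Fin 2) (Fin 2) F).trace ≠ 0 ∨ (2 : F) = 0) :
    (Subgroup.centralizer ({(QuotientGroup.mk A : PSL2)} : Set PSL2)).index =
      (Subgroup.centralizer ({A} : Set SL2)).index := by
  rw [← Subgroup.index_comap_of_surjective _ (f := QuotientGroup.mk' (Subgroup.center SL2)) (QuotientGroup.mk'_surjective _)]
  congr 1
  ext g
  rw [mem_preimage_centralizer, Subgroup.mem_centralizer_singleton_iff, ← mul_inv_eq_iff_eq_mul]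
  refine ⟨fun h => h.elim id fun h => ?_, Or.inl⟩
  rcases ht with ht | h2
  · exfalso
    have := congrArg (fun X : SL2 => (X : Matrix (Fin 2) (Fin 2) F).trace) h
    simp only [SL2Tor.trace_conj, trace_neg'] at this
    exact ht (by linear_combination this)
  · rw [h]
    apply Subtype.ext
    rw [Matrix.SpecialLinearGroup.coe_neg]
    ext i j
    rw [Matrix.neg_apply, neg_eq_iff_add_eq_zero, ← two_mul, h2, zero_mul]

theorem index_psl_trace_zero (A : SL2) (ht : (A : Matrix (Fin 2) (Fin 2) F).trace = 0) (h2 : (2 : F) ≠ 0) :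
    2 * (Subgroup.centralizer ({(QuotientGroup.mk A : PSL2)} : Set PSL2)).index =
      (Subgroup.centralizer ({A} : Set SL2)).index := by
  have h4 : (A : Matrix (Fin 2) (Fin 2) F).trace ^ 2 ≠ 4 := by
    rw [ht]; intro h; exact h2 (mul_self_eq_zero.mp (by linear_combination -h))
  obtain ⟨g0, hg0⟩ := isConj_of_trace A (-A) (by rw [trace_neg', ht, neg_zero]) h4
  have hne : -A ≠ A := fun h => by
    have hA : ∀ i j, (A : Matrix (Fin 2) (Fin 2) F) i j = 0 := fun i j => by
      have := congrArg (fun X : SL2 => (X : Matrix (Fin 2) (Fin 2) F) i j) h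
      simp only [Matrix.SpecialLinearGroup.coe_neg, Matrix.neg_apply] at this
      exact (mul_eq_zero.mp (show (2 : F) * _ = 0 by linear_combination -this)).resolve_left h2
    have := A.2
    rw [det_fin_two, hA 0 0, hA 0 1] at this
    simp at this
  set P := (Subgroup.centralizer ({(QuotientGroup.mk A : PSL2)} : Set PSL2)).comap (QuotientGroup.mk' _) with hP
  set C := Subgroup.centralizer ({A} : Set SL2)
  have hC : ∀ g, g ∈ C ↔ g * A * g⁻¹ = A := fun g => by
    rw [Subgroup.mem_centralizer_singleton_iff, ← mul_inv_eq_iff_eq_mul]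
  have hCP : C ≤ P := fun g hg => (mem_preimage_centralizer A g).mpr (Or.inl ((hC g).mp hg))
  have h : C.relIndex P = 2 := by
    rw [Subgroup.relIndex, Subgroup.index_eq_two_iff]
    refine ⟨⟨g0, (mem_preimage_centralizer A g0).mpr (Or.inr hg0.symm)⟩, fun ⟨b, hb⟩ => ?_⟩
    simp only [Subgroup.mem_subgroupOf, Subgroup.coe_mul, hC]
    have hn : b * -A * b⁻¹ = -(b * A * b⁻¹) := by
      apply Subtype.ext; simp
    have e : b * g0 * A * (b * g0)⁻¹ = -(b * A * b⁻¹) := by
      rw [← hn, hg0]; group
    rw [e]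
    rcases (mem_preimage_centralizer A b).mp hb with hb | hb
    · exact Or.inr ⟨hb, by rw [hb]; exact hne⟩
    · exact Or.inl ⟨by rw [hb, neg_neg], by rw [hb]; exact hne⟩
  rw [← Subgroup.index_comap_of_surjective _ (f := QuotientGroup.mk' (Subgroup.center SL2)) (QuotientGroup.mk'_surjective _),
    ← hP]
  have := Subgroup.relIndex_mul_index hCP
  rwa [h] at this

theorem exists_eq_add_smul {A B : Matrix (Fin 2) (Fin 2) F} (hA : ¬ IsScalar A) (h : A * B = B * A) :
    ∃ x y : F, B = x • 1 + y • A := by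
  have e00 := congrFun (congrFun h 0) 0
  have e01 := congrFun (congrFun h 0) 1
  have e10 := congrFun (congrFun h 1) 0
  simp only [Matrix.mul_apply, Fin.sum_univ_two] at e00 e01 e10
  by_cases hb : A 0 1 = 0
  · by_cases hc : A 1 0 = 0
    · have had : A 0 0 - A 1 1 ≠ 0 := fun e => hA ⟨hb, hc, sub_eq_zero.mp e⟩
      have hB01 : B 0 1 = 0 := (mul_eq_zero.mp (show (A 0 0 - A 1 1) * B 0 1 = 0 by
        linear_combination e01 + (B 0 0 - B 1 1) * hb)).resolve_left had
      have hB10 : B 1 0 = 0 := (mul_eq_zero.mp (show (A 0 0 - A 1 1) * B 1 0 = 0 by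
        linear_combination -e10 + (B 0 0 - B 1 1) * hc)).resolve_left had
      refine ⟨B 0 0 - (B 0 0 - B 1 1) / (A 0 0 - A 1 1) * A 0 0, (B 0 0 - B 1 1) / (A 0 0 - A 1 1), ?_⟩
      ext i j
      fin_cases i <;> fin_cases j <;> simp [hb, hc, hB01, hB10]
      field_simp
      ring
    · refine ⟨B 0 0 - B 1 0 / A 1 0 * A 0 0, B 1 0 / A 1 0, ?_⟩
      ext i j
      fin_cases i <;> fin_cases j <;> simp [hb] <;> (try field_simp)
      · exact (mul_eq_zero.mp (show B 0 1 * A 1 0 = 0 by linear_combination -e00 + B 1 0 * hb)).resolve_right hc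
      · linear_combination -e10
  · refine ⟨B 0 0 - B 0 1 / A 0 1 * A 0 0, B 0 1 / A 0 1, ?_⟩
    ext i j
    fin_cases i <;> fin_cases j <;> simp <;> field_simp
    · linear_combination e00
    · linear_combination e01

theorem card_centralizer_parabolic (A : SL2) (hA : ¬ IsScalar (A : Matrix (Fin 2) (Fin 2) F))
    (h4 : (A : Matrix (Fin 2) (Fin 2) F).trace ^ 2 = 4) :
    Nat.card ↥(Subgroup.centralizer ({A} : Set SL2)) = Nat.card {u : F // u ^ 2 = 1} * q := by
  classical
  set M := (A : Matrix (Fin 2) (Fin 2) F)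
  obtain ⟨h, hh, hh1⟩ : ∃ h : F, 2 * h = M.trace ∧ h ^ 2 = 1 := by
    by_cases h2 : (2 : F) = 0
    · have ht : M.trace = 0 := mul_self_eq_zero.mp (by linear_combination h4 + 2 * h2)
      exact ⟨1, by rw [ht, h2, zero_mul], one_pow 2⟩
    · refine ⟨M.trace / 2, by field_simp, ?_⟩
      field_simp
      linear_combination h4
  have hdet : ∀ x y : F, (x • (1 : Matrix (Fin 2) (Fin 2) F) + y • M).det = (x + h * y) ^ 2 := by
    intro x y
    have hd := A.2
    rw [det_fin_two] at hd
    rw [trace_fin_two] at hh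
    simp only [M, det_fin_two, Matrix.add_apply, Matrix.smul_apply, Matrix.one_apply_eq, ne_eq, Fin.zero_eq_one_iff,
      Matrix.one_apply_ne, zero_ne_one, not_false_eq_true, one_ne_zero, smul_eq_mul]
    simp only [M] at hh
    linear_combination y ^ 2 * hd - x * y * hh - y ^ 2 * hh1
  let mk : {u : F // u ^ 2 = 1} × F → SL2 := fun p =>
    ⟨(p.1.1 - h * p.2) • 1 + p.2 • M, by rw [hdet, sub_add_cancel, p.1.2]⟩
  let Φ : {u : F // u ^ 2 = 1} × F → ↥(Subgroup.centralizer ({A} : Set SL2)) := fun p =>
    ⟨mk p, by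
      rw [Subgroup.mem_centralizer_singleton_iff]
      apply Subtype.ext
      simp only [Matrix.SpecialLinearGroup.coe_mul]
      exact ((Commute.one_left M).smul_left _).add_left ((Commute.refl M).smul_left _)⟩
  have hΦ : Function.Bijective Φ := by
    constructor
    · rintro ⟨u, y⟩ ⟨v, z⟩ e
      have e' : (u.1 - h * y) • (1 : Matrix (Fin 2) (Fin 2) F) + y • M = (v.1 - h * z) • 1 + z • M :=
        congrArg (fun g : ↥(Subgroup.centralizer ({A} : Set SL2)) => ((g : SL2) : Matrix (Fin 2) (Fin 2) F)) e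
      have e1 : ∀ i j, ((u.1 - h * y) • (1 : Matrix (Fin 2) (Fin 2) F) + y • M) i j = ((v.1 - h * z) • (1 : Matrix (Fin 2) (Fin 2) F) + z • M) i j :=
        fun i j => by rw [e']
      have e01 := e1 0 1
      have e10 := e1 1 0
      have e00 := e1 0 0
      have e11 := e1 1 1
      simp at e01 e10 e00 e11
      have hyz : y = z := by
        by_contra hne
        refine hA ⟨?_, ?_, ?_⟩
        · exact e01.resolve_left hne
        · exact e10.resolve_left hne
        · exact mul_left_cancel₀ (sub_ne_zero.mpr hne) (by linear_combination e00 - e11)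
      subst hyz
      exact Prod.ext (Subtype.ext (by linear_combination e00)) rfl
    · rintro ⟨B, hB⟩
      rw [Subgroup.mem_centralizer_singleton_iff] at hB
      obtain ⟨x, y, hxy⟩ := exists_eq_add_smul hA (congrArg Subtype.val hB).symm
      refine ⟨(⟨x + h * y, ?_⟩, y), ?_⟩
      · rw [← hdet, ← hxy]; exact B.2
      · apply Subtype.ext; apply Subtype.ext
        show (x + h * y - h * y) • (1 : Matrix (Fin 2) (Fin 2) F) + y • M = _
        rw [add_sub_cancel_right, hxy]
  rw [← Nat.card_congr (Equiv.ofBijective Φ hΦ), Nat.card_prod, Nat.card_eq_fintype_card (α := F)]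

theorem index_psl_parabolic (A : SL2) (hA : ¬ IsScalar (A : Matrix (Fin 2) (Fin 2) F))
    (h4 : (A : Matrix (Fin 2) (Fin 2) F).trace ^ 2 = 4) :
    (Subgroup.centralizer ({(QuotientGroup.mk A : PSL2)} : Set PSL2)).index * Nat.card {u : F // u ^ 2 = 1} =
      q ^ 2 - 1 := by
  rw [index_psl_of_trace_ne_zero A ?_]
  · have h := (Subgroup.centralizer ({A} : Set SL2)).card_mul_index
    rw [card_centralizer_parabolic A hA h4, LinearGroup.card_SL_two, Nat.card_eq_fintype_card (α := F)] at h
    exact Nat.eq_of_mul_eq_mul_left Fintype.card_pos (Eq.trans (by ring) h)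
  · by_cases h2 : (2 : F) = 0
    · exact Or.inr h2
    · left
      intro e
      have ht : (A : Matrix (Fin 2) (Fin 2) F).trace = 0 :=
        (mul_eq_zero.mp (show (2 : F) * _ = 0 by linear_combination e)).resolve_left h2
      rw [ht] at h4
      exact h2 (mul_self_eq_zero.mp (by linear_combination -h4))

theorem card_sq_eq_one_odd (h2 : (2 : F) ≠ 0) : Nat.card {u : F // u ^ 2 = 1} = 2 := by
  classical
  rw [Nat.card_eq_fintype_card, Fintype.card_subtype,
    show (Finset.univ.filter fun u : F => u ^ 2 = 1) = {1, -1} by ext; simp [sq_eq_one_iff],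
    Finset.card_pair (fun h => h2 (by linear_combination h))]

theorem card_sq_eq_one_even (h2 : (2 : F) = 0) : Nat.card {u : F // u ^ 2 = 1} = 1 := by
  classical
  rw [Nat.card_eq_fintype_card, Fintype.card_subtype,
    show (Finset.univ.filter fun u : F => u ^ 2 = 1) = {1, -1} by ext; simp [sq_eq_one_iff],
    show (-1 : F) = 1 by linear_combination -h2]
  simp

/-- The trichotomy for `PSL₂`. -/
theorem index_psl_cases (A : SL2) :
    (Subgroup.centralizer ({(QuotientGroup.mk A : PSL2)} : Set PSL2)).index = 1 ∨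
      (¬ IsScalar (A : Matrix (Fin 2) (Fin 2) F) ∧ (A : Matrix (Fin 2) (Fin 2) F).trace ^ 2 = 4) ∨
      ((A : Matrix (Fin 2) (Fin 2) F).trace ^ 2 ≠ 4 ∧
        (nRoots (A : Matrix (Fin 2) (Fin 2) F).trace = 0 ∨ nRoots (A : Matrix (Fin 2) (Fin 2) F).trace = 2)) := by
  by_cases hs : IsScalar (A : Matrix (Fin 2) (Fin 2) F)
  · left
    rw [(psl_mk_eq_one_iff A).2 hs, Subgroup.index_eq_one, Subgroup.centralizer_eq_top_iff_subset,
      Set.singleton_subset_iff]
    exact one_mem _
  by_cases h4 : (A : Matrix (Fin 2) (Fin 2) F).trace ^ 2 = 4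
  · exact Or.inr (Or.inl ⟨hs, h4⟩)
  refine Or.inr (Or.inr ⟨h4, ?_⟩)
  by_cases hr : ∃ a : F, a * ((A : Matrix (Fin 2) (Fin 2) F).trace - a) = 1
  · obtain ⟨a, ha⟩ := hr
    exact Or.inr (nRoots_eq_two ha h4)
  · exact Or.inl (nRoots_eq_zero fun a ha => hr ⟨a, ha⟩)

theorem exists_sl_trace (t : F) : ∃ A : SL2, (A : Matrix (Fin 2) (Fin 2) F).trace = t ∧ ¬ IsScalar (A : Matrix (Fin 2) (Fin 2) F) :=
  ⟨⟨comp2 t, by simp [comp2, det_fin_two_of]⟩, by simp [comp2, trace_fin_two], fun h => by
    have := h.1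
    simp [comp2] at this⟩

/-- A non-zero trace of an irreducible element. -/
theorem exists_nonsplit_trace (h4 : 4 ≤ q) : ∃ t : F, t ≠ 0 ∧ t ^ 2 ≠ 4 ∧ ∀ a : F, a * (t - a) ≠ 1 := by
  classical
  by_contra hc
  push Not at hc
  set S := Finset.univ.filter fun u : F => u ≠ 0 ∧ u ≠ 1 ∧ u ≠ -1
  have hS : S.card ≤ q - 2 := by
    refine le_trans (Finset.card_le_card (t := (Finset.univ.erase 0).erase 1) fun u hu => by simp [S] at hu ⊢; tauto) ?_
    rw [Finset.card_erase_of_mem (by simp), Finset.card_erase_of_mem (Finset.mem_univ _), Finset.card_univ]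
    omega
  have hT : (Finset.univ.filter fun t : F => t ≠ 0 ∧ t ^ 2 ≠ 4) ⊆ S.image fun u => u + u⁻¹ := by
    intro t ht
    simp only [Finset.mem_filter, Finset.mem_univ, true_and] at ht
    obtain ⟨a, ha⟩ := hc t ht.1 ht.2
    have hi : a⁻¹ = t - a := inv_eq_of_mul_eq_one_right ha
    refine Finset.mem_image.mpr ⟨a, Finset.mem_filter.mpr ⟨Finset.mem_univ _, left_ne_zero_of_mul_eq_one ha, ?_, ?_⟩, ?_⟩
    · rintro rfl
      exact ht.2 (by linear_combination (t + 2) * ha)
    · rintro rfl
      exact ht.2 (by linear_combination (2 - t) * ha)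
    · rw [hi, add_sub_cancel]
  have h2 : 2 * (S.image fun u => u + u⁻¹).card ≤ S.card := by
    refine Finset.mul_card_image_le_card _ _ fun b hb => ?_
    obtain ⟨u, hu, rfl⟩ := Finset.mem_image.mp hb
    simp only [S, Finset.mem_filter, Finset.mem_univ, true_and] at hu
    have hne : u ≠ u⁻¹ := fun e => by
      have : u * u = 1 := by nth_rewrite 2 [e]; exact mul_inv_cancel₀ hu.1
      rcases mul_self_eq_one_iff.mp this with h | h
      · exact hu.2.1 h
      · exact hu.2.2 h
    rw [← Finset.card_pair hne]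
    refine Finset.card_le_card fun x hx => ?_
    simp only [Finset.mem_insert, Finset.mem_singleton] at hx
    rcases hx with rfl | rfl
    · simp [S, hu]
    · refine Finset.mem_filter.mpr ⟨Finset.mem_filter.mpr ⟨Finset.mem_univ _, inv_ne_zero hu.1,
        fun e => hu.2.1 (inv_eq_one.mp e), fun e => hu.2.2 (by rw [← inv_inv u, e]; norm_num)⟩, ?_⟩
      rw [inv_inv, add_comm]
  have h3 := (Finset.card_le_card hT)
  have e3 := Finset.card_filter_add_card_filter_not (s := (Finset.univ : Finset F)) (fun t : F => t ≠ 0 ∧ t ^ 2 ≠ 4)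
  rw [Finset.card_univ] at e3
  have e : (Finset.univ.filter fun t : F => ¬ (t ≠ 0 ∧ t ^ 2 ≠ 4)) ⊆ {0, 2, -2} := by
    intro x hx
    simp only [Finset.mem_filter, Finset.mem_univ, true_and, not_and, not_not] at hx
    by_cases h0 : x = 0
    · simp [h0]
    · have : (x - 2) * (x + 2) = 0 := by linear_combination hx h0
      rcases mul_eq_zero.mp this with h | h
      · simp [sub_eq_zero.mp h]
      · simp [eq_neg_of_add_eq_zero_left h]
  have e2 := Finset.card_le_card e
  by_cases h20 : (2 : F) = 0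
  · simp only [h20, neg_zero, Finset.insert_eq_of_mem, Finset.mem_insert, Finset.mem_singleton, true_or] at e2
    rw [Finset.card_singleton] at e2
    omega
  · have hne : (1 : F) ≠ -1 := fun h => h20 (by linear_combination h)
    have hS' : S.card ≤ q - 3 := by
      refine le_trans (Finset.card_le_card (t := ((Finset.univ.erase 0).erase 1).erase (-1)) fun u hu => by
        simp [S] at hu ⊢; tauto) ?_
      rw [Finset.card_erase_of_mem (by simp [hne.symm]), Finset.card_erase_of_mem (by simp),
        Finset.card_erase_of_mem (Finset.mem_univ _), Finset.card_univ]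
      omega
    have := e2.trans Finset.card_le_three
    omega

end Cfsg.Agent.KS58
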