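import Mathlib

/-!
Element orders of direct powers, units of algebras inside `GL_n`, and the irreducible factors of minimal polynomials
over a finite field. Used for the spectra of powers of linear groups.
-/

set_option autoImplicit false

namespace Cfsg.Agent.KS58

open Polynomial

theorem prime_pow_dvd_finset_lcm {ι : Type*} (s : Finset ι) (a : ι → ℕ) (ha : ∀ i ∈ s, a i ≠ 0)
    {p k : ℕ} (hp : p.Prime) (hk : 0 < k) (h : p ^ k ∣ s.lcm a) : ∃ i ∈ s, p ^ k ∣ a i := by
  classical
  induction s using Finset.induction with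
  | empty =>
    simp only [Finset.lcm_empty, Nat.dvd_one] at h
    have := Nat.one_lt_pow (Nat.pos_iff_ne_zero.mp hk) hp.one_lt
    omega
  | insert i s hi ih =>
    have h0 : s.lcm a ≠ 0 := by
      rw [Ne, Finset.lcm_eq_zero_iff]
      rintro ⟨j, hj, hj0⟩
      exact ha j (Finset.mem_insert_of_mem hj) hj0
    have hi0 := ha i (Finset.mem_insert_self _ _)
    rw [Finset.lcm_insert, lcm_eq_nat_lcm,
      hp.pow_dvd_iff_le_factorization (Nat.lcm_ne_zero hi0 h0), Nat.factorization_lcm hi0 h0,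
      Finsupp.sup_apply, le_sup_iff] at h
    rcases h with h | h
    · exact ⟨i, Finset.mem_insert_self _ _, (hp.pow_dvd_iff_le_factorization hi0).mpr h⟩
    · obtain ⟨j, hj, hj'⟩ := ih (fun j hj => ha j (Finset.mem_insert_of_mem hj))
        ((hp.pow_dvd_iff_le_factorization h0).mpr h)
      exact ⟨j, Finset.mem_insert_of_mem hj, hj'⟩

theorem eq_lcm_gcd_of_dvd {ι : Type*} (s : Finset ι) (a : ι → ℕ) (ha : ∀ i ∈ s, a i ≠ 0) {L : ℕ}
    (h : L ∣ s.lcm a) : s.lcm (fun i => Nat.gcd L (a i)) = L := by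
  refine Nat.dvd_antisymm (Finset.lcm_dvd fun i _ => Nat.gcd_dvd_left _ _) ?_
  rw [Nat.dvd_iff_prime_pow_dvd_dvd]
  intro p k hp hpk
  rcases Nat.eq_zero_or_pos k with rfl | hk
  · simp
  obtain ⟨i, hi, hi'⟩ := prime_pow_dvd_finset_lcm s a ha hp hk (hpk.trans h)
  exact (Nat.dvd_gcd hpk hi').trans (Finset.dvd_lcm (f := fun i => Nat.gcd L (a i)) hi)

theorem orderOf_pi {ι G : Type*} [Fintype ι] [Monoid G] (x : ι → G) :
    orderOf x = Finset.univ.lcm fun i => orderOf (x i) := by
  apply Nat.dvd_antisymm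
  · rw [orderOf_dvd_iff_pow_eq_one]
    funext i
    rw [Pi.pow_apply, Pi.one_apply, ← orderOf_dvd_iff_pow_eq_one]
    exact Finset.dvd_lcm (f := fun i => orderOf (x i)) (Finset.mem_univ i)
  · exact Finset.lcm_dvd fun i _ => orderOf_map_dvd (Pi.evalMonoidHom (fun _ => G) i) x

theorem exists_orderOf_eq_of_dvd {G : Type*} [Group G] [Finite G] (x : G) {d : ℕ}
    (h : d ∣ orderOf x) : ∃ y : G, orderOf y = d :=
  ⟨x ^ (orderOf x / d), orderOf_pow_orderOf_div (orderOf_pos x).ne' h⟩

/-- The units of a finite-dimensional algebra, acting on themselves plus a trivial complement. -/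
theorem exists_units_hom {F A : Type*} [Field F] [CommRing A] [Algebra F A] [Module.Finite F A]
    (n : ℕ) (h : Module.finrank F A ≤ n) :
    ∃ φ : Aˣ →* GL (Fin n) F, Function.Injective φ ∧
      ∀ a : Aˣ, (φ a : Matrix (Fin n) (Fin n) F).det = Algebra.norm F (a : A) := by
  classical
  let W := Fin (n - Module.finrank F A) → F
  let e : Fin (Module.finrank F A) ⊕ Fin (n - Module.finrank F A) ≃ Fin n :=
    finSumFinEquiv.trans (finCongr (by omega))
  let b : Module.Basis (Fin n) F (A × W) := ((Module.finBasis F A).prod (Pi.basisFun F _)).reindex e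
  let ψ : A →* Module.End F (A × W) :=
    { toFun := fun a => LinearMap.prodMap (Algebra.lmul F A a) LinearMap.id
      map_one' := by ext <;> simp
      map_mul' := fun a a' => by ext <;> simp [mul_assoc] }
  let T := LinearMap.toMatrixAlgEquiv b
  refine ⟨Units.map ((T : Module.End F (A × W) →* Matrix (Fin n) (Fin n) F).comp ψ), ?_, ?_⟩
  · refine Units.map_injective (T.injective.comp ?_)
    intro a a' h
    have := congrArg (fun f : Module.End F (A × W) => (f (1, 0)).1) h
    simpa [ψ] using this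
  · intro a
    show (LinearMap.toMatrix b b (LinearMap.prodMap (Algebra.lmul F A (a : A)) LinearMap.id)).det = _
    rw [LinearMap.det_toMatrix, LinearMap.det_prodMap, LinearMap.det_id, mul_one]
    rfl

variable {F : Type*} [Field F] [Fintype F]

theorem irreducible_dvd_X_pow_card_sub_one {q : F[X]} (hq : Irreducible q) (h0 : ¬ q ∣ X) :
    q ∣ X ^ (Fintype.card F ^ q.natDegree - 1) - 1 := by
  classical
  haveI := Fact.mk hq
  have : Module.Finite F (AdjoinRoot q) := (AdjoinRoot.powerBasis hq.ne_zero).finite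
  haveI : Finite (AdjoinRoot q) := Module.finite_of_finite F
  letI := Fintype.ofFinite (AdjoinRoot q)
  have hc : Fintype.card (AdjoinRoot q) = Fintype.card F ^ q.natDegree := by
    rw [Module.card_eq_pow_finrank (K := F), (AdjoinRoot.powerBasis hq.ne_zero).finrank,
      AdjoinRoot.powerBasis_dim]
  have hr : AdjoinRoot.root q ≠ 0 := by
    rwa [← AdjoinRoot.mk_X, Ne, AdjoinRoot.mk_eq_zero]
  rw [← AdjoinRoot.mk_eq_zero, map_sub, map_pow, AdjoinRoot.mk_X, map_one, ← hc,
    FiniteField.pow_card_sub_one_eq_one _ hr, sub_self]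

/-- A polynomial of degree at most `B` not divisible by `X` divides `(X^M - 1)^B` as soon as
`|F|^d - 1` divides `M` for each `d` between `1` and its degree. -/
theorem dvd_X_pow_sub_one_pow {M B : ℕ} (f : F[X]) (hf : f ≠ 0) (hX : ¬ X ∣ f) (hB : f.natDegree ≤ B)
    (hM : ∀ d, 1 ≤ d → d ≤ f.natDegree → Fintype.card F ^ d - 1 ∣ M) :
    f ∣ (X ^ M - 1) ^ B := by
  induction f using UniqueFactorizationMonoid.induction_on_coprime with
  | h0 => exact absurd rfl hf
  | h1 hu => exact hu.dvd
  | hpr i hp =>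
    rcases Nat.eq_zero_or_pos i with rfl | hi
    · simp
    rename_i q
    have hq : Irreducible q := hp.irreducible
    have hd : 1 ≤ q.natDegree := hq.natDegree_pos
    have hdeg : (q ^ i).natDegree = i * q.natDegree := natDegree_pow _ _
    have h0 : ¬ q ∣ X := fun h => hX (((hq.associated_of_dvd irreducible_X h).symm.dvd).trans
      (dvd_pow_self q (by omega)))
    refine (pow_dvd_pow q (le_trans ?_ hB)).trans (pow_dvd_pow_of_dvd ?_ B)
    · rw [hdeg]; exact Nat.le_mul_of_pos_right _ hd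
    · refine (irreducible_dvd_X_pow_card_sub_one hq h0).trans ?_
      have := hM q.natDegree hd (by rw [hdeg]; exact Nat.le_mul_of_pos_left _ hi)
      obtain ⟨c, rfl⟩ := this
      rw [pow_mul]
      exact sub_one_dvd_pow_sub_one _ c
  | hcp hco hx hy =>
    rename_i a b
    obtain ⟨ha, hb⟩ := mul_ne_zero_iff.mp hf
    rw [natDegree_mul ha hb] at hB hM
    refine IsCoprime.mul_dvd ?_ (hx ha (fun h => hX (h.mul_right _)) (by omega)
        (fun d h1 h2 => hM d h1 (by omega)))
      (hy hb (fun h => hX (h.mul_left _)) (by omega) (fun d h1 h2 => hM d h1 (by omega)))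
    exact hco.isCoprime

theorem X_not_dvd_charpoly {n : Type*} [Fintype n] [DecidableEq n] (g : GL n F) :
    ¬ X ∣ (g : Matrix n n F).charpoly := by
  intro h
  rw [X_dvd_iff] at h
  have := Matrix.det_eq_sign_charpoly_coeff (g : Matrix n n F)
  rw [h, mul_zero] at this
  exact ((Matrix.isUnit_iff_isUnit_det _).mp g.isUnit).ne_zero this

theorem aeval_eq_zero_of_dvd {R : Type*} [Ring R] [Algebra F R] {x : R} {f g : F[X]} (h : f ∣ g)
    (hf : aeval x f = 0) : aeval x g = 0 := by
  obtain ⟨c, rfl⟩ := h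
  rw [map_mul, hf, zero_mul]

/-- `GL_n(q)` has exponent dividing `p^e * M`, `p^e ≥ n`, `M` a common multiple of the `q^d - 1`. -/
theorem gl_pow_eq_one {p : ℕ} [Fact p.Prime] [CharP F p] {n : ℕ} (g : GL (Fin n) F) {M e : ℕ}
    (he : n ≤ p ^ e) (hM : ∀ d, 1 ≤ d → d ≤ n → Fintype.card F ^ d - 1 ∣ M) :
    g ^ (M * p ^ e) = 1 := by
  have hdeg : (g : Matrix (Fin n) (Fin n) F).charpoly.natDegree = n := by
    rw [Matrix.charpoly_natDegree_eq_dim, Fintype.card_fin]
  have := aeval_eq_zero_of_dvd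
    (dvd_X_pow_sub_one_pow (M := M) (B := p ^ e) _ (Matrix.charpoly_monic _).ne_zero
      (X_not_dvd_charpoly g) (by omega) (fun d h1 h2 => hM d h1 (by omega)))
    (Matrix.aeval_self_charpoly (g : Matrix (Fin n) (Fin n) F))
  rw [sub_pow_char_pow, one_pow, ← pow_mul, map_sub, map_pow, aeval_X, map_one, sub_eq_zero] at this
  exact Units.ext (by rw [Units.val_pow_eq_pow_val, this, Units.val_one])

theorem exists_gl_order_card_pow_sub_one {n d : ℕ} (hd : 1 ≤ d) (hdn : d ≤ n) :
    ∃ g : GL (Fin n) F, orderOf g = Fintype.card F ^ d - 1 := by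
  classical
  haveI : Fact (Nat.Prime (ringChar F)) := ⟨CharP.char_is_prime F _⟩
  haveI : NeZero d := ⟨by omega⟩
  let E := FiniteField.Extension F (ringChar F) d
  obtain ⟨φ, hφ, -⟩ := exists_units_hom (F := F) (A := E) n
    (by rw [FiniteField.finrank_extension]; exact hdn)
  obtain ⟨z, hz⟩ := IsCyclic.exists_generator (α := Eˣ)
  exact ⟨φ z, by rw [orderOf_injective φ hφ, orderOf_eq_card_of_forall_mem_zpowers hz, Nat.card_units,
    FiniteField.natCard_extension, Nat.card_eq_fintype_card]⟩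

theorem exists_gl_unipotent_order {p : ℕ} [Fact p.Prime] [CharP F p] {n m e : ℕ} (hm : m ≤ n)
    (h1 : m ≤ p ^ (e + 1)) (h2 : p ^ e < m) :
    ∃ g : GL (Fin n) F, orderOf g = p ^ (e + 1) := by
  classical
  let f : F[X] := (X - C 1) ^ m
  have hf : f.Monic := (monic_X_sub_C _).pow m
  have hfd : f.natDegree = m := by rw [natDegree_pow, natDegree_X_sub_C, mul_one]
  have : Module.Finite F (AdjoinRoot f) := (AdjoinRoot.powerBasis hf.ne_zero).finite
  obtain ⟨φ, hφ, -⟩ := exists_units_hom (F := F) (A := AdjoinRoot f) n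
    (by rw [(AdjoinRoot.powerBasis hf.ne_zero).finrank, AdjoinRoot.powerBasis_dim, hfd]; exact hm)
  have key : ∀ j, AdjoinRoot.root f ^ p ^ j = 1 ↔ m ≤ p ^ j := by
    intro j
    have : AdjoinRoot.mk f ((X - C 1) ^ p ^ j) = AdjoinRoot.root f ^ p ^ j - 1 := by
      rw [sub_pow_char_pow, ← C_pow, one_pow, map_sub, map_pow, AdjoinRoot.mk_X, C_1, map_one]
    rw [← sub_eq_zero, ← this, AdjoinRoot.mk_eq_zero, pow_dvd_pow_iff (X_sub_C_ne_zero 1) (not_isUnit_X_sub_C 1)]
  let u : (AdjoinRoot f)ˣ := Units.ofPowEqOne _ (p ^ (e + 1)) ((key _).mpr h1) (pow_ne_zero _ (Fact.out : p.Prime).ne_zero)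
  refine ⟨φ u, ?_⟩
  rw [orderOf_injective φ hφ, ← orderOf_units]
  exact orderOf_eq_prime_pow (fun h => absurd ((key e).mp h) (not_le.mpr h2)) ((key _).mpr h1)

end Cfsg.Agent.KS58
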