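import Mathlib
import Cfsg.Agent.Lib.Symplectic.Simple
import Cfsg.Agent.Lib.Forms.Symp
import Cfsg.Agent.KnownSimple58.Spectrum

/-!
Elements of symplectic groups: the tori of order `q^n ± 1`, block sums and regular unipotent elements.
-/

set_option autoImplicit false

namespace Cfsg.Agent.KS58.SpEl

open Cfsg.Agent.Symplectic Matrix

variable {F : Type*} [Field F]

theorem exists_sl2_hom [Fintype F] {n : ℕ} (E : Type*) [Field E] [Algebra F E] [Module.Finite F E]
    (hE : Module.finrank F E = n) :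
    ∃ ψ : Matrix.SpecialLinearGroup (Fin 2) E →* Sp n F, Function.Injective ψ := by
  classical
  haveI : Finite E := Module.finite_of_finite F
  let b : Module.Basis (Fin n) F E := Module.finBasisOfFinrankEq F E hE
  have hB : (Algebra.traceForm F E).Nondegenerate := traceForm_nondegenerate F E
  let b' : Module.Basis (Fin n) F E := (Algebra.traceForm F E).dualBasis hB b
  have hbb : ∀ i j, Algebra.trace F E (b' i * b j) = if j = i then 1 else 0 := fun i j => by
    rw [← Algebra.traceForm_apply]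
    exact LinearMap.BilinForm.apply_dualBasis_left hB b i j
  let Φ : Vec n F ≃ₗ[F] (Fin 2 → E) :=
    ((LinearEquiv.sumArrowLequivProdArrow (Fin n) (Fin n) F F).trans
      (b.equivFun.symm.prodCongr b'.equivFun.symm)).trans (LinearEquiv.finTwoArrow F E).symm
  have hΦ : ∀ u v : Vec n F, Cfsg.sympForm n F u v = Algebra.trace F E (Φ u 1 * Φ v 0 - Φ u 0 * Φ v 1) := by
    intro u v
    have h0 : ∀ w : Vec n F, Φ w 0 = ∑ i, w (Sum.inl i) • b i := fun w => b.equivFun_symm_apply _
    have h1 : ∀ w : Vec n F, Φ w 1 = ∑ i, w (Sum.inr i) • b' i := fun w => b'.equivFun_symm_apply _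
    have key : ∀ c d : Fin n → F, Algebra.trace F E ((∑ i, c i • b' i) * ∑ j, d j • b j) = ∑ i, c i * d i := by
      intro c d
      simp only [Finset.sum_mul_sum, smul_mul_smul_comm, map_sum, map_smul, hbb, smul_eq_mul, mul_ite, mul_one,
        mul_zero, Finset.sum_ite_eq', Finset.mem_univ, if_true]
    rw [map_sub, mul_comm (Φ u 0), h0, h0, h1, h1, key, key, sympForm_eq_sum, ← Finset.sum_sub_distrib]
    exact Finset.sum_congr rfl fun i _ => by ring
  let L : Matrix.SpecialLinearGroup (Fin 2) E → (Vec n F →ₗ[F] Vec n F) := fun M =>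
    Φ.symm.toLinearMap ∘ₗ ((M : Matrix (Fin 2) (Fin 2) E).mulVecLin.restrictScalars F) ∘ₗ Φ.toLinearMap
  have hL : ∀ M u, Φ (L M u) = (M : Matrix (Fin 2) (Fin 2) E) *ᵥ Φ u := fun M u => Φ.apply_symm_apply _
  have hLf : ∀ M u v, Cfsg.sympForm n F (L M u) (L M v) = Cfsg.sympForm n F u v := by
    intro M u v
    rw [hΦ, hΦ, hL, hL]
    congr 1
    have hd := M.2
    rw [Matrix.det_fin_two] at hd
    simp only [Matrix.mulVec, dotProduct, Fin.sum_univ_two]
    linear_combination (Φ u 1 * Φ v 0 - Φ u 0 * Φ v 1) * hd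
  have hS : ∀ M u, Φ (Forms.spOfLinearMap (L M) (hLf M) • u) = (M : Matrix (Fin 2) (Fin 2) E) *ᵥ Φ u :=
    fun M u => (congrArg Φ (LinearMap.toMatrix'_mulVec (L M) u)).trans (hL M u)
  let ψ : Matrix.SpecialLinearGroup (Fin 2) E →* Sp n F :=
    { toFun := fun M => Forms.spOfLinearMap (L M) (hLf M)
      map_one' := eq_of_smul_eq fun u => Φ.injective (by
        rw [hS, one_smul, Matrix.SpecialLinearGroup.coe_one, Matrix.one_mulVec])
      map_mul' := fun M N => eq_of_smul_eq fun u => Φ.injective (by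
        rw [mul_smul, hS, hS, hS,
          Matrix.SpecialLinearGroup.coe_mul, Matrix.mulVec_mulVec]) }
  refine ⟨ψ, fun M N h => Subtype.ext (Matrix.ext_of_mulVec_single fun i => ?_)⟩
  have := congrArg (fun g : Sp n F => Φ (g • Φ.symm (Pi.single i 1))) h
  simp only [ψ, MonoidHom.coe_mk, OneHom.coe_mk] at this
  rw [hS, hS, LinearEquiv.apply_symm_apply] at this
  exact this

theorem exists_sl2_torus (E : Type*) [Field E] [Fintype E] :
    (∃ z : Matrix.SpecialLinearGroup (Fin 2) E, orderOf z = Fintype.card E - 1) ∧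
    (∃ z : Matrix.SpecialLinearGroup (Fin 2) E, orderOf z = Fintype.card E + 1) := by
  classical
  haveI : Fact (Nat.Prime (ringChar E)) := ⟨CharP.char_is_prime E _⟩
  constructor
  · obtain ⟨t, ht⟩ := IsCyclic.exists_generator (α := Eˣ)
    let δ : Eˣ →* Matrix.SpecialLinearGroup (Fin 2) E :=
      { toFun := fun x => ⟨Matrix.diagonal ![(x : E), ((x⁻¹ : Eˣ) : E)], by simp [Matrix.det_diagonal]⟩
        map_one' := Subtype.ext (by
          show Matrix.diagonal _ = (1 : Matrix (Fin 2) (Fin 2) E)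
          rw [← Matrix.diagonal_one]; congr 1; funext i; fin_cases i <;> simp)
        map_mul' := fun x y => Subtype.ext (by
          show Matrix.diagonal _ = Matrix.diagonal _ * Matrix.diagonal _
          rw [Matrix.diagonal_mul_diagonal]; congr 1; funext i; fin_cases i <;> simp [mul_comm]) }
    have hδ : Function.Injective δ := fun x y h => Units.ext (by
      have := congrArg (fun M : Matrix.SpecialLinearGroup (Fin 2) E => (M : Matrix (Fin 2) (Fin 2) E) 0 0) h
      change Matrix.diagonal _ 0 0 = Matrix.diagonal _ 0 0 at this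
      simpa using this)
    refine ⟨δ t, ?_⟩
    rw [orderOf_injective δ hδ, orderOf_eq_card_of_forall_mem_zpowers ht, Nat.card_eq_fintype_card, Fintype.card_units]
  · let K := FiniteField.Extension E (ringChar E) 2
    obtain ⟨φ, hφ, hdet⟩ := exists_units_hom (F := E) (A := K) 2 (FiniteField.finrank_extension E (ringChar E) 2).le
    obtain ⟨w, hw⟩ := IsCyclic.exists_generator (α := Kˣ)
    set Q := Fintype.card E with hQ
    have hQ1 : 1 < Q := Fintype.one_lt_card
    have hwo : orderOf w = (Q + 1) * (Q - 1) := by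
      rw [orderOf_eq_card_of_forall_mem_zpowers hw, Nat.card_units, FiniteField.natCard_extension,
        Nat.card_eq_fintype_card, ← hQ, ← Nat.sq_sub_sq, one_pow]
    have hzo : orderOf (w ^ (Q - 1)) = Q + 1 := by
      rw [orderOf_pow' w (by omega), hwo, Nat.gcd_eq_right (Dvd.intro_left _ rfl), Nat.mul_div_cancel _ (by omega)]
    have hz1 : (φ (w ^ (Q - 1)) : Matrix (Fin 2) (Fin 2) E).det = 1 := by
      rw [hdet, Units.val_pow_eq_pow_val, map_pow,
        FiniteField.pow_card_sub_one_eq_one _ (fun h => w.ne_zero (Algebra.norm_eq_zero_iff.mp h))]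
    let S : Matrix.SpecialLinearGroup (Fin 2) E := ⟨_, hz1⟩
    refine ⟨S, ?_⟩
    rw [← hzo, ← orderOf_injective φ hφ, ← orderOf_injective Matrix.SpecialLinearGroup.toGL
      Matrix.SpecialLinearGroup.toGL_injective S]
    congr 1
    exact Units.ext rfl

/-- The two tori of `Sp_{2a}(q)`. -/
theorem exists_sp_torus [Fintype F] {a : ℕ} (ha : 1 ≤ a) :
    (∃ z : Sp a F, orderOf z = Fintype.card F ^ a - 1) ∧ (∃ z : Sp a F, orderOf z = Fintype.card F ^ a + 1) := by
  classical
  haveI : Fact (Nat.Prime (ringChar F)) := ⟨CharP.char_is_prime F _⟩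
  haveI : NeZero a := ⟨by omega⟩
  let E := FiniteField.Extension F (ringChar F) a
  haveI : Fintype E := Fintype.ofFinite E
  have hcard : Fintype.card E = Fintype.card F ^ a := by
    rw [← Nat.card_eq_fintype_card, FiniteField.natCard_extension, Nat.card_eq_fintype_card]
  obtain ⟨ψ, hψ⟩ := exists_sl2_hom E (FiniteField.finrank_extension F (ringChar F) a)
  obtain ⟨⟨x, hx⟩, y, hy⟩ := exists_sl2_torus E
  exact ⟨⟨ψ x, by rw [orderOf_injective ψ hψ, hx, hcard]⟩, ψ y, by rw [orderOf_injective ψ hψ, hy, hcard]⟩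

section Sum

variable {a b : ℕ}

/-- Coordinates of a block sum. -/
def splitVec (a b : ℕ) (F : Type*) [Field F] : Vec (a + b) F ≃ₗ[F] Vec a F × Vec b F where
  toFun u := (fun j => u (Sum.map (Fin.castAdd b) (Fin.castAdd b) j), fun j => u (Sum.map (Fin.natAdd a) (Fin.natAdd a) j))
  invFun p := Sum.elim (Fin.append (fun i => p.1 (Sum.inl i)) fun i => p.2 (Sum.inl i))
    (Fin.append (fun i => p.1 (Sum.inr i)) fun i => p.2 (Sum.inr i))
  map_add' _ _ := rfl
  map_smul' _ _ := rfl
  left_inv u := by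
    funext j
    rcases j with j | j <;> induction j using Fin.addCases <;> simp
  right_inv p := by
    refine Prod.ext (funext fun j => ?_) (funext fun j => ?_) <;> rcases j with j | j <;> simp

theorem sympForm_split (u v : Vec (a + b) F) : Cfsg.sympForm (a + b) F u v =
    Cfsg.sympForm a F (splitVec a b F u).1 (splitVec a b F v).1 +
      Cfsg.sympForm b F (splitVec a b F u).2 (splitVec a b F v).2 := by
  simp only [sympForm_eq_sum, Fin.sum_univ_add]
  rfl

/-- The underlying map of a block sum. -/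
noncomputable def sumLin (g : Sp a F) (h : Sp b F) : Vec (a + b) F →ₗ[F] Vec (a + b) F :=
  (splitVec a b F).symm.toLinearMap ∘ₗ ((g : Matrix _ _ F).mulVecLin.prodMap (h : Matrix _ _ F).mulVecLin) ∘ₗ
    (splitVec a b F).toLinearMap

theorem split_sumLin (g : Sp a F) (h : Sp b F) (u : Vec (a + b) F) :
    splitVec a b F (sumLin g h u) = (g • (splitVec a b F u).1, h • (splitVec a b F u).2) :=
  (splitVec a b F).apply_symm_apply _

theorem sumLin_form (g : Sp a F) (h : Sp b F) (u v : Vec (a + b) F) :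
    Cfsg.sympForm (a + b) F (sumLin g h u) (sumLin g h v) = Cfsg.sympForm (a + b) F u v := by
  rw [sympForm_split, sympForm_split, split_sumLin, split_sumLin]
  simp

theorem split_spOf (g : Sp a F) (h : Sp b F) (u : Vec (a + b) F) :
    splitVec a b F (Forms.spOfLinearMap (sumLin g h) (sumLin_form g h) • u) =
      (g • (splitVec a b F u).1, h • (splitVec a b F u).2) :=
  (congrArg (splitVec a b F) (LinearMap.toMatrix'_mulVec (sumLin g h) u)).trans (split_sumLin g h u)

/-- The block sum. -/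
noncomputable def blockSum : Sp a F × Sp b F →* Sp (a + b) F where
  toFun p := Forms.spOfLinearMap (sumLin p.1 p.2) (sumLin_form p.1 p.2)
  map_one' := eq_of_smul_eq fun u => (splitVec a b F).injective (by
    rw [split_spOf, one_smul]; simp)
  map_mul' p q := eq_of_smul_eq fun u => (splitVec a b F).injective (by
    rw [mul_smul, split_spOf, split_spOf, split_spOf, Prod.fst_mul, Prod.snd_mul, mul_smul, mul_smul])

theorem split_blockSum (p : Sp a F × Sp b F) (u : Vec (a + b) F) :
    splitVec a b F (blockSum p • u) = (p.1 • (splitVec a b F u).1, p.2 • (splitVec a b F u).2) :=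
  split_spOf p.1 p.2 u

theorem blockSum_injective : Function.Injective (blockSum : Sp a F × Sp b F →* Sp (a + b) F) := by
  intro p q h
  refine Prod.ext (eq_of_smul_eq fun v => ?_) (eq_of_smul_eq fun v => ?_)
  · have := congrArg (fun g : Sp (a + b) F => (splitVec a b F (g • (splitVec a b F).symm (v, 0))).1) h
    simpa [split_blockSum] using this
  · have := congrArg (fun g : Sp (a + b) F => (splitVec a b F (g • (splitVec a b F).symm (0, v))).2) h
    simpa [split_blockSum] using this

theorem blockSum_negOne : blockSum ((negOne : Sp a F), (negOne : Sp b F)) = negOne :=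
  eq_of_smul_eq fun u => (splitVec a b F).injective (by
    rw [split_blockSum, negOne_smul, negOne_smul, negOne_smul, map_neg, Prod.neg_mk])

end Sum

section Unipotent

variable {b : ℕ}

/-- The two halves of the regular nilpotent element of `sp_{2b}`. -/
def nilA (b : ℕ) (F : Type*) [Field F] : Matrix (Fin b) (Fin b) F :=
  Matrix.of fun j i => if (j : ℕ) + i + 1 = b then 1 else 0

/-- The second half. -/
def nilB (b : ℕ) (F : Type*) [Field F] : Matrix (Fin b) (Fin b) F :=
  Matrix.of fun j i => if (j : ℕ) + i = b then 1 else 0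

theorem nilA_mul_nilB_pow (k : ℕ) (j i : Fin b) :
    ((nilA b F * nilB b F) ^ k) j i = if (i : ℕ) = j + k then 1 else 0 := by
  induction k generalizing j i with
  | zero => rw [pow_zero, Matrix.one_apply]; simp [Fin.ext_iff, eq_comm]
  | succ k ih =>
    rw [pow_succ, Matrix.mul_apply]
    have hAB : ∀ c : Fin b, (nilA b F * nilB b F) c i = if (i : ℕ) = c + 1 then 1 else 0 := by
      intro c
      rw [Matrix.mul_apply, Finset.sum_eq_single ⟨b - 1 - c, by omega⟩]
      · simp only [nilA, nilB, Matrix.of_apply]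
        rw [if_pos (by omega), one_mul]
        exact if_congr (by omega) rfl rfl
      · intro d _ hd
        simp only [nilA, Matrix.of_apply]
        rw [if_neg (fun h => hd (Fin.ext (by simp only; omega))), zero_mul]
      · simp
    simp only [ih, hAB]
    by_cases h : (j : ℕ) + k < b
    · rw [Finset.sum_eq_single ⟨(j : ℕ) + k, h⟩]
      · simp only [if_true, one_mul]
        exact if_congr (by omega) rfl rfl
      · intro c _ hc
        rw [if_neg (fun h' => hc (Fin.ext h')), zero_mul]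
      · simp
    · rw [if_neg (by omega)]
      exact Finset.sum_eq_zero fun c _ => by rw [if_neg (by omega), zero_mul]

/-- A regular nilpotent element of `sp_{2b}`. -/
def nilN (b : ℕ) (F : Type*) [Field F] : Matrix (Fin b ⊕ Fin b) (Fin b ⊕ Fin b) F :=
  Matrix.fromBlocks 0 (nilA b F) (nilB b F) 0

theorem nilN_pow_two_mul (k : ℕ) :
    nilN b F ^ (2 * k) = Matrix.fromBlocks ((nilA b F * nilB b F) ^ k) 0 0 ((nilB b F * nilA b F) ^ k) := by
  induction k with
  | zero => simp [Matrix.fromBlocks_one]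
  | succ k ih =>
    rw [Nat.mul_succ, pow_add, ih, sq, nilN, Matrix.fromBlocks_multiply, Matrix.fromBlocks_multiply, pow_succ, pow_succ]
    simp

theorem nilN_pow_self : nilN b F ^ (2 * b + 1) = 0 := by
  have h : (nilA b F * nilB b F) ^ b = 0 := by
    ext j i
    rw [nilA_mul_nilB_pow, if_neg (by omega)]; rfl
  rw [pow_succ', nilN_pow_two_mul, nilN, Matrix.fromBlocks_multiply, h]
  have h2 : nilA b F * (nilB b F * nilA b F) ^ b = (nilA b F * nilB b F) ^ b * nilA b F := by
    rw [← (show SemiconjBy (nilA b F) (nilB b F * nilA b F) (nilA b F * nilB b F) from by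
      rw [SemiconjBy, Matrix.mul_assoc]).pow_right b |>.eq]
  simp [h2, h]

theorem nilN_pow_ne_zero {k : ℕ} (hk : k < 2 * b) : nilN b F ^ k ≠ 0 := by
  intro h
  have h' : nilN b F ^ (2 * b - 1) = 0 := by
    rw [show 2 * b - 1 = k + (2 * b - 1 - k) by omega, pow_add, h, zero_mul]
  rw [show 2 * b - 1 = 2 * (b - 1) + 1 by omega, pow_succ, nilN_pow_two_mul, nilN, Matrix.fromBlocks_multiply] at h'
  have h'' := congrFun (congrFun h' (Sum.inl ⟨0, by omega⟩)) (Sum.inr ⟨0, by omega⟩)
  simp only [Matrix.fromBlocks_apply₁₂, zero_mul, add_zero, Matrix.mul_apply, Matrix.zero_apply, nilA_mul_nilB_pow] at h''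
  rw [Finset.sum_eq_single ⟨b - 1, by omega⟩] at h''
  · rw [if_pos (by simp), one_mul, nilA, Matrix.of_apply, if_pos (by simp only; omega)] at h''
    exact one_ne_zero h''
  · intro c _ hc
    rw [if_neg (fun h3 => hc (Fin.ext (by simp only at h3 ⊢; omega))), zero_mul]
  · simp

theorem nilN_skew : (nilN b F)ᵀ * Matrix.J (Fin b) F = -(Matrix.J (Fin b) F * nilN b F) := by
  have hA : (nilA b F)ᵀ = nilA b F := by ext j i; simp [nilA, add_comm (j : ℕ)]
  have hB : (nilB b F)ᵀ = nilB b F := by ext j i; simp [nilB, add_comm (j : ℕ)]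
  simp [nilN, Matrix.J, Matrix.fromBlocks_transpose, Matrix.fromBlocks_multiply, hA, hB, Matrix.fromBlocks_neg]

/-- A unipotent element of order divisible by `p^(d+1)`, whenever `p^d < 2b`. -/
theorem exists_sp_unipotent {p : ℕ} [Fact p.Prime] [CharP F p] (h2 : (2 : F) ≠ 0) {d : ℕ} (hd : p ^ d < 2 * b) :
    ∃ u : Sp b F, ∃ c, orderOf u = p ^ c ∧ d < c := by
  set N := nilN b F with hN
  have hnil : IsNilpotent N := ⟨2 * b + 1, nilN_pow_self⟩
  obtain ⟨w, hw⟩ : IsUnit (1 - N) := hnil.isUnit_one_sub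
  have hc1 : Commute (N : Matrix _ _ F) (w : Matrix _ _ F) := by
    rw [hw]; exact (Commute.one_right _).sub_right (Commute.refl _)
  have hc : Commute N ((w⁻¹ : (Matrix (Fin b ⊕ Fin b) (Fin b ⊕ Fin b) F)ˣ) : Matrix (Fin b ⊕ Fin b) (Fin b ⊕ Fin b) F) := hc1.units_inv_right
  set W : Matrix (Fin b ⊕ Fin b) (Fin b ⊕ Fin b) F := ((w⁻¹ : (Matrix (Fin b ⊕ Fin b) (Fin b ⊕ Fin b) F)ˣ) : Matrix (Fin b ⊕ Fin b) (Fin b ⊕ Fin b) F) with hW
  have hW1 : (1 - N) * W = 1 := by rw [← hw, hW, Units.mul_inv]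
  have hWT : Wᵀ * (1 - N)ᵀ = 1 := by rw [← Matrix.transpose_mul, hW1, Matrix.transpose_one]
  have hmem : (1 + N) * W ∈ Matrix.symplecticGroup (Fin b) F := by
    rw [SymplecticGroup.mem_iff']
    have hp : (1 + N)ᵀ * Matrix.J (Fin b) F = Matrix.J (Fin b) F * (1 - N) := by
      rw [Matrix.transpose_add, Matrix.transpose_one, add_mul, one_mul, hN, nilN_skew, mul_sub, mul_one, ← sub_eq_add_neg]
    have hm : (1 - N)ᵀ * Matrix.J (Fin b) F = Matrix.J (Fin b) F * (1 + N) := by
      rw [Matrix.transpose_sub, Matrix.transpose_one, sub_mul, one_mul, hN, nilN_skew, mul_add, mul_one, sub_neg_eq_add]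
    calc ((1 + N) * W)ᵀ * Matrix.J (Fin b) F * ((1 + N) * W)
        = Wᵀ * ((1 + N)ᵀ * Matrix.J (Fin b) F) * (1 + N) * W := by rw [Matrix.transpose_mul]; noncomm_ring
      _ = Wᵀ * (Matrix.J (Fin b) F * (1 + N)) * ((1 - N) * W) := by
          rw [hp]
          have : (1 - N) * (1 + N) = (1 + N) * (1 - N) := by noncomm_ring
          calc Wᵀ * (Matrix.J (Fin b) F * (1 - N)) * (1 + N) * W
              = Wᵀ * Matrix.J (Fin b) F * ((1 - N) * (1 + N)) * W := by noncomm_ring
            _ = _ := by rw [this]; noncomm_ring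
      _ = Matrix.J (Fin b) F := by rw [hW1, mul_one, ← hm, ← mul_assoc, hWT, one_mul]
  let u : Sp b F := ⟨_, hmem⟩
  have hu : (u : Matrix (Fin b ⊕ Fin b) (Fin b ⊕ Fin b) F) - 1 = ((2 : F) • N) * W := by
    show (1 + N) * W - 1 = _
    have h3 : ((1 + N) * W - (1 - N) * W) = ((2 : F) • N) * W := by
      rw [← sub_mul, two_smul]; congr 1; abel
    rw [hW1] at h3
    exact h3
  have hpow : ∀ j, u ^ p ^ j = 1 ↔ N ^ p ^ j = 0 := by
    intro j
    haveI : CharP (Matrix (Fin b ⊕ Fin b) (Fin b ⊕ Fin b) F) p := by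
      rcases Nat.eq_zero_or_pos b with rfl | hb
      · omega
      haveI : Nonempty (Fin b ⊕ Fin b) := ⟨Sum.inl ⟨0, hb⟩⟩
      infer_instance
    have h3 : ((u : Matrix (Fin b ⊕ Fin b) (Fin b ⊕ Fin b) F) - 1) ^ p ^ j = (u : Matrix (Fin b ⊕ Fin b) (Fin b ⊕ Fin b) F) ^ p ^ j - 1 := by
      rw [sub_pow_char_pow_of_commute _ _ (Commute.one_right _), one_pow]
    rw [hu, (hc.smul_left (2 : F)).mul_pow, smul_pow] at h3
    rw [← Subtype.coe_inj, SubmonoidClass.coe_pow, OneMemClass.coe_one, ← sub_eq_zero, ← h3,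
      ((Units.isUnit (w⁻¹)).pow _).mul_left_eq_zero, smul_eq_zero, or_iff_right (pow_ne_zero _ h2)]
  have hord : orderOf u ∣ p ^ (2 * b + 1) := orderOf_dvd_of_pow_eq_one <| (hpow _).mpr <| by
    have : 2 * b + 1 ≤ p ^ (2 * b + 1) := (Nat.lt_pow_self (Fact.out : p.Prime).one_lt).le
    rw [← Nat.add_sub_cancel' this, pow_add, nilN_pow_self, zero_mul]
  obtain ⟨c, -, hc'⟩ := (Nat.dvd_prime_pow Fact.out).mp hord
  refine ⟨u, c, hc', ?_⟩
  by_contra hle
  refine nilN_pow_ne_zero (F := F) hd ((hpow d).mp (orderOf_dvd_iff_pow_eq_one.mp ?_))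
  rw [hc']
  exact pow_dvd_pow p (by omega)

end Unipotent

end Cfsg.Agent.KS58.SpEl
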