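import Mathlib
import Cfsg.Agent.KnownSimple58.Spectrum

/-!
The dichotomy behind the spectra of `PSL_n(q)^k × Z_r^m`: an element of `SL_n(q)` either commutes with a
non-central element of order `r` (`r ∣ q - 1`, `r ∤ n`), or acts through a single field and a unipotent part.
-/

set_option autoImplicit false

namespace Cfsg.Agent.KS58

open Polynomial Matrix

/-- A non-unit polynomial is either a product of two coprime non-units or divides a power of an irreducible. -/
theorem coprime_split_or_prime_power {F : Type*} [Field F] (f : F[X]) (hf : f ≠ 0) (hu : ¬ IsUnit f) :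
    (∃ a b, f = a * b ∧ IsCoprime a b ∧ ¬ IsUnit a ∧ ¬ IsUnit b) ∨
      ∃ q i, Irreducible q ∧ f ∣ q ^ i ∧ q ∣ f ∧ i * q.natDegree = f.natDegree := by
  induction f using UniqueFactorizationMonoid.induction_on_coprime with
  | h0 => exact absurd rfl hf
  | h1 h => exact absurd h hu
  | hpr i hp =>
    rename_i q
    refine Or.inr ⟨q, i, hp.irreducible, dvd_rfl, dvd_pow_self q ?_, (natDegree_pow _ _).symm⟩
    rintro rfl
    simp at hu
  | hcp hco hx hy =>
    rename_i a b
    by_cases ha : IsUnit a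
    · have hb : ¬ IsUnit b := fun h => hu (ha.mul h)
      rcases hy (right_ne_zero_of_mul hf) hb with ⟨c, d, rfl, h1, h2, h3⟩ | ⟨q, i, hq, h1, h2, h3⟩
      · exact Or.inl ⟨a * c, d, (mul_assoc _ _ _).symm, (isCoprime_mul_unit_left_left ha _ _).mpr h1,
          fun h => h2 (isUnit_of_mul_isUnit_right h), h3⟩
      · exact Or.inr ⟨q, i, hq, (ha.mul_left_dvd).mpr h1, h2.mul_left a,
          by rw [natDegree_mul ha.ne_zero (right_ne_zero_of_mul hf), natDegree_eq_zero_of_isUnit ha, zero_add, h3]⟩
    · by_cases hb : IsUnit b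
      · rcases hx (left_ne_zero_of_mul hf) ha with ⟨c, d, rfl, h1, h2, h3⟩ | ⟨q, i, hq, h1, h2, h3⟩
        · exact Or.inl ⟨c, d * b, mul_assoc _ _ _, (isCoprime_mul_unit_right_right hb _ _).mpr h1,
            h2, fun h => h3 (isUnit_of_mul_isUnit_left h)⟩
        · exact Or.inr ⟨q, i, hq, (hb.mul_right_dvd).mpr h1, h2.mul_right b,
            by rw [natDegree_mul (left_ne_zero_of_mul hf) hb.ne_zero, natDegree_eq_zero_of_isUnit hb, add_zero, h3]⟩
      · exact Or.inl ⟨a, b, rfl, hco.isCoprime, ha, hb⟩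

/-- An element of a finite-dimensional algebra whose minimal polynomial has two coprime factors yields an
idempotent commuting with it. -/
theorem exists_idempotent_of_coprime {F A : Type*} [Field F] [Ring A] [Algebra F A] (x : A) {a b : F[X]}
    (h : minpoly F x = a * b) (hco : IsCoprime a b) (ha : ¬ IsUnit a) (hb : ¬ IsUnit b) :
    ∃ e : A, e * e = e ∧ e ≠ 0 ∧ e ≠ 1 ∧ Commute x e := by
  obtain ⟨u, v, huv⟩ := hco
  refine ⟨aeval x (u * a), ?_, ?_, ?_, ?_⟩
  · have h0 : aeval x (u * a * (1 - u * a)) = 0 := by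
      rw [show u * a * (1 - u * a) = a * b * (u * v) by linear_combination (- (u * a)) * huv, ← h, map_mul,
        minpoly.aeval, zero_mul]
    rwa [map_mul, map_sub, map_one, mul_sub, mul_one, sub_eq_zero, eq_comm] at h0
  · intro h0
    rw [← minpoly.dvd_iff, h] at h0
    have h1 : b ∣ u * a := (dvd_mul_left b a).trans h0
    have h2 : IsCoprime b (u * a) := ⟨v, 1, by linear_combination huv⟩
    exact hb (h2.isUnit_of_dvd' dvd_rfl h1)
  · intro h1
    have h0 : aeval x (v * b) = 0 := by
      rw [show v * b = 1 - u * a by linear_combination huv, map_sub, map_one, h1, sub_self]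
    rw [← minpoly.dvd_iff, h] at h0
    have h3 : a ∣ v * b := (dvd_mul_right a b).trans h0
    have h2 : IsCoprime a (v * b) := ⟨u, 1, by linear_combination huv⟩
    exact ha (h2.isUnit_of_dvd' dvd_rfl h3)
  · simpa using (Commute.all (X : F[X]) (u * a)).map (aeval x)

variable {F : Type*} [Field F] [Fintype F]

theorem aeval_pow_card_pow {R : Type*} [Ring R] [Algebra F R] (q : F[X]) (x : R) (j : ℕ) :
    aeval (x ^ Fintype.card F ^ j) q = aeval x q ^ Fintype.card F ^ j := by
  induction j generalizing x with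
  | zero => simp
  | succ j ih =>
    rw [pow_succ', pow_mul, ih, ← expand_aeval, FiniteField.expand_card, map_pow, ← pow_mul]

variable {n r : ℕ}

/-- `π : SL_n → PSL_n` -/
abbrev toPSL (n : ℕ) (F : Type*) [Field F] :
    Matrix.SpecialLinearGroup (Fin n) F →* Matrix.ProjectiveSpecialLinearGroup (Fin n) F :=
  QuotientGroup.mk' _

/-- An idempotent other than `0`, `1` gives an element of order `r` of `PSL_n`. -/
theorem exists_order_r_of_idempotent (hr : r.Prime) (hrq : r ∣ Fintype.card F - 1) (hrn : ¬ r ∣ n)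
    (e : Matrix (Fin n) (Fin n) F) (he : e * e = e) (h0 : e ≠ 0) (h1 : e ≠ 1) :
    ∃ u : Matrix.SpecialLinearGroup (Fin n) F, (∀ g : Matrix (Fin n) (Fin n) F, Commute g e →
      Commute g (u : Matrix (Fin n) (Fin n) F)) ∧ orderOf (toPSL n F u) = r := by
  classical
  haveI := Fact.mk hr
  obtain ⟨lu, hl⟩ : ∃ l : Fˣ, orderOf l = r :=
    exists_prime_orderOf_dvd_card r (by rwa [Fintype.card_units])
  let P := Matrix.toLin' e
  have hP : LinearMap.IsProj (LinearMap.range P) P := by
    refine ⟨fun x => ⟨x, rfl⟩, ?_⟩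
    rintro _ ⟨y, rfl⟩
    rw [← Module.End.mul_apply, Module.End.mul_eq_comp, ← Matrix.toLin'_mul, he]
  have hk := hP.isCompl
  set m := Module.finrank F (LinearMap.range P) with hm
  set w := Module.finrank F (LinearMap.ker P) with hw
  have hmw : m + w = n := by rw [hm, hw, Submodule.finrank_add_eq_of_isCompl hk, Module.finrank_fin_fun]
  have key : ∀ α β : F, (α • e + β • (1 - e)).det = α ^ m * β ^ w := by
    intro α β
    rw [← LinearMap.det_toLin']
    have := LinearMap.det_conj
      (LinearMap.prodMap (α • (LinearMap.id : ↥(LinearMap.range P) →ₗ[F] _))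
        (β • (LinearMap.id : ↥(LinearMap.ker P) →ₗ[F] _)))
      (Submodule.prodEquivOfIsCompl _ _ hk)
    rw [LinearMap.det_prodMap, LinearMap.det_smul, LinearMap.det_smul, LinearMap.det_id, LinearMap.det_id,
      mul_one, mul_one, ← hm, ← hw] at this
    rw [← this]
    congr 1
    apply LinearMap.ext
    intro x
    obtain ⟨⟨a, b⟩, rfl⟩ := (Submodule.prodEquivOfIsCompl _ _ hk).surjective x
    have ha : P (a : Fin n → F) = a := hP.map_id _ a.2
    have hb : P (b : Fin n → F) = 0 := b.2
    simp only [P] at ha hb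
    simp [Submodule.coe_prodEquivOfIsCompl', map_add, map_smul, ha, hb,
      Submodule.prodEquivOfIsCompl_symm_apply_left, Submodule.prodEquivOfIsCompl_symm_apply_right]
  let M : Fˣ → Matrix (Fin n) (Fin n) F := fun l => ((l ^ w : Fˣ) : F) • e + (((l⁻¹) ^ m : Fˣ) : F) • (1 - e)
  have hMdet : ∀ l : Fˣ, (M l).det = 1 := by
    intro l
    rw [key, ← Units.val_pow_eq_pow_val, ← Units.val_pow_eq_pow_val, ← Units.val_mul, ← pow_mul, ← pow_mul,
      Nat.mul_comm w m, ← mul_pow, mul_inv_cancel, one_pow, Units.val_one]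
  have h1e : e * (1 - e) = 0 := by rw [mul_sub, mul_one, he, sub_self]
  have h2e : (1 - e) * e = 0 := by rw [sub_mul, one_mul, he, sub_self]
  have h3e : (1 - e) * (1 - e) = 1 - e := by rw [sub_mul, one_mul, h1e, sub_zero]
  let φ : Fˣ →* Matrix.SpecialLinearGroup (Fin n) F :=
    { toFun := fun l => ⟨M l, hMdet l⟩
      map_one' := Subtype.ext (by simp [M])
      map_mul' := fun a b => Subtype.ext (by
        show M (a * b) = M a * M b
        simp only [M]
        rw [add_mul, mul_add, mul_add, smul_mul_smul_comm, smul_mul_smul_comm, smul_mul_smul_comm,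
          smul_mul_smul_comm, he, h1e, h2e, h3e, smul_zero, smul_zero, add_zero, zero_add, mul_pow,
          mul_inv, mul_pow, Units.val_mul, Units.val_mul]) }
  refine ⟨φ lu, fun g hg => ?_, ?_⟩
  · exact (hg.smul_right _).add_right (((Commute.one_right g).sub_right hg).smul_right _)
  refine orderOf_eq_prime ?_ ?_
  · rw [← map_pow, ← map_pow, ← hl, pow_orderOf_eq_one, map_one, map_one]
  · intro h
    rw [QuotientGroup.mk'_apply, QuotientGroup.eq_one_iff, Matrix.SpecialLinearGroup.mem_center_iff] at h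
    obtain ⟨c, -, hc⟩ := h
    change Matrix.scalar (Fin n) c = M lu at hc
    have hc' : c • (1 : Matrix (Fin n) (Fin n) F) = M lu := by rw [← hc, smul_one_eq_diagonal]; rfl
    have e1 : (((lu ^ w : Fˣ) : F) - c) • e = 0 := by
      have := congrArg (· * e) hc'
      simp only [M, add_mul, smul_mul_assoc, one_mul, he, h2e, smul_zero, add_zero] at this
      rw [sub_smul, this, sub_self]
    have e2 : ((((lu⁻¹) ^ m : Fˣ) : F) - c) • (1 - e) = 0 := by
      have := congrArg (· * (1 - e)) hc'
      simp only [M, add_mul, smul_mul_assoc, one_mul, h1e, h3e, smul_zero, zero_add] at this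
      rw [sub_smul, this, sub_self]
    rw [smul_eq_zero, sub_eq_zero] at e1 e2
    have heq : lu ^ w = (lu⁻¹) ^ m :=
      Units.ext ((e1.resolve_right h0).trans (e2.resolve_right (sub_ne_zero.mpr (Ne.symm h1))).symm)
    rw [inv_pow, eq_inv_iff_mul_eq_one, ← pow_add, Nat.add_comm, hmw, ← orderOf_dvd_iff_pow_eq_one, hl] at heq
    exact hrn heq

/-- `|Z(SL_n(q))|` -/
abbrev zN (n : ℕ) (F : Type*) [Fintype F] : ℕ := Nat.gcd n (Fintype.card F - 1)

/-- `(q^n - 1)/(q - 1)` -/
abbrev mN (n : ℕ) (F : Type*) [Fintype F] : ℕ := ∑ i ∈ Finset.range n, Fintype.card F ^ i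

omit [Field F] in
theorem zN_dvd_mN [Nonempty F] (n : ℕ) : zN n F ∣ mN n F := by
  have h1 : Fintype.card F ≡ 1 [MOD zN n F] :=
    ((Nat.modEq_iff_dvd' Fintype.card_pos).mpr (Nat.gcd_dvd_right _ _)).symm
  rw [← Nat.modEq_zero_iff_dvd]
  have h2 : mN n F ≡ ∑ i ∈ Finset.range n, 1 [MOD zN n F] :=
    Nat.ModEq.sum fun i _ => by simpa using h1.pow i
  refine h2.trans ?_
  rw [Finset.sum_const, Finset.card_range, smul_eq_mul, mul_one]
  exact Nat.modEq_zero_iff_dvd.mpr (Nat.gcd_dvd_left _ _)

/-- If the matrix `h` of determinant one satisfies an irreducible polynomial then a suitable power is scalar. -/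
theorem pow_mem_center_of_irreducible (h : Matrix.SpecialLinearGroup (Fin n) F) {q : F[X]} (hq : Irreducible q)
    (hn : 0 < n) (hh : aeval (h : Matrix (Fin n) (Fin n) F) q = 0) :
    h ^ (mN n F / zN n F) ∈ Subgroup.center (Matrix.SpecialLinearGroup (Fin n) F) := by
  classical
  haveI := Fact.mk hq
  let E := AdjoinRoot q
  have : Module.Finite F E := (AdjoinRoot.powerBasis hq.ne_zero).finite
  haveI : Finite E := Module.finite_of_finite F
  haveI : Nonempty (Fin n) := ⟨⟨0, hn⟩⟩
  let Φ : E →ₐ[F] Module.End F (Fin n → F) :=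
    Ideal.Quotient.liftₐ (Ideal.span {q}) (aeval (Matrix.toLinAlgEquiv' (h : Matrix (Fin n) (Fin n) F))) (by
      intro a ha
      obtain ⟨c, rfl⟩ := Ideal.mem_span_singleton'.mp ha
      rw [map_mul, aeval_algHom_apply _ _ q, hh, map_zero, mul_zero])
  have hroot : Φ (AdjoinRoot.root q) = Matrix.toLinAlgEquiv' (h : Matrix (Fin n) (Fin n) F) := by
    show aeval (Matrix.toLinAlgEquiv' (h : Matrix (Fin n) (Fin n) F)) X = _
    rw [aeval_X]
  letI : Module E (Fin n → F) := Module.compHom _ Φ.toRingHom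
  have hsmul : ∀ (a : E) (x : Fin n → F), a • x = Φ a x := fun a x => rfl
  haveI : IsScalarTower F E (Fin n → F) := ⟨fun c a x => by
    rw [hsmul, hsmul, map_smul]; rfl⟩
  haveI : Module.Finite E (Fin n → F) := Module.Finite.of_restrictScalars_finite F E _
  set e : E := AdjoinRoot.root q
  set k := Module.finrank E (Fin n → F) with hk
  set d := Module.finrank F E with hd
  have hnk : d * k = n := by rw [hd, hk, Module.finrank_mul_finrank, Module.finrank_fin_fun]
  let L : (Fin n → F) →ₗ[E] (Fin n → F) := e • LinearMap.id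
  have hdet : Algebra.norm F (e ^ k) = 1 := by
    have h1 : L.restrictScalars F = Matrix.toLin' (h : Matrix (Fin n) (Fin n) F) := by
      apply LinearMap.ext
      intro x
      show e • x = _
      rw [hsmul]
      rw [hroot]
      rfl
    have h2 : (L.restrictScalars F).det = Algebra.norm F L.det := LinearMap.det_restrictScalars
    rw [h1, LinearMap.det_toLin', h.2, LinearMap.det_smul, LinearMap.det_id, mul_one] at h2
    exact h2.symm
  have hM : mN n F = (∑ i ∈ Finset.range d, Fintype.card F ^ i) * ∑ j ∈ Finset.range k, Fintype.card F ^ (d * j) := by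
    rw [← hnk]
    have hq1 : 1 < Fintype.card F := Fintype.one_lt_card
    apply Nat.eq_of_mul_eq_mul_right (show 0 < Fintype.card F - 1 by omega)
    have g1 := geom_sum_mul_of_one_le (Nat.one_le_of_lt hq1) (d * k)
    have g2 := geom_sum_mul_of_one_le (Nat.one_le_of_lt hq1) d
    have g3 := geom_sum_mul_of_one_le (Nat.one_le_pow d _ (by omega : 0 < Fintype.card F)) k
    rw [mN, g1, mul_right_comm, g2, mul_comm (Fintype.card F ^ d - 1)]
    rw [pow_mul, ← g3]
    simp only [← pow_mul]
  have heM : e ^ mN n F = 1 := by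
    have hN : ∀ j, Algebra.norm F e ^ Fintype.card F ^ j = Algebra.norm F e := fun j => FiniteField.pow_card_pow j _
    rw [hM, pow_mul, ← Nat.card_eq_fintype_card, ← FiniteField.algebraMap_norm_eq_pow_sum, ← map_pow,
      Nat.card_eq_fintype_card, ← Finset.prod_pow_eq_pow_sum]
    simp only [hN]
    rw [Finset.prod_const, Finset.card_range, ← map_pow, hdet, map_one]
  obtain ⟨ζ, hζ⟩ := IsCyclic.exists_generator (α := Fˣ)
  have hord : orderOf ζ = Fintype.card F - 1 := by
    rw [orderOf_eq_card_of_forall_mem_zpowers hζ, Nat.card_eq_fintype_card, Fintype.card_units]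
  obtain ⟨a, ha⟩ : zN n F ∣ Fintype.card F - 1 := Nat.gcd_dvd_right _ _
  haveI : NeZero (zN n F) := ⟨(Nat.gcd_pos_of_pos_left _ hn).ne'⟩
  have ha0 : a ≠ 0 := by
    rintro rfl
    have := Fintype.one_lt_card (α := F)
    omega
  have hprim : IsPrimitiveRoot (algebraMap F E ((ζ ^ a : Fˣ) : F)) (zN n F) := by
    refine IsPrimitiveRoot.map_of_injective ?_ (algebraMap F E).injective
    rw [IsPrimitiveRoot.coe_units_iff]
    exact (IsPrimitiveRoot.orderOf ζ).pow (orderOf_pos ζ) (by rw [hord, ha, Nat.mul_comm])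
  obtain ⟨i, -, hi⟩ := hprim.eq_pow_of_pow_eq_one (ξ := e ^ (mN n F / zN n F))
    (by rw [← pow_mul, Nat.div_mul_cancel (zN_dvd_mN n), heM])
  set c := ((ζ ^ a : Fˣ) : F) ^ i with hc
  have hval : ((h ^ (mN n F / zN n F) : Matrix.SpecialLinearGroup (Fin n) F) : Matrix (Fin n) (Fin n) F) =
      algebraMap F _ c := by
    apply (Matrix.toLinAlgEquiv' (R := F) (n := Fin n)).injective
    rw [AlgEquiv.commutes, Matrix.SpecialLinearGroup.coe_pow, map_pow, ← Φ.commutes, hc, map_pow, hi, map_pow]
    congr 1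
    exact hroot.symm
  rw [Subgroup.mem_center_iff]
  intro g
  apply Subtype.ext
  simp only [Matrix.SpecialLinearGroup.coe_mul, hval]
  exact (Algebra.commutes _ _).symm

/-- The dichotomy. -/
theorem dichotomy (hr : r.Prime) (hrq : r ∣ Fintype.card F - 1) (hrn : ¬ r ∣ n) (hn : 0 < n)
    (g : Matrix.SpecialLinearGroup (Fin n) F) :
    (∃ u : Matrix.SpecialLinearGroup (Fin n) F, Commute g u ∧ orderOf (toPSL n F u) = r) ∨
      toPSL n F g ^ (Fintype.card F ^ n * (mN n F / zN n F)) = 1 := by
  classical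
  haveI : Nonempty (Fin n) := ⟨⟨0, hn⟩⟩
  set G := (g : Matrix (Fin n) (Fin n) F)
  have hint : IsIntegral F G := Matrix.isIntegral G
  rcases coprime_split_or_prime_power (minpoly F G) (minpoly.ne_zero hint) (minpoly.not_isUnit F G) with
    ⟨a, b, h, hco, ha, hb⟩ | ⟨q, i, hq, hqi, hq0, hdeg⟩
  · left
    obtain ⟨e, he, h0, h1, hc⟩ := exists_idempotent_of_coprime G h hco ha hb
    obtain ⟨u, hu, hu'⟩ := exists_order_r_of_idempotent hr hrq hrn e he h0 h1
    exact ⟨u, Subtype.ext (hu G hc), hu'⟩
  · right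
    have hdle : (minpoly F G).natDegree ≤ n := by
      refine (natDegree_le_of_dvd (Matrix.minpoly_dvd_charpoly G) (Matrix.charpoly_monic _).ne_zero).trans ?_
      rw [Matrix.charpoly_natDegree_eq_dim, Fintype.card_fin]
    have hi : i ≤ Fintype.card F ^ n := by
      calc i ≤ i * q.natDegree := Nat.le_mul_of_pos_right _ hq.natDegree_pos
        _ ≤ n := hdeg ▸ hdle
        _ ≤ Fintype.card F ^ n := (Nat.lt_pow_self Fintype.one_lt_card).le
    have hh : aeval ((g ^ (Fintype.card F ^ n) : Matrix.SpecialLinearGroup (Fin n) F) : Matrix (Fin n) (Fin n) F) q = 0 := by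
      rw [Matrix.SpecialLinearGroup.coe_pow, aeval_pow_card_pow, ← map_pow]
      exact aeval_eq_zero_of_dvd (hqi.trans (pow_dvd_pow q hi)) (minpoly.aeval F G)
    rw [← map_pow, QuotientGroup.mk'_apply, QuotientGroup.eq_one_iff, pow_mul]
    exact pow_mem_center_of_irreducible _ hq hn hh

/-- An element of `PSL_n(q)` of order divisible by `(q^n - 1)/((q - 1)(n, q - 1))`. -/
theorem exists_psl_singer (hn : 0 < n) :
    ∃ s : Matrix.ProjectiveSpecialLinearGroup (Fin n) F, mN n F / zN n F ∣ orderOf s := by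
  classical
  haveI : Fact (Nat.Prime (ringChar F)) := ⟨CharP.char_is_prime F _⟩
  haveI : NeZero n := ⟨hn.ne'⟩
  let E := FiniteField.Extension F (ringChar F) n
  obtain ⟨φ, hφ, hdet⟩ := exists_units_hom (F := F) (A := E) n (FiniteField.finrank_extension F (ringChar F) n).le
  obtain ⟨z, hz⟩ := IsCyclic.exists_generator (α := Eˣ)
  have hq1 : 1 < Fintype.card F := Fintype.one_lt_card
  have hzo : orderOf z = mN n F * (Fintype.card F - 1) := by
    rw [orderOf_eq_card_of_forall_mem_zpowers hz, Nat.card_units, FiniteField.natCard_extension,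
      Nat.card_eq_fintype_card, mN, geom_sum_mul_of_one_le hq1.le]
  let w := z ^ (Fintype.card F - 1)
  have hwo : orderOf w = mN n F := by
    rw [orderOf_pow' z (by omega), hzo, Nat.gcd_eq_right (Dvd.intro_left _ rfl), Nat.mul_div_cancel _ (by omega)]
  have hw1 : (φ w : Matrix (Fin n) (Fin n) F).det = 1 := by
    rw [hdet, show ((w : Eˣ) : E) = (z : E) ^ (Fintype.card F - 1) from Units.val_pow_eq_pow_val _ _, map_pow,
      FiniteField.pow_card_sub_one_eq_one _ (fun h => z.ne_zero (Algebra.norm_eq_zero_iff.mp h))]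
  let S : Matrix.SpecialLinearGroup (Fin n) F := ⟨_, hw1⟩
  refine ⟨toPSL n F S, ?_⟩
  have hS : orderOf S = mN n F := by
    rw [← hwo, ← orderOf_injective φ hφ, ← orderOf_injective Matrix.SpecialLinearGroup.toGL
      Matrix.SpecialLinearGroup.toGL_injective S]
    congr 1
    exact Units.ext rfl
  set j := orderOf (toPSL n F S)
  have hjz : S ^ j ∈ Subgroup.center (Matrix.SpecialLinearGroup (Fin n) F) := by
    rw [← QuotientGroup.eq_one_iff, QuotientGroup.mk_pow]
    exact pow_orderOf_eq_one (toPSL n F S)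
  have h2 : (S ^ j) ^ zN n F = 1 := by
    obtain ⟨c, hc, hc'⟩ := Matrix.SpecialLinearGroup.mem_center_iff.mp hjz
    rw [Fintype.card_fin] at hc
    have hc0 : c ≠ 0 := by rintro rfl; simp [hn.ne'] at hc
    have : c ^ zN n F = 1 := pow_gcd_eq_one.mpr ⟨hc, FiniteField.pow_card_sub_one_eq_one c hc0⟩
    apply Subtype.ext
    rw [Matrix.SpecialLinearGroup.coe_pow, ← hc', ← map_pow, this, map_one]; rfl
  rw [← pow_mul] at h2
  have h3 := orderOf_dvd_of_pow_eq_one h2
  rw [hS] at h3
  exact (Nat.div_dvd_iff_dvd_mul (zN_dvd_mN n) (Nat.gcd_pos_of_pos_left _ hn)).mpr (by rwa [Nat.mul_comm] at h3)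

/-- A unipotent element of order `p^(e+1)` commuting with an element of order `r`, provided `p^e < n - 1`. -/
theorem exists_psl_unipotent_r {p e : ℕ} [Fact p.Prime] [CharP F p] (hr : r.Prime)
    (hrq : r ∣ Fintype.card F - 1) (hrn : ¬ r ∣ n) (he : p ^ e + 1 < n) :
    ∃ (g u : Matrix.ProjectiveSpecialLinearGroup (Fin n) F),
      orderOf g = p ^ (e + 1) ∧ orderOf u = r ∧ Commute g u := by
  classical
  set m := p ^ e + 1 with hm
  have h1 : m ≤ p ^ (e + 1) := by
    have h2 := (Fact.out : p.Prime).two_le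
    have : 1 ≤ p ^ e := Nat.one_le_pow _ _ (by omega)
    calc m ≤ 2 * p ^ e := by omega
      _ ≤ p ^ (e + 1) := by rw [pow_succ']; exact Nat.mul_le_mul_right _ h2
  let f : F[X] := (X - C 1) ^ m
  have hf : f.Monic := (monic_X_sub_C _).pow m
  have hfd : f.natDegree = m := by rw [natDegree_pow, natDegree_X_sub_C, mul_one]
  let A := AdjoinRoot f
  have : Module.Finite F A := (AdjoinRoot.powerBasis hf.ne_zero).finite
  have hA : Module.finrank F A = m := by
    rw [(AdjoinRoot.powerBasis hf.ne_zero).finrank, AdjoinRoot.powerBasis_dim, hfd]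
  haveI : Nontrivial A := Module.nontrivial_of_finrank_pos (R := F) (by omega)
  let W := Fin (n - m) → F
  let b : Module.Basis (Fin n) F (A × W) :=
    ((Module.finBasisOfFinrankEq F A hA).prod (Pi.basisFun F _)).reindex
      (finSumFinEquiv.trans (finCongr (by omega)))
  let T := LinearMap.toMatrixAlgEquiv b
  let e0 : Module.End F (A × W) := LinearMap.prodMap LinearMap.id 0
  have key : ∀ j, AdjoinRoot.root f ^ p ^ j = 1 ↔ m ≤ p ^ j := by
    intro j
    have : AdjoinRoot.mk f ((X - C 1) ^ p ^ j) = AdjoinRoot.root f ^ p ^ j - 1 := by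
      rw [sub_pow_char_pow, ← C_pow, one_pow, map_sub, map_pow, AdjoinRoot.mk_X, C_1, map_one]
    rw [← sub_eq_zero, ← this, AdjoinRoot.mk_eq_zero,
      pow_dvd_pow_iff (X_sub_C_ne_zero 1) (not_isUnit_X_sub_C 1)]
  let U : Module.End F (A × W) := LinearMap.prodMap (Algebra.lmul F A (AdjoinRoot.root f)) LinearMap.id
  have hUpow : ∀ j, U ^ j = LinearMap.prodMap (Algebra.lmul F A (AdjoinRoot.root f ^ j)) LinearMap.id := by
    intro j
    induction j with
    | zero => apply LinearMap.ext; intro x; simp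
    | succ j ih => rw [pow_succ, ih]; apply LinearMap.ext; intro x; simp [U, pow_succ, mul_assoc]
  have hU1 : ∀ j, U ^ j = 1 ↔ AdjoinRoot.root f ^ j = 1 := by
    intro j
    rw [hUpow]
    constructor
    · intro h
      simpa using congrArg (fun φ : Module.End F (A × W) => (φ (1, 0)).1) h
    · intro h; rw [h]; apply LinearMap.ext; intro x; simp
  have hT : ∀ j, T U ^ j = 1 ↔ AdjoinRoot.root f ^ j = 1 := by
    intro j
    rw [← hU1, ← map_pow, map_eq_one_iff T T.injective]
  have hdetU : (T U).det = 1 := by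
    have := congrArg Matrix.det ((hT (p ^ (e + 1))).mpr ((key _).mpr h1))
    rw [Matrix.det_pow, Matrix.det_one] at this
    apply iterateFrobenius_inj F p (e + 1)
    rw [iterateFrobenius_def, iterateFrobenius_def, this, one_pow]
  let S : Matrix.SpecialLinearGroup (Fin n) F := ⟨T U, hdetU⟩
  have he0 : e0 * e0 = e0 := by apply LinearMap.ext; intro x; simp [e0]
  obtain ⟨u, hu, hu'⟩ := exists_order_r_of_idempotent hr hrq hrn (T e0)
    (by rw [← map_mul, he0])
    (by
      rw [Ne, map_eq_zero_iff T T.injective]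
      intro h; simpa [e0] using congrArg (fun φ : Module.End F (A × W) => (φ (1, 0)).1) h)
    (by
      rw [Ne, map_eq_one_iff T T.injective]
      intro h
      have := congrArg (fun φ : Module.End F (A × W) => (φ (0, fun _ => 1)).2 ⟨0, by omega⟩) h
      simp [e0] at this
      exact zero_ne_one this)
  refine ⟨toPSL n F S, toPSL n F u, ?_, hu', ?_⟩
  · apply orderOf_eq_prime_pow
    · intro h
      rw [← map_pow, QuotientGroup.mk'_apply, QuotientGroup.eq_one_iff,
        Matrix.SpecialLinearGroup.mem_center_iff] at h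
      obtain ⟨c, -, hc⟩ := h
      have hc' : T ((U ^ p ^ e)) = T (algebraMap F _ c) := by
        rw [map_pow, AlgEquiv.commutes]
        exact hc.symm
      have h3 := T.injective hc'
      rw [hUpow] at h3
      have h4 : c = 1 := by
        have h6 := (congrArg (fun φ : Module.End F (A × W) => (φ (0, fun _ => 1)).2 ⟨0, by omega⟩) h3).symm
        simp at h6
        exact (mul_one c).symm.trans h6
      have h5 : AdjoinRoot.root f ^ p ^ e = 1 := by
        simpa [h4] using congrArg (fun φ : Module.End F (A × W) => (φ (1, 0)).1) h3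
      have := (key e).mp h5
      omega
    · rw [← map_pow, show S ^ p ^ (e + 1) = 1 from Subtype.ext ((Matrix.SpecialLinearGroup.coe_pow _ _).trans
        ((hT _).mpr ((key _).mpr h1))), map_one]
  · have hUe : Commute U e0 := by
      apply LinearMap.ext; intro x; simp [U, e0]
    have hSu : Commute S u := Subtype.ext (hu _ (hUe.map T))
    exact hSu.map (toPSL n F)

end Cfsg.Agent.KS58
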