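import Mathlib

/-!
Regular nilpotent matrices: Krylov basis, invariant subspaces, centraliser and conjugacy.
-/

set_option autoImplicit false

namespace Cfsg.Agent.KS58

section End

variable {F V : Type*} [Field F] [AddCommGroup V] [Module F V] [FiniteDimensional F V]

theorem finrank_ker_pow_le (f : Module.End F V) (k : ℕ) :
    Module.finrank F (LinearMap.ker (f ^ k)) ≤ k * Module.finrank F (LinearMap.ker f) := by
  induction k with
  | zero =>
    rw [pow_zero, show LinearMap.ker (1 : Module.End F V) = ⊥ from LinearMap.ker_id, finrank_bot]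
    exact Nat.zero_le _
  | succ k ih =>
    let r : LinearMap.ker (f ^ (k + 1)) →ₗ[F] V := f ∘ₗ (LinearMap.ker (f ^ (k + 1))).subtype
    have h := r.finrank_range_add_finrank_ker
    have h1 : Module.finrank F (LinearMap.range r) ≤ Module.finrank F (LinearMap.ker (f ^ k)) := by
      refine Submodule.finrank_mono ?_
      rintro _ ⟨x, rfl⟩
      rw [LinearMap.mem_ker]
      show (f ^ k) (f x) = 0
      rw [← Module.End.mul_apply, ← pow_succ]
      exact x.2
    have h2 : Module.finrank F (LinearMap.ker r) ≤ Module.finrank F (LinearMap.ker f) := by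
      refine LinearMap.finrank_le_finrank_of_injective
        (f := LinearMap.codRestrict (LinearMap.ker f) ((LinearMap.ker (f ^ (k + 1))).subtype ∘ₗ (LinearMap.ker r).subtype)
          fun x => LinearMap.mem_ker.mpr x.2) ?_
      intro a b hab
      exact Subtype.ext (Subtype.ext (congrArg Subtype.val hab :))
    calc Module.finrank F (LinearMap.ker (f ^ (k + 1))) ≤ k * Module.finrank F (LinearMap.ker f) + Module.finrank F (LinearMap.ker f) := by omega
      _ = (k + 1) * Module.finrank F (LinearMap.ker f) := by ring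

theorem invariant_eq_ker_pow (f : Module.End F V) {N : ℕ} (hf : f ^ N = 0)
    (h1 : Module.finrank F (LinearMap.ker f) ≤ 1) (W : Submodule F V) (hW : ∀ v ∈ W, f v ∈ W) :
    W = LinearMap.ker (f ^ Module.finrank F W) := by
  have hnil : IsNilpotent (f.restrict hW) := ⟨N, by
    rw [Module.End.pow_restrict]
    ext x
    simp [hf]⟩
  have hcp : (f.restrict hW) ^ Module.finrank F W = 0 := by
    have h2 := LinearMap.aeval_self_charpoly (f.restrict hW)
    rwa [IsNilpotent.charpoly_eq_X_pow_finrank hnil, map_pow, Polynomial.aeval_X] at h2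
  have hle : W ≤ LinearMap.ker (f ^ Module.finrank F W) := by
    intro x hx
    rw [Module.End.pow_restrict] at hcp
    exact LinearMap.mem_ker.mpr (congrArg Subtype.val (LinearMap.congr_fun hcp ⟨x, hx⟩) :)
  refine Submodule.eq_of_le_of_finrank_le hle ?_
  calc Module.finrank F (LinearMap.ker (f ^ Module.finrank F W))
      ≤ Module.finrank F W * Module.finrank F (LinearMap.ker f) := finrank_ker_pow_le f _
    _ ≤ Module.finrank F W * 1 := Nat.mul_le_mul_left _ h1
    _ = Module.finrank F W := Nat.mul_one _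

end End

variable {F : Type*} [Field F] {n : ℕ}

/-- `N` is nilpotent of rank `n - 1`. -/
def IsRegNil (N : Matrix (Fin n) (Fin n) F) : Prop := N ^ n = 0 ∧ N.rank = n - 1

theorem IsRegNil.finrank_ker {N : Matrix (Fin n) (Fin n) F} (h : IsRegNil N) :
    Module.finrank F (LinearMap.ker N.mulVecLin) ≤ 1 := by
  have h' := N.mulVecLin.finrank_range_add_finrank_ker
  rw [Module.finrank_fin_fun] at h'
  have := h.2
  rw [Matrix.rank] at this
  omega

theorem mulVecLin_pow (N : Matrix (Fin n) (Fin n) F) (k : ℕ) : (N ^ k).mulVecLin = N.mulVecLin ^ k :=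
  map_pow (Matrix.toLinAlgEquiv' (R := F) (n := Fin n)) N k

theorem IsRegNil.exists_cyclic {N : Matrix (Fin n) (Fin n) F} (h : IsRegNil N) (hn : 1 ≤ n) :
    ∃ v : Fin n → F, (N ^ (n - 1)).mulVec v ≠ 0 := by
  by_contra hc
  push Not at hc
  have h1 : LinearMap.ker (N.mulVecLin ^ (n - 1)) = ⊤ := by
    rw [← mulVecLin_pow, eq_top_iff]
    exact fun v _ => LinearMap.mem_ker.mpr (hc v)
  have h2 := finrank_ker_pow_le N.mulVecLin (n - 1)
  rw [h1, finrank_top, Module.finrank_fin_fun] at h2
  have := Nat.mul_le_mul_left (n - 1) h.finrank_ker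
  omega

theorem linearIndependent_krylov {N : Matrix (Fin n) (Fin n) F} (hN : N ^ n = 0) {v : Fin n → F}
    (hv : (N ^ (n - 1)).mulVec v ≠ 0) : LinearIndependent F fun i : Fin n => (N ^ (i : ℕ)).mulVec v := by
  rw [Fintype.linearIndependent_iff]
  intro c hc
  suffices ∀ j : ℕ, ∀ i : Fin n, (i : ℕ) = j → c i = 0 from fun i => this i i rfl
  intro j
  induction j using Nat.strong_induction_on with
  | _ j ih =>
    rintro i rfl
    have := congrArg (N ^ (n - 1 - (i : ℕ))).mulVec hc
    simp only [Matrix.mulVec_sum, Matrix.mulVec_smul, Matrix.mulVec_mulVec, ← pow_add, Matrix.mulVec_zero] at this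
    rw [Finset.sum_eq_single i] at this
    · rw [show n - 1 - (i : ℕ) + (i : ℕ) = n - 1 by omega] at this
      exact (smul_eq_zero.mp this).resolve_right hv
    · intro k _ hk
      rcases lt_or_gt_of_ne (Fin.val_ne_of_ne hk) with h | h
      · rw [ih k h k rfl, zero_smul]
      · rw [show n - 1 - (i : ℕ) + (k : ℕ) = n + (k - i - 1) by omega, pow_add, hN, zero_mul,
          Matrix.zero_mulVec, smul_zero]
    · simp

/-- The Krylov basis matrix. -/
def krylov (N : Matrix (Fin n) (Fin n) F) (v : Fin n → F) : Matrix (Fin n) (Fin n) F :=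
  Matrix.of fun i j => (N ^ (j : ℕ)).mulVec v i

/-- The nilpotent shift `e_j ↦ e_(j+1)`. -/
def shift (F : Type*) [Field F] (n : ℕ) : Matrix (Fin n) (Fin n) F :=
  Matrix.of fun i j => if (i : ℕ) = j + 1 then 1 else 0

theorem isUnit_krylov {N : Matrix (Fin n) (Fin n) F} (hN : N ^ n = 0) {v : Fin n → F}
    (hv : (N ^ (n - 1)).mulVec v ≠ 0) : IsUnit (krylov N v) :=
  Matrix.linearIndependent_cols_iff_isUnit.mp (linearIndependent_krylov hN hv : LinearIndependent F (krylov N v).col)

theorem mul_krylov {N : Matrix (Fin n) (Fin n) F} (hN : N ^ n = 0) (v : Fin n → F) :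
    N * krylov N v = krylov N v * shift F n := by
  ext i j
  have h1 : (N * krylov N v) i j = (N ^ ((j : ℕ) + 1)).mulVec v i := by
    rw [pow_succ', ← Matrix.mulVec_mulVec, Matrix.mul_apply]
    rfl
  rw [h1, Matrix.mul_apply]
  by_cases hj : (j : ℕ) + 1 < n
  · rw [Finset.sum_eq_single ⟨(j : ℕ) + 1, hj⟩]
    · simp [krylov, shift]
    · intro k _ hk
      have hk' : ¬ (k : ℕ) = j + 1 := fun h => hk (Fin.ext h)
      simp [shift, hk']
    · simp
  · rw [show (j : ℕ) + 1 = n by omega, hN, Matrix.zero_mulVec, Pi.zero_apply, eq_comm]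
    refine Finset.sum_eq_zero fun k _ => ?_
    simp [shift, show ¬ (k : ℕ) = j + 1 by omega]

/-- A matrix commuting with a regular nilpotent matrix is a polynomial in it. -/
theorem IsRegNil.commute_eq_sum {N : Matrix (Fin n) (Fin n) F} (h : IsRegNil N) {X : Matrix (Fin n) (Fin n) F}
    (hX : Commute X N) : ∃ c : Fin n → F, X = ∑ i, c i • N ^ (i : ℕ) := by
  rcases Nat.eq_zero_or_pos n with rfl | hn
  · exact ⟨0, Subsingleton.elim _ _⟩
  obtain ⟨v, hv⟩ := h.exists_cyclic hn
  obtain ⟨U, hU⟩ := isUnit_krylov h.1 hv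
  let c := (↑U⁻¹ : Matrix (Fin n) (Fin n) F).mulVec (X.mulVec v)
  refine ⟨c, ?_⟩
  have hw : X.mulVec v = (∑ i, c i • N ^ (i : ℕ)).mulVec v := by
    have h1 : X.mulVec v = (krylov N v).mulVec c := by
      rw [← hU, Matrix.mulVec_mulVec, Units.mul_inv, Matrix.one_mulVec]
    rw [h1, Matrix.sum_mulVec]
    funext i
    rw [Finset.sum_apply]
    simp [krylov, Matrix.mulVec, dotProduct, mul_comm, Matrix.smul_apply, Finset.mul_sum]
    exact Finset.sum_congr rfl fun j _ => Finset.sum_congr rfl fun k _ => by ring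
  have hS : Commute (∑ i, c i • N ^ (i : ℕ)) N :=
    Commute.sum_left _ _ _ fun i _ => ((Commute.refl N).pow_left _).smul_left _
  have hmul : X * krylov N v = (∑ i, c i • N ^ (i : ℕ)) * krylov N v := by
    ext i j
    have e : ∀ Y : Matrix (Fin n) (Fin n) F, Commute Y N →
        (Y * krylov N v) i j = (N ^ (j : ℕ)).mulVec (Y.mulVec v) i := by
      intro Y hY
      rw [Matrix.mulVec_mulVec, ← (hY.pow_right (j : ℕ)).eq, ← Matrix.mulVec_mulVec, Matrix.mul_apply]
      rfl
    rw [e X hX, e _ hS, hw]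
  exact (isUnit_krylov h.1 hv).mul_left_injective hmul

theorem det_sum_smul_pow {N : Matrix (Fin n) (Fin n) F} (hN : N ^ n = 0) (hn : 1 ≤ n) (c : Fin n → F) :
    (∑ i, c i • N ^ (i : ℕ)).det = c ⟨0, hn⟩ ^ n := by
  obtain ⟨m, rfl⟩ : ∃ m, n = m + 1 := ⟨n - 1, by omega⟩
  rw [Fin.sum_univ_succ]
  simp only [Fin.val_zero, pow_zero, Fin.val_succ, pow_succ', ← mul_smul_comm, ← Finset.mul_sum]
  set P := ∑ i : Fin m, c i.succ • N ^ (i : ℕ)
  have hc : Commute N P := Commute.sum_right _ _ _ fun i _ => ((Commute.refl N).pow_right _).smul_right _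
  have hnil : IsNilpotent (-(N * P)) := (hc.isNilpotent_mul_right ⟨_, hN⟩).neg
  have hcp : (-(N * P)).charpoly = Polynomial.X ^ (m + 1) := by
    have := IsNilpotent.charpoly_eq_X_pow_finrank (hnil.map (Matrix.toLinAlgEquiv' (R := F) (n := Fin (m + 1))))
    rw [Module.finrank_fin_fun] at this
    rw [← this, ← Matrix.charpoly_toLin']
    rfl
  have h2 := Matrix.eval_charpoly (-(N * P)) (c 0)
  rw [hcp, Polynomial.eval_pow, Polynomial.eval_X, sub_neg_eq_add] at h2
  rw [← pow_succ', show (⟨0, hn⟩ : Fin (m + 1)) = 0 from rfl, h2]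
  congr 1
  simp [Matrix.smul_one_eq_diagonal]

theorem exists_gl_conj {N N' : Matrix (Fin n) (Fin n) F} (h : IsRegNil N) (h' : IsRegNil N') :
    ∃ g : GL (Fin n) F, (g : Matrix (Fin n) (Fin n) F) * N = N' * (g : Matrix (Fin n) (Fin n) F) := by
  rcases Nat.eq_zero_or_pos n with rfl | hn
  · exact ⟨1, Subsingleton.elim _ _⟩
  obtain ⟨v, hv⟩ := h.exists_cyclic hn
  obtain ⟨v', hv'⟩ := h'.exists_cyclic hn
  obtain ⟨U, hU⟩ := isUnit_krylov h.1 hv
  obtain ⟨U', hU'⟩ := isUnit_krylov h'.1 hv'
  refine ⟨U' * U⁻¹, ?_⟩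
  have e1 := mul_krylov h.1 v
  have e2 := mul_krylov h'.1 v'
  rw [← hU] at e1
  rw [← hU'] at e2
  have e3 : (↑U⁻¹ : Matrix (Fin n) (Fin n) F) * N = shift F n * (↑U⁻¹ : Matrix (Fin n) (Fin n) F) := by
    rw [Units.inv_mul_eq_iff_eq_mul, ← mul_assoc, ← e1, mul_assoc, Units.mul_inv, mul_one]
  rw [Units.val_mul, mul_assoc, e3, ← mul_assoc, ← e2, mul_assoc]

theorem isRegNil_shift (F : Type*) [Field F] (n : ℕ) : IsRegNil (shift F n) := by
  rcases Nat.eq_zero_or_pos n with rfl | hn
  · exact ⟨Subsingleton.elim _ _, by simpa using (shift F 0).rank_le_width⟩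
  have happ : ∀ (k : ℕ) (i j : Fin n), (shift F n ^ k) i j = if (i : ℕ) = j + k then 1 else 0 := by
    intro k
    induction k with
    | zero =>
      intro i j
      simp [Matrix.one_apply, Fin.ext_iff]
    | succ k ih =>
      intro i j
      rw [pow_succ, Matrix.mul_apply]
      by_cases hj : (j : ℕ) + 1 < n
      · rw [Finset.sum_eq_single ⟨(j : ℕ) + 1, hj⟩]
        · rw [ih]
          simp [shift, add_assoc, add_comm 1 k]
        · intro l _ hl
          have hl' : ¬ (l : ℕ) = j + 1 := fun h => hl (Fin.ext h)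
          simp [shift, hl']
        · simp
      · rw [Finset.sum_eq_zero]
        · rw [if_neg (by omega)]
        · intro l _
          simp [shift, show ¬ (l : ℕ) = j + 1 by omega]
  refine ⟨?_, ?_⟩
  · ext i j
    rw [happ, if_neg (by omega)]
    rfl
  · refine le_antisymm ?_ ?_
    · have hker : (Pi.single (⟨n - 1, by omega⟩ : Fin n) (1 : F)) ∈ LinearMap.ker (shift F n).mulVecLin := by
        rw [LinearMap.mem_ker, Matrix.mulVecLin_apply, Matrix.mulVec_single_one]
        funext i
        simp [shift, show ¬ (i : ℕ) = n - 1 + 1 by omega]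
      have h := (shift F n).mulVecLin.finrank_range_add_finrank_ker
      rw [Module.finrank_fin_fun] at h
      have h1 : 0 < Module.finrank F (LinearMap.ker (shift F n).mulVecLin) :=
        Module.finrank_pos_iff_exists_ne_zero.mpr ⟨⟨_, hker⟩, fun h => by
          simpa using congrFun (congrArg Subtype.val h) (⟨n - 1, by omega⟩ : Fin n)⟩
      rw [Matrix.rank]
      omega
    · have h := (shift F n).mulVecLin.finrank_range_add_finrank_ker
      rw [Module.finrank_fin_fun] at h
      have h1 : Module.finrank F (LinearMap.ker (shift F n).mulVecLin) ≤ 1 := by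
        refine le_trans (Submodule.finrank_mono (t := Submodule.span F {Pi.single (⟨n - 1, by omega⟩ : Fin n) (1 : F)}) ?_)
          ((finrank_span_singleton (by simp)).le)
        intro x hx
        rw [LinearMap.mem_ker, Matrix.mulVecLin_apply] at hx
        refine Submodule.mem_span_singleton.mpr ⟨x ⟨n - 1, by omega⟩, funext fun i => ?_⟩
        by_cases hi : i = ⟨n - 1, by omega⟩
        · subst hi; simp
        · have hi' : (i : ℕ) + 1 < n := by
            have : (i : ℕ) ≠ n - 1 := fun h => hi (Fin.ext h)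
            omega
          have := congrFun hx ⟨(i : ℕ) + 1, hi'⟩
          simp only [Matrix.mulVec, dotProduct, shift, Matrix.of_apply, Nat.add_right_cancel_iff, Fin.val_eq_val,
            ite_mul, one_mul, zero_mul, Finset.sum_ite_eq, Finset.mem_univ, if_true, Pi.zero_apply] at this
          simp [hi, this]
      rw [Matrix.rank]
      omega

end Cfsg.Agent.KS58
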