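import Mathlib
import Cfsg.Agent.KnownSimple58.LinearSpectrum

/-!
The algebra generated by a semisimple element of finite order over a finite field, fields acting on vector spaces,
and involutive automorphisms of finite fields.
-/

set_option autoImplicit false

namespace Cfsg.Agent.KS58.Semi

open Polynomial

variable {F : Type*} [Field F] [Fintype F]

theorem exists_pow_fixed {R : Type*} [Ring R] [Algebra F R] {S : R} {M : ℕ} (hM0 : 0 < M) (hM : S ^ M = 1)
    (hcop : (Fintype.card F).Coprime M) :
    ∃ Q, 2 ≤ Q ∧ ∀ x ∈ Algebra.adjoin F {S}, x ^ Q = x := by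
  refine ⟨Fintype.card F ^ M.totient, ?_, fun x hx => ?_⟩
  · calc 2 ≤ Fintype.card F := Fintype.one_lt_card
      _ ≤ Fintype.card F ^ M.totient := Nat.le_self_pow (Nat.totient_pos.mpr hM0).ne' _
  rw [Algebra.adjoin_singleton_eq_range_aeval] at hx
  obtain ⟨P, rfl⟩ := hx
  show aeval S P ^ _ = aeval S P
  have h1 : 1 ≤ Fintype.card F ^ M.totient := Nat.one_le_pow _ _ Fintype.card_pos
  obtain ⟨c, hc⟩ := (Nat.modEq_iff_dvd' h1).mp (Nat.ModEq.pow_totient hcop).symm
  rw [← aeval_pow_card_pow, show Fintype.card F ^ M.totient = M * c + 1 by omega, pow_add, pow_mul, hM, one_pow,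
    one_mul, pow_one]

/-- A finite field acting on a vector space over a subfield: dimensions and nilpotent commuting maps. -/
theorem field_action {W : Type*} [AddCommGroup W] [Module F W] [FiniteDimensional F W]
    (A : Type*) [Ring A] [Algebra F A] [Finite A] (hA : IsField A) (Φ : A →ₐ[F] Module.End F W) :
    1 ≤ Module.finrank F A ∧ Module.finrank F A ∣ Module.finrank F W ∧
      (∀ N : Module.End F W, IsNilpotent N → (∀ a, Commute (Φ a) N) →
        N ^ (Module.finrank F W / Module.finrank F A) = 0) ∧
      ∀ a : A, a ≠ 0 → a ^ (Fintype.card F ^ Module.finrank F A - 1) = 1 := by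
  classical
  letI : Field A := hA.toField
  haveI : Module.Finite F A := Module.Finite.of_finite
  letI : Module A W := Module.compHom _ Φ.toRingHom
  have hsmul : ∀ (a : A) (x : W), a • x = Φ a x := fun a x => rfl
  haveI : IsScalarTower F A W := ⟨fun c a x => by rw [hsmul, hsmul, map_smul]; rfl⟩
  haveI : Module.Finite A W := Module.Finite.of_restrictScalars_finite F A W
  have hd := Module.finrank_mul_finrank F A W
  have hpos : 0 < Module.finrank F A := Module.finrank_pos
  refine ⟨hpos, Dvd.intro _ hd, fun N hN hc => ?_, fun a ha => ?_⟩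
  · let N' : Module.End A W :=
      { toFun := N
        map_add' := N.map_add
        map_smul' := fun a x => by
          show N (a • x) = a • N x
          rw [hsmul, hsmul]
          exact (LinearMap.congr_fun (hc a).eq x).symm }
    have hpow : ∀ j (x : W), (N' ^ j) x = (N ^ j) x := by
      intro j
      induction j with
      | zero => intro x; rfl
      | succ j ih => intro x; rw [pow_succ, pow_succ, Module.End.mul_apply, Module.End.mul_apply, ih]; rfl
    obtain ⟨r, hr⟩ := hN
    have hN' : IsNilpotent N' := ⟨r, LinearMap.ext fun x => by rw [hpow, hr]; rfl⟩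
    have h0 := LinearMap.aeval_self_charpoly N'
    rw [IsNilpotent.charpoly_eq_X_pow_finrank hN', map_pow, aeval_X] at h0
    refine LinearMap.ext fun x => ?_
    rw [← hd, Nat.mul_div_cancel_left _ hpos, ← hpow, h0]
    rfl
  · haveI : Fintype A := Fintype.ofFinite A
    rw [← Module.card_eq_pow_finrank (K := F) (V := A)]
    exact FiniteField.pow_card_sub_one_eq_one a ha

/-- An involutive automorphism of a finite field moving an element is the Frobenius to half the degree. -/
theorem involution_field {A : Type*} [Ring A] [Algebra F A] [Finite A] (hA : IsField A) (σ : A →ₐ[F] A)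
    (hσ : ∀ x, σ (σ x) = x) (T : A) (hT : σ T ≠ T) :
    ∃ j, Module.finrank F A = 2 * j ∧ ∀ x, σ x = x ^ Fintype.card F ^ j := by
  classical
  letI : Field A := hA.toField
  haveI : Module.Finite F A := Module.Finite.of_finite
  let e : A ≃ₐ[F] A := AlgEquiv.ofBijective σ ⟨fun x y h => by rw [← hσ x, h, hσ], fun x => ⟨σ x, hσ x⟩⟩
  obtain ⟨⟨j, hj⟩, hje⟩ := (FiniteField.bijective_frobeniusAlgEquivOfAlgebraic_pow F A).2 e
  have happ : ∀ x, σ x = x ^ Fintype.card F ^ j := by
    intro x
    have h := AlgEquiv.congr_fun hje x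
    simp only [AlgEquiv.coe_pow, FiniteField.coe_frobeniusAlgEquivOfAlgebraic, pow_iterate] at h
    exact h.symm
  refine ⟨j, ?_, happ⟩
  have h2 : FiniteField.frobeniusAlgEquivOfAlgebraic F A ^ (2 * j) = 1 := by
    rw [mul_comm, pow_mul]
    simp only at hje
    rw [hje, sq]
    exact AlgEquiv.ext hσ
  have h3 := orderOf_dvd_of_pow_eq_one h2
  rw [FiniteField.orderOf_frobeniusAlgEquivOfAlgebraic] at h3
  rcases Nat.eq_zero_or_pos j with rfl | hj0
  · exact absurd (by rw [happ, pow_zero, pow_one]) hT
  obtain ⟨c, hc⟩ := h3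
  have hpos : 0 < Module.finrank F A := Module.finrank_pos
  rcases c with _ | _ | c
  · omega
  · omega
  · have := Nat.mul_le_mul_left (Module.finrank F A) (show 2 ≤ c + 1 + 1 by omega)
    omega

end Cfsg.Agent.KS58.Semi
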