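import Mathlib
import Cfsg.Agent.KnownSimple58.SemisimpleAlgebra
import Cfsg.Agent.Forms59.UnitaryConj
import Cfsg.Agent.Lib.Unitary.Center

/-!
Elements of special unitary groups: an element commutes with an element of order `r` modulo the centre
(`r ∣ q + 1`, `r ∤ n`), or its image has order dividing a power of `p` times
`(q^n - (-1)^n) / ((q + 1) gcd(n, q + 1))`.
-/

set_option autoImplicit false

namespace Cfsg.Agent.KS58.SUDi

open Matrix Polynomial

/-- `∑_{i<n} (-q)^i`, which is `± (q^n - (-1)^n)/(q+1)`. -/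
def sM (n q : ℕ) : ℤ := ∑ i ∈ Finset.range n, (-(q : ℤ)) ^ i

/-- `gcd(n, q + 1)`. -/
abbrev zU (n q : ℕ) : ℕ := Nat.gcd n (q + 1)

theorem geom_mul (x : ℤ) (d : ℕ) : ∀ k, (∑ i ∈ Finset.range (d * k), x ^ i) =
    (∑ i ∈ Finset.range d, x ^ i) * ∑ j ∈ Finset.range k, (x ^ d) ^ j
  | 0 => by simp
  | k + 1 => by
    rw [Nat.mul_succ, Finset.sum_range_add, geom_mul x d k, Finset.sum_range_succ _ k, mul_add,
      Finset.sum_mul (Finset.range d) _ ((x ^ d) ^ k), ← pow_mul]
    congr 1
    exact Finset.sum_congr rfl fun i _ => by rw [pow_add, mul_comm]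

theorem geom_modEq {x m : ℤ} (h : x ≡ 1 [ZMOD m]) : ∀ k : ℕ, (∑ j ∈ Finset.range k, x ^ j) ≡ (k : ℤ) [ZMOD m]
  | 0 => by simp [Int.ModEq]
  | k + 1 => by
    rw [Finset.sum_range_succ, Nat.cast_succ]
    exact (geom_modEq h k).add (by simpa using h.pow k)

theorem neg_q_modEq (q : ℕ) : (-(q : ℤ)) ≡ 1 [ZMOD ((q : ℤ) + 1)] :=
  Int.modEq_iff_dvd.mpr ⟨1, by ring⟩

theorem zU_dvd_sM (n q : ℕ) : zU n q ∣ (sM n q).natAbs := by
  rw [← Int.natCast_dvd]
  have h1 : ((zU n q : ℕ) : ℤ) ∣ (q : ℤ) + 1 := by exact_mod_cast Nat.gcd_dvd_right n (q + 1)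
  have h2 : ((zU n q : ℕ) : ℤ) ∣ (n : ℤ) := by exact_mod_cast Nat.gcd_dvd_left n (q + 1)
  have h3 : ((zU n q : ℕ) : ℤ) ∣ (n : ℤ) - sM n q := h1.trans (Int.modEq_iff_dvd.mp (geom_modEq (neg_q_modEq q) n))
  simpa using h2.sub h3

theorem geom_congr {x y m : ℤ} (h : x ≡ y [ZMOD m]) :
    ∀ D : ℕ, (∑ i ∈ Finset.range D, x ^ i) ≡ (∑ i ∈ Finset.range D, y ^ i) [ZMOD m]
  | 0 => rfl
  | D + 1 => by
    rw [Finset.sum_range_succ, Finset.sum_range_succ]
    exact (geom_congr h D).add (h.pow D)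

/-- The arithmetic of the field case. -/
theorem dvd_sM_field {o D k n q : ℕ} (hD : Odd D) (hn : D * k = n)
    (h1 : (o : ℤ) ∣ (q : ℤ) ^ D + 1) (h2 : (o : ℤ) ∣ (∑ i ∈ Finset.range D, ((q : ℤ) ^ 2) ^ i) * k) :
    (o : ℤ) ∣ sM n q := by
  set a := ∑ i ∈ Finset.range D, (-(q : ℤ)) ^ i with ha
  have ha1 : a * ((q : ℤ) + 1) = (q : ℤ) ^ D + 1 := by
    have := geom_sum_mul (-(q : ℤ)) D
    rw [hD.neg_pow, ← ha] at this
    linear_combination -this
  have hsq : (∑ i ∈ Finset.range D, ((q : ℤ) ^ 2) ^ i) = a * ∑ i ∈ Finset.range D, (q : ℤ) ^ i := by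
    rcases Nat.eq_zero_or_pos q with rfl | hq
    · obtain ⟨r, rfl⟩ := hD
      simp [ha, Finset.sum_range_succ']
    rcases eq_or_ne q 1 with rfl | hq1
    · obtain ⟨r, rfl⟩ := hD
      simp [ha, neg_one_geom_sum, Nat.not_even_iff_odd.mpr (odd_two_mul_add_one r)]
    have h0 : (q : ℤ) ^ 2 - 1 ≠ 0 := by
      have : (2 : ℤ) ≤ q := by exact_mod_cast (by omega : 2 ≤ q)
      nlinarith
    apply mul_right_cancel₀ h0
    rw [geom_sum_mul, show (q : ℤ) ^ 2 - 1 = ((q : ℤ) + 1) * ((q : ℤ) - 1) by ring, mul_mul_mul_comm, ha1,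
      geom_sum_mul]
    ring
  obtain ⟨t, ht⟩ : ∃ t, (∑ i ∈ Finset.range D, (q : ℤ) ^ i) = 1 + ((q : ℤ) + 1) * t := by
    have h3 : (∑ i ∈ Finset.range D, (q : ℤ) ^ i) ≡ 1 [ZMOD ((q : ℤ) + 1)] := by
      have h4 : (q : ℤ) ≡ -1 [ZMOD ((q : ℤ) + 1)] := Int.modEq_iff_dvd.mpr ⟨-1, by ring⟩
      have h5 : (∑ i ∈ Finset.range D, (-1 : ℤ) ^ i) = 1 := by
        rw [neg_one_geom_sum, if_neg (Nat.not_even_iff_odd.mpr hD)]
      have h6 := geom_congr h4 D
      rwa [h5] at h6
    obtain ⟨t, ht⟩ := Int.modEq_iff_dvd.mp h3.symm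
    exact ⟨t, by linear_combination ht⟩
  have h3 : (o : ℤ) ∣ a * k := by
    have h4 : (o : ℤ) ∣ a * ((q : ℤ) + 1) * (t * k) := (ha1 ▸ h1).mul_right _
    have h5 := h2.sub h4
    rw [hsq, ht] at h5
    exact (by ring : a * (1 + ((q : ℤ) + 1) * t) * k - a * ((q : ℤ) + 1) * (t * k) = a * k) ▸ h5
  obtain ⟨t', ht'⟩ := Int.modEq_iff_dvd.mp (geom_modEq (x := (-(q : ℤ)) ^ D) (by simpa using (neg_q_modEq q).pow D) k)
  rw [sM, ← hn, geom_mul, ← ha,
    show (∑ j ∈ Finset.range k, ((-(q : ℤ)) ^ D) ^ j) = (k : ℤ) - ((q : ℤ) + 1) * t' by linear_combination -ht',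
    mul_sub, ← mul_assoc, ha1]
  exact h3.sub (h1.mul_right _)

/-- The arithmetic of the split case. -/
theorem dvd_sM_split {o D k n q : ℕ} (hn : 2 * D * k = n)
    (h1 : (o : ℤ) ∣ (q : ℤ) ^ (2 * D) - 1)
    (h2 : (o : ℤ) ∣ (∑ i ∈ Finset.range D, ((q : ℤ) ^ 2) ^ i) * k * ((q : ℤ) - 1)) :
    (o : ℤ) ∣ sM n q := by
  set A := ∑ i ∈ Finset.range D, ((q : ℤ) ^ 2) ^ i with hA
  have hA1 : A * ((q : ℤ) ^ 2 - 1) = (q : ℤ) ^ (2 * D) - 1 := by rw [hA, geom_sum_mul, ← pow_mul]
  obtain ⟨t, ht⟩ := Int.modEq_iff_dvd.mp (geom_modEq (x := ((q : ℤ) ^ 2) ^ D) (m := (q : ℤ) ^ 2 - 1)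
    (by
      have h : (q : ℤ) ^ 2 ≡ 1 [ZMOD ((q : ℤ) ^ 2 - 1)] := Int.modEq_iff_dvd.mpr ⟨-1, by ring⟩
      simpa using h.pow D) k)
  rw [sM, ← hn, mul_assoc, geom_mul, Finset.sum_range_succ, Finset.sum_range_one, neg_sq, geom_mul, ← hA,
    show (∑ j ∈ Finset.range k, (((q : ℤ) ^ 2) ^ D) ^ j) = (k : ℤ) - ((q : ℤ) ^ 2 - 1) * t by linear_combination -ht]
  have : ((-(q : ℤ)) ^ 0 + (-(q : ℤ)) ^ 1) * (A * ((k : ℤ) - ((q : ℤ) ^ 2 - 1) * t)) =
      -(A * k * ((q : ℤ) - 1)) + A * ((q : ℤ) ^ 2 - 1) * (t * ((q : ℤ) - 1)) := by ring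
  rw [this, hA1]
  exact (dvd_neg.mpr h2).add (h1.mul_right _)

/-- A root of unity in an extension lies in the ground field if the latter has enough of them. -/
theorem root_mem_ground {F : Type*} [Field F] [Fintype F] {A : Type*} [Ring A] [Algebra F A] (hA : IsField A)
    {z : ℕ} (hz : z ∣ Fintype.card F - 1) {x : A} (hx : x ^ z = 1) :
    ∃ c : F, c ^ z = 1 ∧ x = algebraMap F A c := by
  classical
  letI : Field A := hA.toField
  obtain ⟨ζ, hζ⟩ := IsCyclic.exists_generator (α := Fˣ)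
  have hord : orderOf ζ = Fintype.card F - 1 := by
    rw [orderOf_eq_card_of_forall_mem_zpowers hζ, Nat.card_eq_fintype_card, Fintype.card_units]
  obtain ⟨a, ha⟩ := hz
  have hF1 := Fintype.one_lt_card (α := F)
  haveI : NeZero z := ⟨by rintro rfl; rw [zero_mul] at ha; omega⟩
  have hprim0 : IsPrimitiveRoot (ζ ^ a : Fˣ) z :=
    (IsPrimitiveRoot.orderOf ζ).pow (orderOf_pos ζ) (by rw [hord, ha, Nat.mul_comm])
  have hprim : IsPrimitiveRoot (algebraMap F A ((ζ ^ a : Fˣ) : F)) z :=
    (IsPrimitiveRoot.coe_units_iff.mpr hprim0).map_of_injective (algebraMap F A).injective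
  obtain ⟨i, -, hi⟩ := hprim.eq_pow_of_pow_eq_one hx
  refine ⟨((ζ ^ a : Fˣ) : F) ^ i, ?_, by rw [map_pow, hi]⟩
  rw [← pow_mul, mul_comm, pow_mul, (IsPrimitiveRoot.coe_units_iff.mpr hprim0).pow_eq_one, one_pow]

theorem field_det {F : Type*} [Field F] [Fintype F] {W : Type*} [AddCommGroup W] [Module F W] [FiniteDimensional F W]
    (A : Type*) [Ring A] [Algebra F A] [Finite A] (hA : IsField A) (Φ : A →ₐ[F] Module.End F W) (a : A) :
    algebraMap F A (LinearMap.det (Φ a)) = a ^ ((∑ i ∈ Finset.range (Module.finrank F A), Fintype.card F ^ i) *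
      (Module.finrank F W / Module.finrank F A)) := by
  classical
  letI : Field A := hA.toField
  haveI : Module.Finite F A := Module.Finite.of_finite
  letI : Module A W := Module.compHom _ Φ.toRingHom
  have hsmul : ∀ (a : A) (x : W), a • x = Φ a x := fun a x => rfl
  haveI : IsScalarTower F A W := ⟨fun c a x => by rw [hsmul, hsmul, map_smul]; rfl⟩
  haveI : Module.Finite A W := Module.Finite.of_restrictScalars_finite F A W
  have hd := Module.finrank_mul_finrank F A W
  have h2 : ((a • (LinearMap.id : W →ₗ[A] W)).restrictScalars F).det = Algebra.norm F (a • (LinearMap.id : W →ₗ[A] W)).det :=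
    LinearMap.det_restrictScalars
  rw [LinearMap.det_smul, LinearMap.det_id, mul_one] at h2
  rw [show Φ a = (a • (LinearMap.id : W →ₗ[A] W)).restrictScalars F from LinearMap.ext fun x => (hsmul a x).symm, h2,
    map_pow, map_pow, FiniteField.algebraMap_norm_eq_pow_sum, Nat.card_eq_fintype_card, ← pow_mul, ← hd,
    Nat.mul_div_cancel_left _ Module.finrank_pos]

/-- An involutive semilinear automorphism of a finite extension of the field with `q²` elements. -/
theorem involution_semi {F : Type*} [Field F] [Fintype F] {q : ℕ} (hK : Fintype.card F = q ^ 2)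
    {A : Type*} [Ring A] [Algebra F A] [Finite A] (hA : IsField A) (σ : A →+* A)
    (hσ : ∀ x, σ (σ x) = x) (hσF : ∀ c : F, σ (algebraMap F A c) = algebraMap F A (c ^ q)) :
    Odd (Module.finrank F A) ∧ ∀ x, σ x = x ^ q ^ Module.finrank F A := by
  classical
  letI : Field A := hA.toField
  haveI : Module.Finite F A := Module.Finite.of_finite
  haveI : Fintype A := Fintype.ofFinite A
  obtain ⟨p, hp⟩ := CharP.exists F
  haveI : Fact p.Prime := ⟨CharP.char_is_prime F p⟩
  haveI : CharP A p := charP_of_injective_algebraMap (algebraMap F A).injective p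
  letI : Algebra (ZMod p) A := ZMod.algebra A p
  obtain ⟨-, -, hq1, θ, hθ⟩ := Forms59.card_sq_facts hK
  let e : A ≃ₐ[ZMod p] A := AlgEquiv.ofRingEquiv (f := RingEquiv.ofBijective σ
    ⟨fun x y h => by rw [← hσ x, h, hσ], fun x => ⟨σ x, hσ x⟩⟩) (fun c => by
      show σ (algebraMap (ZMod p) A c) = algebraMap (ZMod p) A c
      exact congrFun (congrArg DFunLike.coe (Subsingleton.elim (σ.comp (algebraMap (ZMod p) A)) (algebraMap (ZMod p) A))) c)
  obtain ⟨⟨i, hi⟩, hie⟩ := (FiniteField.bijective_frobeniusAlgEquivOfAlgebraic_pow (ZMod p) A).2 e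
  simp only at hie
  have happ : ∀ x, σ x = x ^ p ^ i := by
    intro x
    have h := AlgEquiv.congr_fun hie x
    simp only [AlgEquiv.coe_pow, FiniteField.coe_frobeniusAlgEquivOfAlgebraic, pow_iterate, Nat.card_eq_fintype_card,
      ZMod.card] at h
    exact h.symm
  have hpow : ∀ x : A, x ^ q ^ (2 * Module.finrank F A) = x := by
    intro x
    rw [pow_mul, ← hK, ← Module.card_eq_pow_finrank (K := F) (V := A), FiniteField.pow_card]
  have hN : Fintype.card A = p ^ Module.finrank (ZMod p) A := by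
    rw [Module.card_eq_pow_finrank (K := ZMod p) (V := A), ZMod.card]
  have hN2 : Fintype.card A = q ^ (2 * Module.finrank F A) := by
    rw [Module.card_eq_pow_finrank (K := F) (V := A), hK, pow_mul]
  have h2 : FiniteField.frobeniusAlgEquivOfAlgebraic (ZMod p) A ^ (2 * i) = 1 := by
    rw [mul_comm, pow_mul, hie, sq]
    exact AlgEquiv.ext hσ
  have h3 := orderOf_dvd_of_pow_eq_one h2
  rw [FiniteField.orderOf_frobeniusAlgEquivOfAlgebraic] at h3
  set D := Module.finrank F A
  set N := Module.finrank (ZMod p) A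
  have hi0 : i ≠ 0 := by
    rintro rfl
    apply hθ
    apply (algebraMap F A).injective
    rw [← hσF, happ, pow_zero, pow_one]
  have hN2i : N = 2 * i := by
    obtain ⟨c, hc⟩ := h3
    rcases c with _ | _ | c
    · omega
    · omega
    · have := Nat.mul_le_mul_left N (show 2 ≤ c + 1 + 1 by omega)
      omega
  have hqD : p ^ i = q ^ D := by
    apply Nat.pow_left_injective two_ne_zero
    show (p ^ i) ^ 2 = (q ^ D) ^ 2
    rw [← pow_mul, ← pow_mul, mul_comm i, mul_comm D, ← hN2i, ← hN, hN2]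
  refine ⟨?_, fun x => by rw [happ, hqD]⟩
  rw [← Nat.not_even_iff_odd]
  rintro ⟨r, hr⟩
  apply hθ
  apply (algebraMap F A).injective
  rw [← hσF, happ, hqD, hr, ← two_mul, pow_mul, ← hK, ← map_pow, FiniteField.pow_card_pow]

theorem det_compl {F : Type*} [Field F] {n : ℕ} {e X : Matrix (Fin n) (Fin n) F} (he : e * e = e) (hX : Commute X e)
    (hinv : ∀ v ∈ LinearMap.range (Matrix.toLinAlgEquiv' e), Matrix.toLinAlgEquiv' X v ∈ LinearMap.range (Matrix.toLinAlgEquiv' e)) :
    (X * e + (1 - e)).det = LinearMap.det ((Matrix.toLinAlgEquiv' X).restrict hinv) := by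
  classical
  set P := Matrix.toLinAlgEquiv' e with hPdef
  have hP : LinearMap.IsProj (LinearMap.range P) P := by
    refine ⟨fun x => ⟨x, rfl⟩, ?_⟩
    rintro _ ⟨y, rfl⟩
    rw [← Module.End.mul_apply, ← map_mul, he]
  have hk := hP.isCompl
  have := LinearMap.det_conj
    (LinearMap.prodMap ((Matrix.toLinAlgEquiv' X).restrict hinv) (LinearMap.id : ↥(LinearMap.ker P) →ₗ[F] _))
    (Submodule.prodEquivOfIsCompl _ _ hk)
  rw [LinearMap.det_prodMap, LinearMap.det_id, mul_one] at this
  rw [← this, ← LinearMap.det_toLin']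
  congr 1
  apply LinearMap.ext
  intro x
  obtain ⟨⟨a, b⟩, rfl⟩ := (Submodule.prodEquivOfIsCompl _ _ hk).surjective x
  have ha : P (a : Fin n → F) = a := hP.map_id _ a.2
  have hb : P (b : Fin n → F) = 0 := b.2
  simp only [LinearMap.coe_comp, LinearEquiv.coe_coe, Function.comp_apply, LinearEquiv.symm_apply_apply,
    LinearMap.prodMap_apply, LinearMap.id_apply]
  simp only [Submodule.coe_prodEquivOfIsCompl', LinearMap.coe_restrict_apply]
  have key : ∀ v, Matrix.toLinAlgEquiv' (X * e + (1 - e)) v = Matrix.toLinAlgEquiv' X (P v) + (v - P v) := fun v => by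
    simp [P]
  refine (key _).trans ?_
  rw [map_add P, ha, hb, add_zero, add_sub_cancel_left]

section

variable {F : Type*} [Field F] [Fintype F] [StarRing F] {n q : ℕ}

local notation "Mat" => Matrix (Fin n) (Fin n) F

/-- The underlying matrix. -/
abbrev mat (g : Cfsg.SU n F q) : Mat := ((g : Matrix.SpecialLinearGroup (Fin n) F) : Mat)

omit [Fintype F] [StarRing F] in
theorem mat_injective : Function.Injective (mat : Cfsg.SU n F q → Mat) :=
  fun _ _ h => Subtype.ext (Subtype.ext h)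

omit [Fintype F] [StarRing F] in
theorem mat_pow (g : Cfsg.SU n F q) (j : ℕ) : mat (g ^ j) = mat g ^ j :=
  map_pow (⟨⟨mat, rfl⟩, fun _ _ => rfl⟩ : Cfsg.SU n F q →* Mat) g j

theorem adj_mat (hs : ∀ x : F, star x = x ^ q) (g : Cfsg.SU n F q) : (mat g)ᴴ * mat g = 1 :=
  (Forms59.mem_GU_iff_conjTranspose hs (Matrix.SpecialLinearGroup.toGL g.1)).1 g.2

/-- A unitary matrix of determinant one as an element. -/
def mkSU (hs : ∀ x : F, star x = x ^ q) (M : Mat) (hM : Mᴴ * M = 1) (hd : M.det = 1) : Cfsg.SU n F q :=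
  ⟨⟨M, hd⟩, (Forms59.mem_GU_iff_conjTranspose hs (Matrix.SpecialLinearGroup.toGL ⟨M, hd⟩)).2 hM⟩

theorem center_of_scalar (hK : Fintype.card F = q ^ 2) (hn : 2 ≤ n) (g : Cfsg.SU n F q) {c : F} (h : mat g = c • (1 : Mat)) :
    g ∈ Subgroup.center (Cfsg.SU n F q) :=
  (Unitary.mem_center_iff hK hn).2 ⟨c, fun x => by
    show mat g *ᵥ x = c • x
    rw [h, Matrix.smul_mulVec, Matrix.one_mulVec]⟩

theorem scalar_of_center (hK : Fintype.card F = q ^ 2) (hn : 2 ≤ n) (g : Cfsg.SU n F q)
    (h : g ∈ Subgroup.center (Cfsg.SU n F q)) : ∃ c : F, mat g = c • (1 : Mat) := by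
  obtain ⟨c, hc⟩ := (Unitary.mem_center_iff hK hn).1 h
  refine ⟨c, Matrix.ext_iff_mulVec.mpr fun x => ?_⟩
  rw [Matrix.smul_mulVec, Matrix.one_mulVec]
  exact hc x

/-- The projection. -/
noncomputable abbrev proj : Cfsg.SU n F q →* Cfsg.PSU n F q := QuotientGroup.mk' (Subgroup.center (Cfsg.SU n F q))

/-- A self-adjoint idempotent gives an element of order `r` modulo the centre. -/
theorem exists_r_element (hK : Fintype.card F = q ^ 2) (hs : ∀ x : F, star x = x ^ q) (hn : 2 ≤ n) {r : ℕ}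
    (hr : r.Prime) (hrq : r ∣ q + 1) (hrn : ¬ r ∣ n) (e : Mat) (he : e * e = e) (hae : eᴴ = e) (h0 : e ≠ 0) (h1 : e ≠ 1) :
    ∃ u : Cfsg.SU n F q, (∀ g : Mat, Commute g e → Commute g (mat u)) ∧ orderOf (proj u) = r := by
  classical
  haveI := Fact.mk hr
  obtain ⟨lu, hl⟩ : ∃ l : Fˣ, orderOf l = r :=
    exists_prime_orderOf_dvd_card r (by
      rw [Fintype.card_units, hK, show q ^ 2 - 1 = (q + 1) * (q - 1) by rw [← Nat.sq_sub_sq, one_pow]]
      exact Dvd.dvd.mul_right hrq _)
  set l : F := (lu : F) with hlF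
  have hlr : l ^ r = 1 := by rw [hlF, ← Units.val_pow_eq_pow_val, ← hl, pow_orderOf_eq_one, Units.val_one]
  have hnorm : l ^ (q + 1) = 1 := by
    obtain ⟨c, hc⟩ := hrq
    rw [hc, pow_mul, hlr, one_pow]
  have h1e : e * (1 - e) = 0 := by rw [mul_sub, mul_one, he, sub_self]
  have h2e : (1 - e) * e = 0 := by rw [sub_mul, one_mul, he, sub_self]
  have h3e : (1 - e) * (1 - e) = 1 - e := by rw [sub_mul, one_mul, h1e, sub_zero]
  have hinv : ∀ (X f : Mat), Commute X f → ∀ v ∈ LinearMap.range (Matrix.toLinAlgEquiv' f),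
      Matrix.toLinAlgEquiv' X v ∈ LinearMap.range (Matrix.toLinAlgEquiv' f) := by
    rintro X f hX _ ⟨v, rfl⟩
    exact ⟨Matrix.toLinAlgEquiv' X v, by rw [← Module.End.mul_apply, ← map_mul, ← hX.eq, map_mul]; rfl⟩
  set m := Module.finrank F (LinearMap.range (Matrix.toLinAlgEquiv' e)) with hm
  set w := Module.finrank F (LinearMap.range (Matrix.toLinAlgEquiv' (1 - e))) with hw
  have hmw : m + w = n := by
    have hk : LinearMap.ker (Matrix.toLinAlgEquiv' e) = LinearMap.range (Matrix.toLinAlgEquiv' (1 - e)) := by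
      ext x
      simp only [LinearMap.mem_ker, LinearMap.mem_range, map_sub, map_one, LinearMap.sub_apply, Module.End.one_apply]
      constructor
      · intro hx; exact ⟨x, by rw [hx, sub_zero]⟩
      · rintro ⟨y, rfl⟩
        rw [map_sub, ← Module.End.mul_apply, ← map_mul, he, sub_self]
    have h := (Matrix.toLinAlgEquiv' e).finrank_range_add_finrank_ker
    rw [hk, Module.finrank_fin_fun] at h
    exact h
  have hscal : ∀ (a : F) (f : Mat), f * f = f →
      (a • f + (1 - f)).det = a ^ Module.finrank F (LinearMap.range (Matrix.toLinAlgEquiv' f)) := by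
    intro a f hf
    have hc : Commute (a • (1 : Mat)) f := (Commute.one_left f).smul_left a
    have := det_compl hf hc (hinv _ _ hc)
    rw [smul_mul_assoc, one_mul] at this
    rw [this, show (Matrix.toLinAlgEquiv' (a • (1 : Mat))).restrict (hinv _ _ hc) =
      a • (LinearMap.id : ↥(LinearMap.range (Matrix.toLinAlgEquiv' f)) →ₗ[F] _) from
      LinearMap.ext fun x => Subtype.ext (by rw [LinearMap.coe_restrict_apply, map_smul, map_one]; rfl),
      LinearMap.det_smul, LinearMap.det_id, mul_one]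
  have hdet : ∀ a b : F, (a • e + b • (1 - e)).det = a ^ m * b ^ w := by
    intro a b
    have : a • e + b • (1 - e) = (a • e + (1 - e)) * (b • (1 - e) + (1 - (1 - e))) := by
      rw [sub_sub_cancel, add_mul, mul_add, mul_add, smul_mul_smul_comm, h1e, smul_zero, zero_add, smul_mul_assoc, he,
        mul_smul_comm, h3e, h2e, add_zero]
    rw [this, Matrix.det_mul, hscal a e he, hscal b (1 - e) h3e]
  set A := l ^ w with hA
  set B := (l ^ q) ^ m with hB
  have hlq : l * l ^ q = 1 := by rw [← pow_succ', hnorm]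
  have hAn : A * A ^ q = 1 := by rw [hA, ← pow_mul, mul_comm w, pow_mul, ← mul_pow, hlq, one_pow]
  have hBn : B * B ^ q = 1 := by
    rw [hB, ← pow_mul (l ^ q) m q, mul_comm m q, pow_mul, ← mul_pow, ← mul_pow, hlq, one_pow, one_pow]
  set h : Mat := A • e + B • (1 - e) with hh
  have hh1 : hᴴ * h = 1 := by
    rw [hh, conjTranspose_add, conjTranspose_smul, conjTranspose_smul, conjTranspose_sub, conjTranspose_one, hae, hs, hs,
      add_mul, mul_add, mul_add, smul_mul_smul_comm, smul_mul_smul_comm, smul_mul_smul_comm, smul_mul_smul_comm, he, h1e,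
      h2e, h3e, smul_zero, smul_zero, add_zero, zero_add, mul_comm, hAn, mul_comm, hBn, one_smul, one_smul,
      add_sub_cancel]
  have hhd : h.det = 1 := by
    rw [hh, hdet, hA, hB, ← pow_mul, ← pow_mul, mul_comm m w, ← mul_pow, hlq, one_pow]
  refine ⟨mkSU hs h hh1 hhd, fun g hg => ?_, ?_⟩
  · exact (hg.smul_right A).add_right (((Commute.one_right g).sub_right hg).smul_right B)
  have hpow : ∀ j, h ^ j = A ^ j • e + B ^ j • (1 - e) := by
    intro j
    induction j with
    | zero => simp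
    | succ j ih =>
      rw [pow_succ, ih, hh, add_mul, mul_add, mul_add, smul_mul_smul_comm, smul_mul_smul_comm, smul_mul_smul_comm,
        smul_mul_smul_comm, he, h1e, h2e, h3e, smul_zero, smul_zero, add_zero, zero_add, pow_succ, pow_succ]
  refine orderOf_eq_prime ?_ ?_
  · have hr1 : (mkSU hs h hh1 hhd) ^ r = 1 := mat_injective (by
      rw [mat_pow]
      show h ^ r = 1
      rw [hpow, hA, hB, ← pow_mul, mul_comm w, pow_mul, hlr, one_pow, ← pow_mul (l ^ q), mul_comm m, pow_mul (l ^ q),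
        ← pow_mul l, mul_comm q, pow_mul l, hlr, one_pow, one_pow, one_smul, one_smul, add_sub_cancel])
    rw [← map_pow, hr1, map_one]
  · intro hc
    rw [QuotientGroup.mk'_apply, QuotientGroup.eq_one_iff] at hc
    obtain ⟨c, hc⟩ := scalar_of_center hK hn _ hc
    change h = c • (1 : Mat) at hc
    have e1 : (A - c) • e = 0 := by
      have := congrArg (· * e) hc
      simp only [hh, add_mul, smul_mul_assoc, one_mul, he, h2e, smul_zero, add_zero] at this
      rw [sub_smul, this, sub_self]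
    have e2 : (B - c) • (1 - e) = 0 := by
      have := congrArg (· * (1 - e)) hc
      simp only [hh, add_mul, smul_mul_assoc, one_mul, h1e, h3e, smul_zero, zero_add] at this
      rw [sub_smul, this, sub_self]
    rw [smul_eq_zero, sub_eq_zero] at e1 e2
    have heq : A = B := (e1.resolve_right h0).trans (e2.resolve_right (sub_ne_zero.mpr (Ne.symm h1))).symm
    have hln : l ^ n = 1 := by
      rw [← hmw, pow_add, ← hA, heq, hB, ← mul_pow, hlq, one_pow]
    rw [hlF, ← Units.val_pow_eq_pow_val, Units.val_eq_one, ← orderOf_dvd_iff_pow_eq_one, hl] at hln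
    exact hrn hln

theorem dvd_split {o p t N M e : ℕ} (hp : p.Prime) (hM : ¬ p ∣ M) (h1 : o ∣ p ^ t * N) (h2 : o ∣ M * p ^ e) :
    o ∣ p ^ e * N := by
  refine (Nat.dvd_gcd h1 h2).trans ((Nat.gcd_mul_left_dvd_mul_gcd (M * p ^ e) (p ^ t) N).trans (Nat.mul_dvd_mul ?_ (Nat.gcd_dvd_left _ _))) 
  rw [Nat.Coprime.gcd_mul_left_cancel_right _ (Nat.Coprime.pow_right _ ((hp.coprime_iff_not_dvd.mpr hM).symm))]
  exact Nat.gcd_dvd_right _ _

theorem dichotomy {p : ℕ} [Fact p.Prime] [CharP F p] (hK : Fintype.card F = q ^ 2) (hs : ∀ x : F, star x = x ^ q)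
    (hn : 2 ≤ n) {r : ℕ} (hr : r.Prime) (hrq : r ∣ q + 1) (hrn : ¬ r ∣ n) (g : Cfsg.SU n F q) :
    (∃ u : Cfsg.SU n F q, Commute g u ∧ orderOf (proj u) = r) ∨
      proj g ^ (p ^ Nat.clog p n * ((sM n q).natAbs / zU n q)) = 1 := by
  classical
  have hp : p.Prime := Fact.out
  haveI : Nonempty (Fin n) := ⟨⟨0, by omega⟩⟩
  obtain ⟨-, -, hq1, θ, hθ⟩ := Forms59.card_sq_facts hK
  obtain ⟨t, M, hpM, ho⟩ := Nat.exists_eq_pow_mul_and_not_dvd (orderOf_pos g).ne' p hp.ne_one
  have hM0 : 0 < M := Nat.pos_of_ne_zero (by rintro rfl; exact hpM (dvd_zero _))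
  set S : Mat := mat (g ^ p ^ t) with hS
  have hSM : S ^ M = 1 := by
    rw [hS, ← mat_pow, ← pow_mul, ← ho, pow_orderOf_eq_one]; rfl
  have hcop : (Fintype.card F).Coprime M := by
    obtain ⟨f, hf⟩ := FiniteField.card F p
    rw [hf.2]
    exact Nat.Coprime.pow_left _ (hp.coprime_iff_not_dvd.mpr hpM)
  obtain ⟨Q, hQ, hfix⟩ := Semi.exists_pow_fixed (F := F) hM0 hSM hcop
  set A := Algebra.adjoin F {S} with hA
  have hSA : S ∈ A := Algebra.self_mem_adjoin_singleton F S
  have hcomm : ∀ x ∈ A, ∀ y : Mat, Commute S y → Commute x y := fun x hx y hy =>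
    (Algebra.commute_of_mem_adjoin_singleton_of_commute hx hy.symm).symm
  have hAA : ∀ x ∈ A, ∀ y ∈ A, Commute x y := fun x hx y hy =>
    hcomm x hx y ((hcomm y hy S (Commute.refl S)).symm)
  have hgS : Commute (mat g) S := by rw [hS, mat_pow]; exact (Commute.refl _).pow_right _
  have hSS : S ^ (M - 1) * S = 1 := by rw [← pow_succ, Nat.sub_add_cancel hM0, hSM]
  have hSh : Sᴴ = S ^ (M - 1) := by
    have h1 : Sᴴ * S = 1 := adj_mat hs _
    calc Sᴴ = Sᴴ * (S * S ^ (M - 1)) := by rw [mul_eq_one_comm.mp hSS, mul_one]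
      _ = S ^ (M - 1) := by rw [← mul_assoc, h1, one_mul]
  have hadjA : ∀ x ∈ A, xᴴ ∈ A := by
    intro x hx
    induction hx using Algebra.adjoin_induction with
    | mem x hx => rw [Set.mem_singleton_iff.1 hx, hSh]; exact A.pow_mem hSA _
    | algebraMap c =>
      rw [Algebra.algebraMap_eq_smul_one, conjTranspose_smul, conjTranspose_one]; exact A.smul_mem A.one_mem _
    | add x y _ _ hx hy => rw [conjTranspose_add]; exact A.add_mem hx hy
    | mul x y _ _ hx hy => rw [conjTranspose_mul]; exact A.mul_mem hy hx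
  have hidem : ∀ x ∈ A, x ^ (Q - 1) * x ^ (Q - 1) = x ^ (Q - 1) := by
    intro x hx
    rw [← pow_add, show Q - 1 + (Q - 1) = Q + (Q - 2) by omega, pow_add, hfix x hx, ← pow_succ',
      show Q - 2 + 1 = Q - 1 by omega]
  by_cases h1 : ∃ e ∈ A, e * e = e ∧ eᴴ = e ∧ e ≠ 0 ∧ e ≠ 1
  · left
    obtain ⟨e, heA, he, hae, he0, he1⟩ := h1
    obtain ⟨u, hu, hu'⟩ := exists_r_element hK hs hn hr hrq hrn e he hae he0 he1
    exact ⟨u, mat_injective (hu (mat g) (hcomm e heA _ hgS.symm).symm).eq, hu'⟩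
  push Not at h1
  right
  set N0 := (sM n q).natAbs with hN0
  set z := zU n q with hz
  have hzF : z ∣ Fintype.card F - 1 := by
    rw [hK, show q ^ 2 - 1 = (q + 1) * (q - 1) by rw [← Nat.sq_sub_sq, one_pow]]
    exact (Nat.gcd_dvd_right n (q + 1)).mul_right _
  have hzq : z ∣ q + 1 := Nat.gcd_dvd_right n (q + 1)
  -- it suffices that the semisimple part to the power `N0 / z` is scalar
  suffices key : ∃ c : F, S ^ (N0 / z) = c • (1 : Mat) by
    obtain ⟨c, hc⟩ := key
    have hA1 : proj g ^ (p ^ t * (N0 / z)) = 1 := by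
      rw [← map_pow, QuotientGroup.mk'_apply, QuotientGroup.eq_one_iff]
      exact center_of_scalar hK hn _ (by rw [pow_mul, mat_pow, ← hS, hc])
    have hunil : IsNilpotent (mat (g ^ M) - 1) := by
      refine ⟨p ^ t, ?_⟩
      rw [sub_pow_char_pow_of_commute _ _ (Commute.one_right _), one_pow, ← mat_pow, ← pow_mul, mul_comm M, ← ho,
        pow_orderOf_eq_one]
      exact sub_self _
    have hun : (mat (g ^ M) - 1) ^ n = 0 := by
      have h0 := Matrix.aeval_self_charpoly (mat (g ^ M) - 1)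
      have hcp := (hunil.map (Matrix.toLinAlgEquiv' (R := F) (n := Fin n))).charpoly_eq_X_pow_finrank
      rw [show Matrix.toLinAlgEquiv' (R := F) (mat (g ^ M) - 1) = Matrix.toLin' (mat (g ^ M) - 1) from rfl,
        Matrix.charpoly_toLin', Module.finrank_fin_fun] at hcp
      rwa [hcp, map_pow, aeval_X] at h0
    have hA2 : proj g ^ (M * p ^ Nat.clog p n) = 1 := by
      rw [← map_pow]
      convert map_one (proj (F := F) (n := n) (q := q))
      apply mat_injective
      have h0 : (mat (g ^ M) - 1) ^ p ^ Nat.clog p n = 0 := by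
        rw [← Nat.add_sub_cancel' (Nat.le_pow_clog hp.one_lt n), pow_add, hun, zero_mul]
      rw [sub_pow_char_pow_of_commute _ _ (Commute.one_right _), one_pow, sub_eq_zero, ← mat_pow, ← pow_mul] at h0
      exact h0
    exact orderOf_dvd_iff_pow_eq_one.mp
      (dvd_split hp hpM (orderOf_dvd_of_pow_eq_one hA1) (orderOf_dvd_of_pow_eq_one hA2))
  have hdetS : S.det = 1 := (g ^ p ^ t : Cfsg.SU n F q).1.2
  by_cases h3 : ∃ e ∈ A, e * e = e ∧ e ≠ 0 ∧ e ≠ 1
  · obtain ⟨e, heA, he, he0, he1⟩ := h3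
    have hswap : ∀ f ∈ A, f * f = f → f ≠ 0 → f ≠ 1 → fᴴ = 1 - f := by
      intro f hf hff hf0 hf1
      have hfa : fᴴ * fᴴ = fᴴ := by rw [← conjTranspose_mul, hff]
      have hc := hAA f hf _ (hadjA f hf)
      have hprod : f * fᴴ = 0 := by
        rcases eq_or_ne (f * fᴴ) 0 with h | h
        · exact h
        exfalso
        have hs' : (f * fᴴ)ᴴ = f * fᴴ := by rw [conjTranspose_mul, conjTranspose_conjTranspose]
        have hi : f * fᴴ * (f * fᴴ) = f * fᴴ := by
          rw [mul_assoc, ← mul_assoc (fᴴ), ← hc.eq, ← mul_assoc, ← mul_assoc, hff, mul_assoc, hfa]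
        have h' := h1 _ (A.mul_mem hf (hadjA f hf)) hi hs' h
        apply hf1
        calc f = f * (f * fᴴ) := by rw [h', mul_one]
          _ = 1 := by rw [← mul_assoc, hff, h']
      have hs' : (f + fᴴ)ᴴ = f + fᴴ := by rw [conjTranspose_add, conjTranspose_conjTranspose, add_comm]
      have hi : (f + fᴴ) * (f + fᴴ) = f + fᴴ := by
        rw [add_mul, mul_add, mul_add, hff, hfa, ← hc.eq, hprod, add_zero, zero_add]
      have hne : f + fᴴ ≠ 0 := by
        intro h
        apply hf0
        calc f = f * (f + fᴴ) := by rw [mul_add, hff, hprod, add_zero]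
          _ = 0 := by rw [h, mul_zero]
      exact eq_sub_of_add_eq' (h1 _ (A.add_mem hf (hadjA f hf)) hi hs' hne)
    have hea := hswap e heA he he0 he1
    have hcases : ∀ f ∈ A, f * f = f → e * f = f → f = 0 ∨ f = e := by
      intro f hf hff hef
      by_cases hf0 : f = 0
      · exact Or.inl hf0
      right
      have hf1 : f ≠ 1 := by rintro rfl; rw [mul_one] at hef; exact he1 hef
      have h5 := congrArg conjTranspose hef
      rw [conjTranspose_mul, hswap f hf hff hf0 hf1, hea, sub_mul, one_mul, mul_sub, mul_one] at h5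
      have hfe : f * e = f := by rw [← (hAA e heA f hf).eq, hef]
      rw [hfe, sub_self, sub_zero] at h5
      exact (sub_right_inj.mp h5).symm
    set L := Matrix.toLinAlgEquiv' (R := F) (n := Fin n) with hL
    set W := LinearMap.range (L e) with hW
    have hinv : ∀ x : Mat, Commute x e → ∀ v ∈ W, L x v ∈ W := by
      rintro x hx _ ⟨v, rfl⟩
      exact ⟨L x v, by rw [← Module.End.mul_apply, ← map_mul, ← hx.eq, map_mul]; rfl⟩
    have hWe : ∀ w : W, L e (w : Fin n → F) = w := by
      rintro ⟨_, v, rfl⟩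
      show L e (L e v) = L e v
      rw [← Module.End.mul_apply, ← map_mul, he]
    let Φ : A →ₐ[F] Module.End F W :=
      { toFun := fun x => (L x.1).restrict (hinv x.1 (hAA x.1 x.2 e heA))
        map_one' := LinearMap.ext fun w => Subtype.ext (by
          show L ((1 : A) : Mat) w.1 = w.1
          rw [OneMemClass.coe_one, map_one]; rfl)
        map_mul' := fun x y => LinearMap.ext fun w => Subtype.ext (by
          show L ((x * y : A) : Mat) w.1 = L x.1 (L y.1 w.1)
          rw [MulMemClass.coe_mul, map_mul]; rfl)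
        map_zero' := LinearMap.ext fun w => Subtype.ext (by
          show L ((0 : A) : Mat) w.1 = 0
          rw [ZeroMemClass.coe_zero, map_zero]; rfl)
        map_add' := fun x y => LinearMap.ext fun w => Subtype.ext (by
          show L ((x + y : A) : Mat) w.1 = L x.1 w.1 + L y.1 w.1
          rw [AddMemClass.coe_add, map_add]; rfl)
        commutes' := fun c => LinearMap.ext fun w => Subtype.ext (by
          show L ((algebraMap F A c : A) : Mat) w.1 = c • w.1
          rw [Subalgebra.coe_algebraMap, AlgEquiv.commutes]; rfl) }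
    have hΦ0 : ∀ x : A, Φ x = 0 ↔ x.1 * e = 0 := by
      intro x
      constructor
      · intro h
        apply L.injective
        rw [map_mul, map_zero]
        exact LinearMap.ext fun v => congrArg Subtype.val (LinearMap.congr_fun h ⟨L e v, v, rfl⟩)
      · intro h
        refine LinearMap.ext fun w => Subtype.ext ?_
        show L x.1 w.1 = 0
        rw [← hWe w, ← Module.End.mul_apply, ← map_mul, h, map_zero]; rfl
    have hΦeq : ∀ x y : A, Φ x = Φ y ↔ x.1 * e = y.1 * e := by
      intro x y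
      rw [← sub_eq_zero, ← sub_eq_zero (a := x.1 * e), ← sub_mul, ← AddSubgroupClass.coe_sub, ← hΦ0, map_sub]
    have hne : Nontrivial (Module.End F W) := ⟨⟨1, 0, fun h => he0 (by
      have := (hΦ0 1).mp (by rw [map_one]; exact h)
      rwa [OneMemClass.coe_one, one_mul] at this)⟩⟩
    have hpow1 : ∀ y ∈ Φ.range, y ≠ 0 → y ^ (Q - 1) = 1 := by
      rintro _ ⟨x, rfl⟩ hx
      change Φ x ≠ 0 at hx
      show Φ x ^ (Q - 1) = 1
      set f := x.1 ^ (Q - 1) with hf
      have hfA : f ∈ A := A.pow_mem x.2 _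
      have hce := hAA f hfA e heA
      have hi : (e * f) * (e * f) = e * f := by
        rw [mul_assoc, ← mul_assoc f, hce.eq, mul_assoc, hidem x.1 x.2, ← mul_assoc, he]
      rcases hcases (e * f) (A.mul_mem heA hfA) hi (by rw [← mul_assoc, he]) with h | h
      · exfalso
        apply hx
        rw [hΦ0, ← hfix x.1 x.2, show Q = 1 + (Q - 1) by omega, pow_add, ← hf, mul_assoc, hce.eq, h, mul_zero]
      · have h4 : Φ (x ^ (Q - 1)) = Φ 1 := by
          rw [hΦeq, SubmonoidClass.coe_pow, OneMemClass.coe_one, ← hf, one_mul, hce.eq, h]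
        exact ((map_pow Φ x (Q - 1)).symm.trans h4).trans (map_one Φ)
    have hF : IsField Φ.range := by
      refine ⟨exists_pair_ne _, ?_, ?_⟩
      · rintro ⟨_, x, rfl⟩ ⟨_, y, rfl⟩
        apply Subtype.ext
        show Φ x * Φ y = Φ y * Φ x
        rw [← map_mul, ← map_mul]
        exact congrArg Φ (Subtype.ext (hAA x.1 x.2 y.1 y.2).eq)
      · intro a ha
        refine ⟨a ^ (Q - 2), Subtype.ext ?_⟩
        rw [← pow_succ', show Q - 2 + 1 = Q - 1 by omega, SubmonoidClass.coe_pow]
        exact hpow1 _ a.2 fun h => ha (Subtype.ext h)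
    letI : Ring Φ.range := Algebra.semiringToRing F
    obtain ⟨hD, hDn, -, hordk⟩ := Semi.field_action Φ.range hF Φ.range.val
    set D := Module.finrank F Φ.range
    have hrank : 2 * Module.finrank F W = n := by
      have hr' : (1 - e).rank = e.rank := by rw [← hea, show eᴴ = (e.map star)ᵀ from rfl, Matrix.rank_transpose]; exact rank_map_star e
      have hk : LinearMap.ker (L e) = LinearMap.range (L (1 - e)) := by
        ext x
        simp only [LinearMap.mem_ker, LinearMap.mem_range, map_sub, map_one, LinearMap.sub_apply, Module.End.one_apply]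
        constructor
        · intro hx; exact ⟨x, by rw [hx, sub_zero]⟩
        · rintro ⟨y, rfl⟩
          rw [map_sub, ← Module.End.mul_apply, ← map_mul, he, sub_self]
      have h := (L e).finrank_range_add_finrank_ker
      rw [hk, Module.finrank_fin_fun] at h
      have h1 : Module.finrank F (LinearMap.range (L e)) = e.rank := rfl
      have h2 : Module.finrank F (LinearMap.range (L (1 - e))) = (1 - e).rank := rfl
      rw [hW]
      omega
    set s : Φ.range := ⟨Φ ⟨S, hSA⟩, ⟨S, hSA⟩, rfl⟩ with hsdef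
    have hs0 : s ≠ 0 := by
      intro h
      apply he0
      have h7 : S * e = 0 := (hΦ0 _).mp (congrArg Subtype.val h)
      calc e = S ^ M * e := by rw [hSM, one_mul]
        _ = S ^ (M - 1) * (S * e) := by rw [← mul_assoc, hSS, one_mul, hSM, one_mul]
        _ = 0 := by rw [h7, mul_zero]
    set T : Mat := S * e + (1 - e) with hT
    have hSe := hAA S hSA e heA
    have hdT : T.det = LinearMap.det (Φ.range.val s) := det_compl he hSe (hinv S hSe)
    have hTS : Tᴴ * S = S * e * 0 + (Sᴴ * (1 - e) + e) * S := by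
      rw [hT, conjTranspose_add, conjTranspose_mul, conjTranspose_sub, conjTranspose_one, hea, sub_sub_cancel,
        mul_zero, zero_add, (hAA _ (A.sub_mem A.one_mem heA) _ (hadjA S hSA)).eq]
    have hdq : T.det ^ q = T.det := by
      have h4 : Tᴴ * S = T := by
        rw [hTS, mul_zero, zero_add, add_mul, mul_assoc, (hAA _ (A.sub_mem A.one_mem heA) _ hSA).eq, ← mul_assoc,
          adj_mat hs, one_mul, hT, ← hSe.eq, add_comm]
      have h5 := congrArg Matrix.det h4
      rwa [Matrix.det_mul, hdetS, mul_one, Matrix.det_conjTranspose, hs] at h5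
    have hdunit : T.det ≠ 0 := by
      intro h
      rw [hdT] at h
      have h9 := congrArg (algebraMap F Φ.range) h
      rw [field_det Φ.range hF Φ.range.val s, map_zero] at h9
      letI : Field Φ.range := hF.toField
      exact hs0 (pow_eq_zero_iff'.mp h9).1
    have hdq1 : T.det ^ (q - 1) = 1 := by
      have : T.det ^ (q - 1) * T.det = 1 * T.det := by rw [← pow_succ, Nat.sub_add_cancel hq1.le, one_mul, hdq]
      exact mul_right_cancel₀ hdunit this
    obtain ⟨k, hk⟩ := hDn
    have h6 : s ^ ((∑ i ∈ Finset.range D, (q ^ 2) ^ i) * k * (q - 1)) = 1 := by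
      have h7 := field_det Φ.range hF Φ.range.val s
      rw [← hdT, hK, hk, Nat.mul_div_cancel_left _ hD] at h7
      rw [pow_mul, ← h7, ← map_pow, hdq1, map_one]
    have h8 := hordk s hs0
    rw [hK] at h8
    have hord : (orderOf s : ℤ) ∣ sM n q := by
      refine dvd_sM_split (D := D) (k := k) (by rw [mul_assoc, ← hk]; exact hrank) ?_ ?_
      · have h9 := Int.natCast_dvd_natCast.mpr (orderOf_dvd_of_pow_eq_one h8)
        rwa [← pow_mul, Nat.cast_sub (Nat.one_le_pow _ _ (by omega)), Nat.cast_pow, Nat.cast_one] at h9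
      · have h9 := Int.natCast_dvd_natCast.mpr (orderOf_dvd_of_pow_eq_one h6)
        simpa [Nat.cast_sum, Nat.cast_sub hq1.le] using h9
    have hsz : (s ^ (N0 / z)) ^ z = 1 := by
      rw [← pow_mul, Nat.div_mul_cancel (zU_dvd_sM n q)]
      exact orderOf_dvd_iff_pow_eq_one.mp (Int.natCast_dvd.mp hord)
    obtain ⟨c, hcz, hc⟩ := root_mem_ground hF hzF hsz
    refine ⟨c, ?_⟩
    set H : Mat := S ^ (N0 / z) with hH
    have hHe : H * e = c • e := by
      have h10 := congrArg Subtype.val hc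
      rw [SubmonoidClass.coe_pow] at h10
      change Φ ⟨S, hSA⟩ ^ (N0 / z) = algebraMap F (Module.End F W) c at h10
      rw [← map_pow, ← AlgHom.commutes Φ, hΦeq, SubmonoidClass.coe_pow, Subalgebra.coe_algebraMap] at h10
      rw [hH, h10, Algebra.smul_def]
    have hcn : c * c ^ q = 1 := by
      obtain ⟨j, hj⟩ := hzq
      rw [← pow_succ', hj, pow_mul, hcz, one_pow]
    have hHH : H * Hᴴ = 1 := by
      refine mul_eq_one_comm.mp ?_
      rw [hH, hS, ← mat_pow]
      exact adj_mat hs _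
    have hadj : (1 - e) * Hᴴ = c ^ q • (1 - e) := by
      have := congrArg conjTranspose hHe
      rwa [conjTranspose_mul, conjTranspose_smul, hea, hs] at this
    have h11 : H * (1 - e) = c • (1 - e) := by
      have hHc : Commute H (1 - e) := hAA _ (A.pow_mem hSA _) _ (A.sub_mem A.one_mem heA)
      have h12 : c • (H * ((1 - e) * Hᴴ)) = c • (H * (c ^ q • (1 - e))) := by rw [hadj]
      rw [← mul_assoc, hHc.eq, mul_assoc, hHH, mul_one, mul_smul_comm, smul_smul, hcn, one_smul] at h12
      exact h12.symm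
    calc H = H * e + H * (1 - e) := by rw [← mul_add, add_sub_cancel, mul_one]
      _ = c • e + c • (1 - e) := by rw [hHe, h11]
      _ = c • 1 := by rw [← smul_add, add_sub_cancel]
  push Not at h3
  have hpow1 : ∀ x : A, x ≠ 0 → x ^ (Q - 1) = 1 := by
    intro x hx
    refine Subtype.ext ?_
    rw [SubmonoidClass.coe_pow, OneMemClass.coe_one]
    refine h3 _ (A.pow_mem x.2 _) (hidem _ x.2) fun h => hx (Subtype.ext ?_)
    rw [← hfix x.1 x.2, show Q = 1 + (Q - 1) by omega, pow_add, h, mul_zero]; rfl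
  have hF : IsField A := by
    refine ⟨exists_pair_ne _, fun a b => Subtype.ext (hAA a.1 a.2 b.1 b.2).eq, fun {a} ha => ⟨a ^ (Q - 2), ?_⟩⟩
    rw [← pow_succ', show Q - 2 + 1 = Q - 1 by omega, hpow1 a ha]
  let σ : A →+* A :=
    { toFun := fun x => ⟨x.1ᴴ, hadjA x.1 x.2⟩
      map_one' := Subtype.ext conjTranspose_one
      map_mul' := fun x y => Subtype.ext (by
        show (x.1 * y.1)ᴴ = x.1ᴴ * y.1ᴴ
        rw [conjTranspose_mul, (hAA _ (hadjA x.1 x.2) _ (hadjA y.1 y.2)).eq])
      map_zero' := Subtype.ext conjTranspose_zero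
      map_add' := fun x y => Subtype.ext (conjTranspose_add x.1 y.1) }
  obtain ⟨hDodd, hfrob⟩ := involution_semi hK hF σ (fun x => Subtype.ext (conjTranspose_conjTranspose x.1)) (fun c =>
    Subtype.ext (by
      show (algebraMap F Mat c)ᴴ = algebraMap F Mat (c ^ q)
      rw [Algebra.algebraMap_eq_smul_one, Algebra.algebraMap_eq_smul_one, conjTranspose_smul, conjTranspose_one, hs]))
  set Φ := (Matrix.toLinAlgEquiv' (R := F) (n := Fin n)).toAlgHom.comp A.val
  obtain ⟨hD, hDn, -, -⟩ := Semi.field_action A hF Φ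
  set D := Module.finrank F A
  set s : A := ⟨S, hSA⟩
  rw [Module.finrank_fin_fun] at hDn
  obtain ⟨k, hk⟩ := hDn
  have h6 : s ^ ((∑ i ∈ Finset.range D, (q ^ 2) ^ i) * k) = 1 := by
    have h7 := field_det A hF Φ s
    have h8 : LinearMap.det (Φ s) = S.det := LinearMap.det_toLin' S
    have hdiv : n / D = k := by rw [hk, Nat.mul_div_cancel_left _ hD]
    rw [h8, hdetS, map_one, hK, Module.finrank_fin_fun, hdiv] at h7
    exact h7.symm
  have h9 : s ^ (q ^ D + 1) = 1 := by
    apply Subtype.ext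
    rw [SubmonoidClass.coe_pow, OneMemClass.coe_one, pow_succ]
    have h11 : Sᴴ = S ^ q ^ D := congrArg Subtype.val (hfrob s)
    show S ^ q ^ D * S = 1
    rw [← h11]
    exact adj_mat hs _
  have hord : (orderOf s : ℤ) ∣ sM n q := by
    refine dvd_sM_field hDodd hk.symm ?_ ?_
    · exact_mod_cast orderOf_dvd_of_pow_eq_one h9
    · have h10 := Int.natCast_dvd_natCast.mpr (orderOf_dvd_of_pow_eq_one h6)
      simpa [Nat.cast_sum] using h10
  have hsz : (s ^ (N0 / z)) ^ z = 1 := by
    rw [← pow_mul, Nat.div_mul_cancel (zU_dvd_sM n q)]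
    exact orderOf_dvd_iff_pow_eq_one.mp (Int.natCast_dvd.mp hord)
  obtain ⟨c, -, hc⟩ := root_mem_ground hF hzF hsz
  exact ⟨c, by
    have := congrArg Subtype.val hc
    rw [SubmonoidClass.coe_pow, Subalgebra.coe_algebraMap, Algebra.algebraMap_eq_smul_one] at this
    exact this⟩
where
  rank_map_star (e : Mat) : (e.map star).rank = e.rank := by
    refine le_antisymm ?_ ?_
    · exact rank_map_le e
    · conv_lhs => rw [show e = (e.map star).map star from Matrix.ext fun i j => (star_star (e i j)).symm]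
      exact rank_map_le _
  rank_map_le (e : Mat) : (e.map star).rank ≤ e.rank := by
    rw [Matrix.rank_eq_finrank_span_cols, Matrix.rank_eq_finrank_span_cols]
    let τ : F →+* F := (starRingEnd F)
    haveI : RingHomSurjective τ := ⟨fun x => ⟨star x, star_star x⟩⟩
    let φ : (Fin n → F) →ₛₗ[τ] (Fin n → F) :=
      { toFun := fun v i => star (v i)
        map_add' := fun v w => funext fun i => star_add _ _
        map_smul' := fun c v => funext fun i => by
          show star (c * v i) = τ c * star (v i)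
          rw [star_mul, mul_comm]; rfl }
    have h : Submodule.span F (Set.range (e.map star).col) = (Submodule.span F (Set.range e.col)).map φ := by
      rw [Submodule.map_span, ← Set.range_comp]; rfl
    rw [h]
    exact semilinear_finrank_map_le φ _
  semilinear_finrank_map_le {τ : F →+* F} [RingHomSurjective τ] (φ : (Fin n → F) →ₛₗ[τ] (Fin n → F))
      (U : Submodule F (Fin n → F)) : Module.finrank F (U.map φ) ≤ Module.finrank F U := by
    let b := Module.finBasis F U
    have h : U.map φ ≤ Submodule.span F (Set.range fun i => φ (b i : Fin n → F)) := by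
      rintro _ ⟨u, hu, rfl⟩
      have hu' : u = ∑ i, b.repr ⟨u, hu⟩ i • (b i : Fin n → F) := by
        conv_lhs => rw [show u = ((⟨u, hu⟩ : U) : Fin n → F) from rfl, ← b.sum_repr ⟨u, hu⟩]
        rw [Submodule.coe_sum]; rfl
      rw [hu', map_sum]
      exact Submodule.sum_mem _ fun i _ => by
        rw [map_smulₛₗ]; exact Submodule.smul_mem _ _ (Submodule.subset_span ⟨i, rfl⟩)
    refine (Submodule.finrank_mono h).trans ((finrank_range_le_card _).trans ?_)
    rw [Fintype.card_fin]

end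

end Cfsg.Agent.KS58.SUDi
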