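import Mathlib
import Cfsg.Agent.KnownSimple58.UnitaryDichotomy
import Cfsg.Agent.KnownSimple58.RegularNilpotent
import Cfsg.Agent.KnownSimple58.Spectrum

/-!
Elements of projective special unitary groups: a Singer cycle, and a unipotent element commuting with an element of
order `r`.
-/

set_option autoImplicit false

namespace Cfsg.Agent.KS58.SUEl

open Matrix Cfsg.Agent.KS58.SUDi

variable {F : Type*} [Field F] [Fintype F] [StarRing F] {q : ℕ}

/-- A matrix preserving an invertible sesquilinear form is similar to a unitary one. -/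
theorem exists_unitary_conj (hK : Fintype.card F = q ^ 2) (hs : ∀ x : F, star x = x ^ q) {n : ℕ}
    (A M : Matrix (Fin n) (Fin n) F) (hA : IsUnit A) (hM : IsUnit M) (hinv : Aᴴ * M * A = M) :
    ∃ C : GL (Fin n) F,
      ((C : Matrix (Fin n) (Fin n) F) * A * ((C⁻¹ : GL (Fin n) F) : Matrix (Fin n) (Fin n) F))ᴴ *
        ((C : Matrix (Fin n) (Fin n) F) * A * ((C⁻¹ : GL (Fin n) F) : Matrix (Fin n) (Fin n) F)) = 1 := by
  obtain ⟨-, -, -, θ, hθ⟩ := Forms59.card_sq_facts hK
  have hθ' : star θ ≠ θ := by rw [hs]; exact hθ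
  obtain ⟨H, hHu, hH, hHA⟩ := Forms59.exists_hermitian_invariant θ hθ' A M hA hM hinv
  obtain ⟨c, hc, hcc, -⟩ := Forms59.exists_conjTranspose_mul_eq θ hθ' H hH hHu
  refine ⟨hc.unit, ?_⟩
  set D : Matrix (Fin n) (Fin n) F := ((hc.unit⁻¹ : GL (Fin n) F) : Matrix (Fin n) (Fin n) F) with hD
  have h1 : c * D = 1 := by rw [hD]; exact hc.mul_val_inv
  show (c * A * D)ᴴ * (c * A * D) = 1
  calc (c * A * D)ᴴ * (c * A * D) = Dᴴ * (Aᴴ * (cᴴ * c) * A) * D := by simp only [conjTranspose_mul, mul_assoc]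
    _ = Dᴴ * (cᴴ * c) * D := by rw [hcc, hHA]
    _ = (c * D)ᴴ * (c * D) := by rw [conjTranspose_mul]; simp only [mul_assoc]
    _ = 1 := by rw [h1, conjTranspose_one, one_mul]

theorem conj_pow {n : ℕ} (C : GL (Fin n) F) (A : Matrix (Fin n) (Fin n) F) (j : ℕ) :
    ((C : Matrix (Fin n) (Fin n) F) * A * ((C⁻¹ : GL (Fin n) F) : Matrix (Fin n) (Fin n) F)) ^ j =
      (C : Matrix (Fin n) (Fin n) F) * A ^ j * ((C⁻¹ : GL (Fin n) F) : Matrix (Fin n) (Fin n) F) := by
  induction j with
  | zero => simp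
  | succ j ih =>
    rw [pow_succ, ih, pow_succ]
    simp only [mul_assoc]
    rw [← mul_assoc ((C⁻¹ : GL (Fin n) F) : Matrix (Fin n) (Fin n) F) (C : Matrix (Fin n) (Fin n) F), Units.inv_mul,
      one_mul]

/-- From a matrix preserving a form to an element of `PSU` of the same projective order. -/
theorem torus_core (hK : Fintype.card F = q ^ 2) (hs : ∀ x : F, star x = x ^ q) {n : ℕ} (hn : 2 ≤ n)
    (A M : Matrix (Fin n) (Fin n) F) (hM : IsUnit M) (hinv : Aᴴ * M * A = M) (hd : A.det = 1) {N : ℕ}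
    (hN : ∀ j, A ^ j = 1 → N ∣ j) (hzN : zU n q ∣ N) :
    ∃ x : Cfsg.PSU n F q, N / zU n q ∣ orderOf x := by
  obtain ⟨C, hC⟩ := exists_unitary_conj hK hs A M ((Matrix.isUnit_iff_isUnit_det A).mpr (hd ▸ isUnit_one)) hM hinv
  set B := (C : Matrix (Fin n) (Fin n) F) * A * ((C⁻¹ : GL (Fin n) F) : Matrix (Fin n) (Fin n) F) with hB
  have hBd : B.det = 1 := by
    rw [hB, Matrix.det_mul, Matrix.det_mul, hd, mul_one, ← Matrix.det_mul, Units.mul_inv, Matrix.det_one]
  set g := mkSU hs B hC hBd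
  refine ⟨proj g, ?_⟩
  set j := orderOf (proj g) with hj
  have h1 : g ^ j ∈ Subgroup.center (Cfsg.SU n F q) := by
    rw [← QuotientGroup.eq_one_iff, QuotientGroup.mk_pow]
    exact pow_orderOf_eq_one (proj g)
  obtain ⟨c, hc⟩ := scalar_of_center hK hn _ h1
  have hdet : c ^ n = 1 := by
    have h2 : (mat (g ^ j)).det = 1 := (g ^ j).1.2
    rwa [hc, Matrix.det_smul, Fintype.card_fin, Matrix.det_one, mul_one] at h2
  have hu : c * c ^ q = 1 := by
    have h2 := adj_mat hs (g ^ j)
    rw [hc, conjTranspose_smul, conjTranspose_one, smul_mul_smul_comm, one_mul, hs] at h2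
    have h3 := congrFun (congrFun h2 ⟨0, by omega⟩) ⟨0, by omega⟩
    simpa [mul_comm] using h3
  have hcz : c ^ zU n q = 1 := pow_gcd_eq_one.mpr ⟨hdet, by rw [pow_succ']; exact hu⟩
  have hA : A ^ (j * zU n q) = 1 := by
    have h2 : B ^ (j * zU n q) = 1 := by
      have h4 : B ^ j = c • 1 := by rw [← hc, mat_pow]; rfl
      rw [pow_mul, h4, smul_pow, hcz, one_pow, one_smul]
    rw [hB, conj_pow] at h2
    have h3 := congrArg (fun X => ((C⁻¹ : GL (Fin n) F) : Matrix (Fin n) (Fin n) F) * X * (C : Matrix (Fin n) (Fin n) F)) h2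
    simpa [mul_assoc] using h3
  exact (Nat.div_dvd_iff_dvd_mul hzN (Nat.gcd_pos_of_pos_left _ (by omega))).mpr (by rw [mul_comm]; exact hN _ hA)

theorem sM_mul (n q : ℕ) : ((sM n q).natAbs : ℤ) * ((q : ℤ) + 1) = |(-(q : ℤ)) ^ n - 1| := by
  have h := geom_sum_mul (-(q : ℤ)) n
  rw [← h, abs_mul, ← sM, Int.natCast_natAbs]
  congr 1
  rw [abs_of_neg (by omega)]
  ring

theorem sM_odd {n q : ℕ} (hn : Odd n) : (sM n q).natAbs * (q + 1) = q ^ n + 1 := by
  have h := sM_mul n q
  rw [hn.neg_pow] at h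
  have h2 : |-(q : ℤ) ^ n - 1| = (q : ℤ) ^ n + 1 := by
    rw [abs_of_neg (by have : (0 : ℤ) ≤ (q : ℤ) ^ n := by positivity
                       omega)]
    ring
  rw [h2] at h
  exact_mod_cast h

theorem sM_even {n q : ℕ} (hn : Even n) (hq : 0 < q) : (sM n q).natAbs * (q + 1) = q ^ n - 1 := by
  have h := sM_mul n q
  rw [hn.neg_pow, abs_of_nonneg (sub_nonneg.mpr (one_le_pow₀ (by exact_mod_cast hq)))] at h
  rw [Int.natCast_natAbs] at h
  zify [Nat.one_le_pow n q hq]
  exact h

/-- An element of `PSU_n(q)` of order divisible by `(q^n - (-1)^n)/((q+1) gcd(n, q+1))`. -/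
theorem exists_psu_singer (hK : Fintype.card F = q ^ 2) (hs : ∀ x : F, star x = x ^ q) {n : ℕ} (hn : 2 ≤ n) :
    ∃ x : Cfsg.PSU n F q, (sM n q).natAbs / zU n q ∣ orderOf x := by
  classical
  obtain ⟨hadd, hqq, hq1, -⟩ := Forms59.card_sq_facts hK
  set N0 := (sM n q).natAbs with hN0
  haveI : Fact (Nat.Prime (ringChar F)) := ⟨CharP.char_is_prime F _⟩
  rcases Nat.even_or_odd n with hev | hod
  · obtain ⟨m, rfl⟩ := hev
    haveI : NeZero m := ⟨by omega⟩
    let K := FiniteField.Extension F (ringChar F) m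
    haveI : Fintype K := Fintype.ofFinite K
    have hKc : Fintype.card K = q ^ (m + m) := by
      rw [← Nat.card_eq_fintype_card, FiniteField.natCard_extension, Nat.card_eq_fintype_card, hK, ← pow_mul]
      ring_nf
    obtain ⟨t, ht⟩ := IsCyclic.exists_generator (α := Kˣ)
    have hto : orderOf t = N0 * (q + 1) := by
      rw [orderOf_eq_card_of_forall_mem_zpowers ht, Nat.card_units, Nat.card_eq_fintype_card, hKc, hN0,
        sM_even ⟨m, rfl⟩ (by omega)]
    set w := t ^ (q + 1) with hw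
    have hwo : orderOf w = N0 := by
      rw [hw, orderOf_pow' t (by omega), hto, Nat.gcd_eq_right (Dvd.intro_left _ rfl), Nat.mul_div_cancel _ (by omega)]
    obtain ⟨φ, hφ, hdet⟩ := exists_units_hom (F := F) (A := K) m (FiniteField.finrank_extension F (ringChar F) m).le
    set W : Matrix (Fin m) (Fin m) F := (φ w : Matrix (Fin m) (Fin m) F) with hW
    set Wi : Matrix (Fin m) (Fin m) F := (((φ w)⁻¹ : GL (Fin m) F) : Matrix (Fin m) (Fin m) F) with hWi
    have hWW : Wi * W = 1 := Units.inv_mul _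
    let e : Fin m ⊕ Fin m ≃ Fin (m + m) := finSumFinEquiv
    let T := Matrix.reindexAlgEquiv F F e
    set A0 : Matrix (Fin m ⊕ Fin m) (Fin m ⊕ Fin m) F := Matrix.fromBlocks W 0 0 Wiᴴ with hA0
    set M0 : Matrix (Fin m ⊕ Fin m) (Fin m ⊕ Fin m) F := Matrix.fromBlocks 0 1 1 0 with hM0
    have hTconj : ∀ X, (T X)ᴴ = T Xᴴ := fun X => rfl
    have hinv : (T A0)ᴴ * T M0 * T A0 = T M0 := by
      rw [hTconj, ← map_mul, ← map_mul]
      congr 1
      rw [hA0, hM0, Matrix.fromBlocks_conjTranspose, Matrix.fromBlocks_multiply, Matrix.fromBlocks_multiply]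
      simp [hWW, ← Matrix.conjTranspose_mul]
    have hM : IsUnit (T M0) := by
      refine IsUnit.map T (IsUnit.of_mul_eq_one M0 ?_)
      rw [hM0, Matrix.fromBlocks_multiply]
      simp [Matrix.fromBlocks_one]
    have hd : (T A0).det = 1 := by
      rw [Matrix.reindexAlgEquiv_apply, Matrix.det_reindex_self, hA0, Matrix.det_fromBlocks_zero₂₁,
        Matrix.det_conjTranspose, hs]
      have h1 : W.det * Wi.det = 1 := by rw [← Matrix.det_mul, mul_eq_one_comm.mp hWW, Matrix.det_one]
      have h2 : W.det ^ (q - 1) = 1 := by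
        rw [hW, hdet, hw, Units.val_pow_eq_pow_val, map_pow, ← pow_mul, ← Nat.sq_sub_sq, one_pow, ← hK]
        exact FiniteField.pow_card_sub_one_eq_one _ fun h => t.ne_zero (Algebra.norm_eq_zero_iff.mp h)
      have h3 : W.det ^ q = W.det := by rw [show q = q - 1 + 1 by omega, pow_succ, h2, one_mul]
      calc W.det * Wi.det ^ q = W.det ^ q * Wi.det ^ q := by rw [h3]
        _ = 1 := by rw [← mul_pow, h1, one_pow]
    refine torus_core hK hs hn (T A0) (T M0) hM hinv hd (N := N0) (fun j hj => ?_) (zU_dvd_sM _ q)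
    rw [← map_pow, map_eq_one_iff T T.injective] at hj
    have hblk : ∀ i, A0 ^ i = Matrix.fromBlocks (W ^ i) 0 0 (Wiᴴ ^ i) := by
      intro i
      induction i with
      | zero => simp [Matrix.fromBlocks_one]
      | succ i ih => rw [pow_succ, ih, hA0, Matrix.fromBlocks_multiply, pow_succ, pow_succ]; simp
    rw [hblk, ← Matrix.fromBlocks_one, Matrix.fromBlocks_inj] at hj
    rw [← hwo, ← orderOf_injective φ hφ]
    exact orderOf_dvd_of_pow_eq_one (Units.ext (by rw [Units.val_pow_eq_pow_val, Units.val_one]; exact hj.1))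
  · haveI : NeZero n := ⟨by omega⟩
    let K := FiniteField.Extension F (ringChar F) n
    haveI : Fintype K := Fintype.ofFinite K
    have hKc : Fintype.card K = (q ^ n) ^ 2 := by
      rw [← Nat.card_eq_fintype_card, FiniteField.natCard_extension, Nat.card_eq_fintype_card, hK, ← pow_mul,
        ← pow_mul, mul_comm]
    obtain ⟨f, hf0⟩ : ∃ f, q = ringChar F ^ f := by
      obtain ⟨g, -, hg⟩ := FiniteField.card F (ringChar F)
      have hdvd : q ∣ ringChar F ^ (g : ℕ) := by rw [← hg, hK]; exact dvd_pow_self q two_ne_zero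
      obtain ⟨f, -, hf⟩ := (Nat.dvd_prime_pow (Fact.out : (ringChar F).Prime)).1 hdvd
      exact ⟨f, hf⟩
    haveI : CharP K (ringChar F) := charP_of_injective_algebraMap (algebraMap F K).injective _
    let θ : K →+* K := iterateFrobenius K (ringChar F) (f * n)
    have hθ : ∀ x : K, θ x = x ^ q ^ n := fun x => by rw [hf0, ← pow_mul]; rfl
    have hθF : ∀ c : F, θ (algebraMap F K c) = algebraMap F K (c ^ q) := by
      intro c
      rw [hθ, ← map_pow]
      congr 1
      obtain ⟨r, rfl⟩ := hod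
      rw [pow_succ, pow_mul, pow_mul, ← hK, FiniteField.pow_card_pow]
    have hθb : Function.Surjective θ := by
      intro x
      refine ⟨θ x, ?_⟩
      rw [hθ, hθ, ← pow_mul, ← sq, ← hKc, FiniteField.pow_card]
    obtain ⟨t, ht⟩ := IsCyclic.exists_generator (α := Kˣ)
    have hqn : 1 < q ^ n := Nat.one_lt_pow (by omega) hq1
    have hto : orderOf t = N0 * (q + 1) * (q ^ n - 1) := by
      rw [orderOf_eq_card_of_forall_mem_zpowers ht, Nat.card_units, Nat.card_eq_fintype_card, hKc, hN0, sM_odd hod,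
        ← Nat.sq_sub_sq, one_pow]
    set w := t ^ ((q + 1) * (q ^ n - 1)) with hw
    have hne : (q + 1) * (q ^ n - 1) ≠ 0 := by
      have : q ^ n - 1 ≠ 0 := by omega
      positivity
    have hwo : orderOf w = N0 := by
      rw [hw, orderOf_pow' t hne, hto, mul_assoc, Nat.gcd_eq_right (Dvd.intro_left _ rfl),
        Nat.mul_div_cancel _ (Nat.pos_of_ne_zero hne)]
    let b : Module.Basis (Fin n) F K := Module.finBasisOfFinrankEq F K (FiniteField.finrank_extension F (ringChar F) n)
    set A : Matrix (Fin n) (Fin n) F := Algebra.leftMulMatrix b (w : K) with hA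
    set M : Matrix (Fin n) (Fin n) F := Matrix.of fun i j => Algebra.trace F K (θ (b i) * b j) with hM
    have hcol : ∀ i, ∑ k, A k i • b k = (w : K) * b i := fun i => by
      conv_rhs => rw [← b.sum_repr ((w : K) * b i)]
      exact Finset.sum_congr rfl fun k _ => by rw [hA, Algebra.leftMulMatrix_eq_repr_mul]
    have hθw : θ (w : K) * (w : K) = 1 := by
      rw [hθ, ← pow_succ, ← Units.val_pow_eq_pow_val, orderOf_dvd_iff_pow_eq_one.mp, Units.val_one]
      rw [hwo, ← sM_odd hod]
      exact Dvd.intro _ rfl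
    have hinv : Aᴴ * M * A = M := by
      ext i j
      have e1 : θ ((w : K) * b i) * ((w : K) * b j) = ∑ k, ∑ l, (A k i ^ q * A l j) • (θ (b k) * b l) := by
        rw [← hcol i, ← hcol j, map_sum, Finset.sum_mul_sum]
        refine Finset.sum_congr rfl fun k _ => Finset.sum_congr rfl fun l _ => ?_
        rw [Algebra.smul_def, Algebra.smul_def, Algebra.smul_def, map_mul θ, hθF, map_mul]
        ring
      have e2 : θ ((w : K) * b i) * ((w : K) * b j) = θ (b i) * b j := by
        rw [map_mul]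
        linear_combination (θ (b i) * b j) * hθw
      have h := congrArg (Algebra.trace F K) (e1.symm.trans e2)
      simp only [map_sum, map_smul, smul_eq_mul] at h
      simp only [Matrix.mul_apply, Finset.sum_mul, Matrix.conjTranspose_apply, hs, hM, Matrix.of_apply]
      rw [Finset.sum_comm, ← h]
      exact Finset.sum_congr rfl fun k _ => Finset.sum_congr rfl fun l _ => by ring
    have hMu : IsUnit M := by
      rw [← Matrix.mulVec_injective_iff_isUnit]
      intro u v huv
      rw [← sub_eq_zero]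
      have h0 : M *ᵥ (u - v) = 0 := by rw [Matrix.mulVec_sub, huv, sub_self]
      set d := u - v
      set y : K := ∑ j, d j • b j with hy
      have hy0 : ∀ i, Algebra.trace F K (θ (b i) * y) = 0 := by
        intro i
        have := congrFun h0 i
        simp only [hM, Matrix.mulVec, dotProduct, Matrix.of_apply, Pi.zero_apply] at this
        rw [hy, Finset.mul_sum, map_sum, ← this]
        exact Finset.sum_congr rfl fun j _ => by rw [mul_smul_comm, map_smul, smul_eq_mul, mul_comm]
      have hyz : y = 0 := by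
        refine (traceForm_nondegenerate F K).1 y fun z => ?_
        obtain ⟨x, rfl⟩ := hθb z
        rw [Algebra.traceForm_apply, ← b.sum_repr x, map_sum, Finset.mul_sum, map_sum]
        refine Finset.sum_eq_zero fun i _ => ?_
        rw [Algebra.smul_def, map_mul θ, hθF, ← Algebra.smul_def, mul_smul_comm, map_smul, mul_comm y, hy0, smul_zero]
      exact funext fun i => Fintype.linearIndependent_iff.mp b.linearIndependent d hyz i
    have hd : A.det = 1 := by
      rw [hA, ← Algebra.norm_eq_matrix_det b]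
      apply (algebraMap F K).injective
      rw [FiniteField.algebraMap_norm_eq_pow_sum, FiniteField.finrank_extension, Nat.card_eq_fintype_card, map_one, hw,
        ← Units.val_pow_eq_pow_val, ← pow_mul, orderOf_dvd_iff_pow_eq_one.mp, Units.val_one]
      rw [hto, sM_odd hod, hK]
      have h5 := geom_sum_mul_of_one_le (Nat.one_le_pow 2 q (by omega)) n
      rw [← pow_mul, mul_comm 2 n, pow_mul] at h5
      have h6 : (q ^ n) ^ 2 - 1 = (q ^ n + 1) * (q ^ n - 1) := by rw [← Nat.sq_sub_sq, one_pow]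
      rw [h6] at h5
      rw [← h5, show q ^ 2 - 1 = (q + 1) * (q - 1) by rw [← Nat.sq_sub_sq, one_pow]]
      refine Dvd.intro_left ((q ^ n - 1) / (q - 1)) ?_
      have h7 : q - 1 ∣ q ^ n - 1 := by simpa using Nat.sub_dvd_pow_sub_pow q 1 n
      obtain ⟨c, hc⟩ := h7
      rw [hc, Nat.mul_div_cancel_left _ (by omega)]
      ring
    refine torus_core hK hs hn A M hMu hinv hd (N := N0) (fun j hj => ?_) (zU_dvd_sM _ q)
    rw [hA, ← map_pow, ← map_one (Algebra.leftMulMatrix b)] at hj
    rw [← hwo]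
    exact orderOf_dvd_of_pow_eq_one (Units.ext (by
      rw [Units.val_pow_eq_pow_val, Units.val_one]; exact Algebra.leftMulMatrix_injective b hj))

/-- A unipotent element of order `p^c`, `d < c`, commuting with an element of order `r`, provided `p^d + 1 < n`. -/
theorem exists_psu_unipotent_r {p : ℕ} [Fact p.Prime] [CharP F p] (hK : Fintype.card F = q ^ 2)
    (hs : ∀ x : F, star x = x ^ q) {n r d : ℕ} (hr : r.Prime) (hrq : r ∣ q + 1) (hrn : ¬ r ∣ n) (hd : p ^ d + 1 < n) :
    ∃ (x u : Cfsg.PSU n F q) (c : ℕ), orderOf x = p ^ c ∧ d < c ∧ orderOf u = r ∧ Commute x u := by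
  classical
  obtain ⟨m, rfl⟩ : ∃ m, n = m + 1 := ⟨n - 1, by omega⟩
  have hp : p.Prime := Fact.out
  haveI : Nonempty (Fin m) := ⟨⟨0, by omega⟩⟩
  set N := KS58.shift F m with hN
  have hNreg : KS58.IsRegNil N := KS58.isRegNil_shift F m
  have hNnil : IsNilpotent N := ⟨m, hNreg.1⟩
  set U := 1 + N with hU
  have hUu : IsUnit U := hNnil.isUnit_one_add
  have hUdet : IsUnit U.det := (Matrix.isUnit_iff_isUnit_det U).mp hUu
  have hUtdet : IsUnit Uᵀ.det := by rwa [Matrix.det_transpose]
  set W := (Uᵀ)⁻¹ with hW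
  have hWU : W * Uᵀ = 1 := Matrix.nonsing_inv_mul _ hUtdet
  have hUW : Uᵀ * W = 1 := Matrix.mul_nonsing_inv _ hUtdet
  have hWu : IsUnit W.det := Matrix.isUnit_nonsing_inv_det _ hUtdet
  have hW1 : W - 1 = -Nᵀ * W := by
    have h0 : Uᵀ = 1 + Nᵀ := by rw [hU, Matrix.transpose_add, Matrix.transpose_one]
    have h1 := hUW
    rw [h0, add_mul, one_mul] at h1
    linear_combination (norm := noncomm_ring) h1
  have hcW : Commute (-Nᵀ) W := by
    have h0 : Commute (-Nᵀ) Uᵀ := by
      rw [hU, Matrix.transpose_add, Matrix.transpose_one]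
      exact ((Commute.one_right _).add_right (Commute.refl _)).neg_left
    show -Nᵀ * W = W * -Nᵀ
    calc -Nᵀ * W = W * (Uᵀ * -Nᵀ) * W := by rw [← mul_assoc W, hWU, one_mul]
      _ = W * (-Nᵀ * Uᵀ) * W := by rw [h0.eq]
      _ = W * -Nᵀ := by rw [mul_assoc W, mul_assoc (-Nᵀ), hUW, mul_one]
  have hWreg : KS58.IsRegNil (W - 1) := by
    refine ⟨?_, ?_⟩
    · rw [hW1, hcW.mul_pow, neg_pow, ← Matrix.transpose_pow, hNreg.1]
      simp
    · rw [hW1, Matrix.rank_mul_eq_left_of_isUnit_det _ _ hWu, show -Nᵀ = (-1 : Matrix (Fin m) (Fin m) F) * Nᵀ by simp,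
        Matrix.rank_mul_eq_right_of_isUnit_det _ _ (by rw [Matrix.det_neg]; simp), Matrix.rank_transpose, hNreg.2]
  obtain ⟨P, hP⟩ := KS58.exists_gl_conj hNreg hWreg
  have hUh : Uᴴ = Uᵀ := by
    ext i j
    rw [Matrix.conjTranspose_apply, Matrix.transpose_apply, hU, Matrix.add_apply, hN]
    simp only [KS58.shift, Matrix.of_apply, Matrix.one_apply]
    split_ifs <;> simp
  have hinv : Uᴴ * (P : Matrix (Fin m) (Fin m) F) * U = P := by
    rw [hUh, mul_assoc]
    have : (P : Matrix (Fin m) (Fin m) F) * U = W * P := by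
      rw [hU, mul_add, mul_one, hP, sub_mul, one_mul, add_sub_cancel]
    rw [this, ← mul_assoc, hUW, one_mul]
  obtain ⟨C, hC⟩ := exists_unitary_conj hK hs U (P : Matrix (Fin m) (Fin m) F) hUu P.isUnit hinv
  set B := (C : Matrix (Fin m) (Fin m) F) * U * ((C⁻¹ : GL (Fin m) F) : Matrix (Fin m) (Fin m) F) with hB
  have hBpow : ∀ k, B ^ p ^ k = 1 ↔ N ^ p ^ k = 0 := by
    intro k
    have h1 : U ^ p ^ k = 1 + N ^ p ^ k := by
      rw [hU, add_pow_char_pow_of_commute _ _ (Commute.one_left _), one_pow]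
    have h2 : (C : Matrix (Fin m) (Fin m) F) * U ^ p ^ k = C ↔ U ^ p ^ k = 1 :=
      ⟨fun h => (Units.mul_right_inj C).mp (h.trans (mul_one _).symm), fun h => by rw [h, mul_one]⟩
    rw [hB, conj_pow, Units.mul_inv_eq_iff_eq_mul, one_mul, h2, h1, add_eq_left]
  obtain ⟨k0, hk0⟩ : ∃ k, B ^ p ^ k = 1 := ⟨m, (hBpow m).mpr (by
    rw [← Nat.add_sub_cancel' (Nat.lt_pow_self hp.one_lt).le, pow_add, hNreg.1, zero_mul])⟩
  have hBd : B.det = 1 := by
    have h1 := congrArg Matrix.det hk0
    rw [Matrix.det_pow, Matrix.det_one] at h1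
    apply iterateFrobenius_inj F p k0
    rw [iterateFrobenius_def, iterateFrobenius_def, h1, one_pow]
  let e : Fin m ⊕ Fin 1 ≃ Fin (m + 1) := finSumFinEquiv
  let T := Matrix.reindexAlgEquiv F F e
  set G := T (Matrix.fromBlocks B 0 0 (1 : Matrix (Fin 1) (Fin 1) F)) with hG
  set E := T (Matrix.fromBlocks (1 : Matrix (Fin m) (Fin m) F) 0 0 (0 : Matrix (Fin 1) (Fin 1) F)) with hE
  have hTconj : ∀ X, (T X)ᴴ = T Xᴴ := fun X => rfl
  have hG1 : Gᴴ * G = 1 := by
    rw [hG, hTconj, ← map_mul, Matrix.fromBlocks_conjTranspose, Matrix.fromBlocks_multiply]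
    simp [hC, Matrix.fromBlocks_one]
  have hGd : G.det = 1 := by
    rw [hG, Matrix.reindexAlgEquiv_apply, Matrix.det_reindex_self, Matrix.det_fromBlocks_zero₂₁, hBd, Matrix.det_one,
      mul_one]
  have hEE : E * E = E := by rw [hE, ← map_mul, Matrix.fromBlocks_multiply]; simp
  have hEh : Eᴴ = E := by rw [hE, hTconj, Matrix.fromBlocks_conjTranspose]; simp
  have hE0 : E ≠ 0 := by
    rw [hE, Ne, map_eq_zero_iff T T.injective]
    intro h
    have := congrFun (congrFun h (Sum.inl (Classical.arbitrary (Fin m)))) (Sum.inl (Classical.arbitrary (Fin m)))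
    simp at this
  have hE1 : E ≠ 1 := by
    rw [hE, Ne, map_eq_one_iff T T.injective]
    intro h
    have := congrFun (congrFun h (Sum.inr 0)) (Sum.inr 0)
    simp at this
  obtain ⟨u, hu, hu'⟩ := exists_r_element hK hs (by omega) hr hrq hrn E hEE hEh hE0 hE1
  have hcGE : Commute G E := by
    show G * E = E * G
    rw [hG, hE, ← map_mul, ← map_mul, Matrix.fromBlocks_multiply, Matrix.fromBlocks_multiply]
    simp
  set g := mkSU hs G hG1 hGd
  have hgu : Commute g u := mat_injective (hu G hcGE).eq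
  have hblk : ∀ i, G ^ i = T (Matrix.fromBlocks (B ^ i) 0 0 1) := by
    intro i
    rw [hG, ← map_pow]
    congr 1
    induction i with
    | zero => simp [Matrix.fromBlocks_one]
    | succ i ih => rw [pow_succ, ih, Matrix.fromBlocks_multiply, pow_succ]; simp
  have hord : orderOf (proj g) ∣ p ^ k0 := by
    refine orderOf_dvd_of_pow_eq_one ?_
    rw [← map_pow, show g ^ p ^ k0 = 1 from mat_injective (by
      rw [mat_pow]
      show G ^ p ^ k0 = (1 : Matrix (Fin (m + 1)) (Fin (m + 1)) F)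
      rw [hblk, hk0, Matrix.fromBlocks_one, map_one]), map_one]
  obtain ⟨c, -, hc⟩ := (Nat.dvd_prime_pow hp).mp hord
  refine ⟨proj g, proj u, c, hc, ?_, hu', hgu.map _⟩
  by_contra hle
  have h1 : proj g ^ p ^ d = 1 := orderOf_dvd_iff_pow_eq_one.mp (hc ▸ pow_dvd_pow p (by omega))
  rw [← map_pow, QuotientGroup.mk'_apply, QuotientGroup.eq_one_iff] at h1
  obtain ⟨a, ha⟩ := scalar_of_center hK (by omega) _ h1
  rw [mat_pow] at ha
  change G ^ p ^ d = a • 1 at ha
  rw [hblk, ← map_one T, ← map_smul] at ha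
  have h2 := T.injective ha
  rw [← Matrix.fromBlocks_one, Matrix.fromBlocks_smul, Matrix.fromBlocks_inj] at h2
  obtain ⟨h3, -, -, h4⟩ := h2
  have ha1 : a = 1 := by simpa using (congrFun (congrFun h4 0) 0).symm
  rw [ha1, one_smul, hBpow] at h3
  have h5 := hNreg.exists_cyclic (by omega)
  obtain ⟨v, hv⟩ := h5
  apply hv
  rw [show m - 1 = p ^ d + (m - 1 - p ^ d) by omega, pow_add, h3, zero_mul, Matrix.zero_mulVec]

end Cfsg.Agent.KS58.SUEl
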