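import Cfsg.Agent.KnownSimple58.SzTable

/-!
# Every non-identity element of a Suzuki group is a product of two conjugates of `x`
-/

set_option autoImplicit false

namespace Cfsg.Agent.KnownSimple58.SzTable

open Finset Cfsg.Agent.Suzuki Cfsg.Agent.BC86.Suz
open scoped ComplexConjugate

variable {F : Type*} [Field F] [Fintype F] {m : ℕ} (hF : Fintype.card F = 2 ^ (2 * m + 1))
  (hm : 1 ≤ m) [Fintype (Cfsg.Sz F m)]
include hF hm

/-- `g` is a product of two conjugates of `x`. -/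
def Covers (x g : Cfsg.Sz F m) : Prop := ∃ u v : Cfsg.Sz F m, g = (u * x * u⁻¹) * (v * x * v⁻¹)

omit hF hm in
theorem covers_conj {x g : Cfsg.Sz F m} (h : Covers x g) (a b : Cfsg.Sz F m) :
    Covers (a * x * a⁻¹) (b * g * b⁻¹) := by
  obtain ⟨u, v, rfl⟩ := h
  exact ⟨b * u * a⁻¹, b * v * a⁻¹, by group⟩

omit hF hm in
theorem covers_inv {x g : Cfsg.Sz F m} (h : Covers x g) : Covers x⁻¹ g⁻¹ := by
  obtain ⟨u, v, rfl⟩ := h
  exact ⟨v, u, by group⟩

/-- The summand of Frobenius' formula. -/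
noncomputable def term (x g : Cfsg.Sz F m) (φ : Cfsg.Sz F m → ℂ) : ℂ :=
  φ x * φ x * conj (φ g) / φ 1

omit hF hm in
theorem covers_of_sum_ne_zero {x g : Cfsg.Sz F m}
    (h : (∑ χ : Cfsg.IrrCharacter (Cfsg.Sz F m), term x g (χ : Cfsg.Sz F m → ℂ)) ≠ 0) :
    Covers x g := by
  by_contra hcon
  apply h
  have h0 : BC86.pairCount x x g = 0 := Nat.card_eq_zero.2
    (Or.inl ⟨fun ab => hcon ⟨ab.1.1, ab.1.2, ab.2.symm⟩⟩)
  have e := BC86.pairCount_eq x x g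
  rw [h0, Nat.cast_zero, eq_comm] at e
  exact (mul_eq_zero.1 e).resolve_left (Nat.cast_ne_zero.2 Nat.card_pos.ne')

omit hm [Fintype (Cfsg.Sz F m)] in
theorem isConj_inv_of_mem_torus {A : Subgroup (Cfsg.Sz F m)} (hA : IsTorus A)
    (hodd : Odd (Nat.card A)) {u : Cfsg.Sz F m} (hu : u ∈ A) : IsConj u u⁻¹ := by
  set N := Subgroup.normalizer (A : Set (Cfsg.Sz F m))
  haveI : Fact (Nat.Prime 2) := ⟨Nat.prime_two⟩
  obtain ⟨t, ht⟩ := exists_prime_orderOf_dvd_card' (G := N) 2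
    (by rw [hA.card_norm]; exact dvd_mul_of_dvd_left (by norm_num) _)
  have htA : (t : Cfsg.Sz F m) ∉ A := fun h => by
    have h2 := Subgroup.orderOf_dvd_natCard _ h
    rw [Subgroup.orderOf_coe, ht] at h2
    exact Nat.not_even_iff_odd.2 hodd (even_iff_two_dvd.2 h2)
  have htt : (t : Cfsg.Sz F m) * t = 1 := by
    rw [← pow_two, ← Subgroup.coe_pow, ← ht, pow_orderOf_eq_one]; rfl
  have htinv : (t : Cfsg.Sz F m)⁻¹ = t := inv_eq_of_mul_eq_one_right htt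
  have hu' : (t : Cfsg.Sz F m) * u * t ∈ A := by
    have := (Subgroup.mem_normalizer_iff.1 t.2 u).1 hu
    rwa [htinv] at this
  set b := u * ((t : Cfsg.Sz F m) * u * t) with hb
  have hbA : b ∈ A := mul_mem hu hu'
  have hbfix : (t : Cfsg.Sz F m) * b * t = b := by
    have hc : u * ((t : Cfsg.Sz F m) * u * t) = ((t : Cfsg.Sz F m) * u * t) * u :=
      congrArg Subtype.val (torus_comm hA ⟨u, hu⟩ ⟨_, hu'⟩)
    calc (t : Cfsg.Sz F m) * b * t
        = ((t : Cfsg.Sz F m) * u * t) * u * ((t : Cfsg.Sz F m) * t) := by rw [hb]; group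
      _ = b := by rw [htt, mul_one, ← hc]
  have hb1 : b = 1 := by
    by_contra hne
    apply htA
    rw [← hA.cent b hbA hne, Subgroup.mem_centralizer_singleton_iff]
    calc (t : Cfsg.Sz F m) * b = (t : Cfsg.Sz F m) * b * ((t : Cfsg.Sz F m) * t) := by
          rw [htt, mul_one]
      _ = b * t := by rw [← mul_assoc, hbfix]
  refine isConj_iff.2 ⟨t, ?_⟩
  rw [htinv]
  exact (inv_eq_of_mul_eq_one_right hb1).symm

omit [Fintype (Cfsg.Sz F m)] in
theorem torus_odd {n : ℕ} {e : ℤ} (h : (n : ℤ) = (Fintype.card F : ℤ) + 1 + 2 * e * 2 ^ m) :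
    Odd n := by
  obtain ⟨-, hqM⟩ := two_pow_facts hF hm
  rw [← Int.odd_coe_nat, h, hqM]
  exact ⟨((2 : ℤ) ^ m) ^ 2 + e * 2 ^ m, by push_cast; ring⟩

theorem steinberg_fpf {g : Cfsg.Sz F m} (hg : Fpf g) : (indB hF hm 1 - 1) g = -1 :=
  (steinberg_values hF hm).2.2.2 g hg

section Torus

variable {R : Finset (Cfsg.IrrCharacter (Cfsg.Sz F m))} {w₁ w₂ : Cfsg.IrrCharacter (Cfsg.Sz F m)}
  (t : Tbl hF hm R w₁ w₂) {A : Subgroup (Cfsg.Sz F m)}
  {RA : Finset (Cfsg.IrrCharacter (Cfsg.Sz F m))} {n' : ℕ} {e : ℤ}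
  (r : TorusRow hF hm R A RA n' e) {u : Cfsg.Sz F m} (hu : u ∈ A) (hu1 : u ≠ 1)

include r hu in
theorem real_torus (χ : Cfsg.IrrCharacter (Cfsg.Sz F m)) :
    conj ((χ : Cfsg.Sz F m → ℂ) u) = (χ : Cfsg.Sz F m → ℂ) u := by
  rw [← CharCore.irr_apply_inv]
  exact apply_of_isConj (CharCore.irr_isClassFunction χ)
    (isConj_inv_of_mem_torus hF r.isTorus (torus_odd hF hm r.card_eq) hu)

include t r hu hu1

theorem sum_R_eq (h : Cfsg.IrrCharacter (Cfsg.Sz F m) → ℂ)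
    (h0 : ∀ χ : Cfsg.IrrCharacter (Cfsg.Sz F m), (χ : Cfsg.Sz F m → ℂ) u = 0 → h χ = 0) : ∑ χ ∈ R, h χ = ∑ χ ∈ RA, h χ :=
  (sum_subset r.sub fun χ hχ hn => h0 χ (r.vanish χ hχ hn u hu hu1)).symm

/-- The values of the rows at an element of the torus. -/
theorem torus_values :
    ∑ χ ∈ RA, (χ : Cfsg.Sz F m → ℂ) u = 1 ∧ (w₁ : Cfsg.Sz F m → ℂ) u = e ∧
      (w₂ : Cfsg.Sz F m → ℂ) u = e ∧
      ∑ χ ∈ RA, (χ : Cfsg.Sz F m → ℂ) u * (χ : Cfsg.Sz F m → ℂ) u = (Nat.card A : ℂ) - 4 := by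
  classical
  have : Fintype Fˣ := Fintype.ofFinite _
  have : Fintype (Fˣ →* ℂˣ) := Fintype.ofFinite _
  obtain ⟨h8, -⟩ := q_facts hF hm
  obtain ⟨hM, hqM⟩ := two_pow_facts hF hm
  have hfpf := r.isTorus.fpf u hu hu1
  set z := U hF (1 : F) 0
  have hz1 : z ≠ 1 := U_ne_one_of_left hF hm one_ne_zero
  set c := (w₁ : Cfsg.Sz F m → ℂ) z
  have hcre : c + conj c = 0 := by
    have := t.data₁.re; push_cast at this; linear_combination this
  have hw2 : (w₂ : Cfsg.Sz F m → ℂ) u = (w₁ : Cfsg.Sz F m → ℂ) u := by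
    rw [t.conj_w, real_torus hF hm r hu]
  have hnz : ¬ IsConj u z := fun h => by
    obtain ⟨k, hk⟩ := isConj_iff.1 h
    refine cls_U_not_fpf hF (m := m) ?_ hfpf
    exact ⟨z, U_mem_USub hF 1 0, hz1, k⁻¹, by rw [← hk]; group⟩
  -- the sum over the rows
  have e1 : ∑ χ ∈ RA, (χ : Cfsg.Sz F m → ℂ) u = 1 := by
    have hk := two_sum_tbl hF hm t fun φ => φ u * conj (φ z)
    rw [CharCore.sum_apply_mul_conj, if_neg hnz] at hk
    simp only [fun f => indB_fpf hF hm f hfpf, steinberg_fpf hF hm hfpf,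
      (steinberg_values hF hm).2.1 1 0 hz1, Pi.one_apply, map_one, map_zero, mul_zero, mul_one,
      zero_mul, sum_const_zero, t.conj_w z, z, Complex.conj_conj, hw2] at hk
    rw [sum_R_eq hF hm t r hu hu1 (fun χ => (χ : Cfsg.Sz F m → ℂ) u *
        conj ((χ : Cfsg.Sz F m → ℂ) z)) (fun χ h => by rw [h, zero_mul]),
      sum_congr rfl (s₂ := RA) (fun χ hχ => by
        rw [t.rho χ (r.sub hχ) 1 0 one_ne_zero, map_neg, map_one, mul_neg, mul_one]),
      sum_neg_distrib] at hk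
    linear_combination (1 / 2 : ℂ) * hk + (w₁ : Cfsg.Sz F m → ℂ) u * hcre
  -- the degree relation
  have e2 : (w₁ : Cfsg.Sz F m → ℂ) u = e := by
    have hne : ¬ IsConj u 1 := fun h => hu1 (isConj_one_left.1 h)
    have hk := two_sum_tbl hF hm t fun φ => φ u * conj (φ 1)
    rw [CharCore.sum_apply_mul_conj, if_neg hne] at hk
    simp only [fun f => indB_fpf hF hm f hfpf, steinberg_fpf hF hm hfpf,
      (steinberg_values hF hm).1, Pi.one_apply, map_one, mul_one, zero_mul, sum_const_zero,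
      t.data₁.deg, t.data₂.deg, hw2] at hk
    rw [sum_R_eq hF hm t r hu hu1 (fun χ => (χ : Cfsg.Sz F m → ℂ) u *
        conj ((χ : Cfsg.Sz F m → ℂ) 1)) (fun χ h => by rw [h, zero_mul]),
      sum_congr rfl (s₂ := RA) (fun χ hχ => by rw [(r.data χ hχ).deg]), ← sum_mul, e1] at hk
    simp only [map_mul, map_sub, map_one, map_natCast, map_pow] at hk
    push_cast at hk
    have hn' : (n' : ℂ) = (Fintype.card F : ℂ) + 1 - 2 * (e : ℂ) * 2 ^ m := by
      have := congrArg (fun z : ℤ => (z : ℂ)) r.other_eq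
      push_cast at this; exact this
    have hne' : ((Fintype.card F : ℂ) - 1) * (4 * 2 ^ m) ≠ 0 := by
      refine mul_ne_zero ?_ (mul_ne_zero (by norm_num) (pow_ne_zero _ two_ne_zero))
      rw [sub_ne_zero]; exact_mod_cast (show Fintype.card F ≠ 1 by omega)
    apply mul_left_cancel₀ hne'
    linear_combination -hk - 2 * ((Fintype.card F : ℂ) - 1) * hn'
  refine ⟨e1, e2, hw2.trans e2, ?_⟩
  have hk := two_sum_tbl hF hm t fun φ => φ u * conj (φ u)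
  rw [BC87.sum_norm_sq_eq_card_centralizer, r.isTorus.cent u hu hu1] at hk
  simp only [fun f => indB_fpf hF hm f hfpf, steinberg_fpf hF hm hfpf, Pi.one_apply, map_one,
    mul_one, map_zero, mul_zero, sum_const_zero, map_neg, hw2, e2, map_intCast] at hk
  rw [sum_R_eq hF hm t r hu hu1 (fun χ => (χ : Cfsg.Sz F m → ℂ) u *
      conj ((χ : Cfsg.Sz F m → ℂ) u)) (fun χ h => by rw [h, zero_mul]),
    sum_congr rfl (s₂ := RA) (fun χ _ => by rw [real_torus hF hm r hu χ])] at hk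
  have he2 : (e : ℂ) * e = 1 := by rcases r.sign with h | h <;> simp [h]
  linear_combination (-1 / 2 : ℂ) * hk - 2 * he2

end Torus

/-! ### Crude bounds -/

theorem norm_hom (f : Fˣ →* ℂˣ) (k : Fˣ) : ‖((f k : ℂˣ) : ℂ)‖ = 1 := by
  refine Complex.norm_eq_one_of_pow_eq_one ?_ (orderOf_pos k).ne'
  rw [← Units.val_pow_eq_pow_val, ← map_pow, pow_orderOf_eq_one, map_one, Units.val_one]

/-- The representatives of the classes. -/
theorem rep_cases {A₁ A₂ : Subgroup (Cfsg.Sz F m)}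
    (hfpf : ∀ g : Cfsg.Sz F m, Fpf g ↔ g ∈ cls A₁ ∪ cls A₂) {g : Cfsg.Sz F m} (hg : g ≠ 1) :
    ∃ h g₀ : Cfsg.Sz F m, g = h * g₀ * h⁻¹ ∧
      ((∃ b : F, b ≠ 0 ∧ g₀ = U hF 0 b) ∨ (∃ a b : F, a ≠ 0 ∧ g₀ = U hF a b) ∨
        (∃ k : Fˣ, k ≠ 1 ∧ g₀ = T hF k) ∨ (g₀ ∈ A₁ ∧ g₀ ≠ 1) ∨ (g₀ ∈ A₂ ∧ g₀ ≠ 1)) := by
  rcases classify hF hm hg with h | ⟨a, b, h, h1, e⟩ | ⟨k, h, h1, e⟩
  · rcases (hfpf g).1 h with ⟨u, hu, hu1, k, e⟩ | ⟨u, hu, hu1, k, e⟩
    · exact ⟨k, u, e.symm, Or.inr (Or.inr (Or.inr (Or.inl ⟨hu, hu1⟩)))⟩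
    · exact ⟨k, u, e.symm, Or.inr (Or.inr (Or.inr (Or.inr ⟨hu, hu1⟩)))⟩
  · by_cases ha : a = 0
    · refine ⟨h, _, e, Or.inl ⟨b, fun hb => h1 ?_, by rw [ha]⟩⟩
      rw [ha, hb, U_zero]
    · exact ⟨h, _, e, Or.inr (Or.inl ⟨a, b, ha, rfl⟩)⟩
  · exact ⟨h, _, e, Or.inr (Or.inr (Or.inl ⟨k, h1, rfl⟩))⟩

theorem norm_known {g : Cfsg.Sz F m} (hg : g ≠ 1) (f : Fˣ →* ℂˣ) :
    ‖indB hF hm f g‖ ≤ 2 ∧ ‖(indB hF hm 1 - 1) g‖ ≤ 1 := by
  obtain ⟨A₁, A₂, -, -, -, -, hfpf⟩ := exists_tori hF hm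
  obtain ⟨h, g₀, rfl, hcase⟩ := rep_cases hF hm hfpf hg
  have hcl : ∀ f : Fˣ →* ℂˣ, indB hF hm f (h * g₀ * h⁻¹) = indB hF hm f g₀ := fun f =>
    apply_of_isConj (CharInd.isClassFunction_indFun _ _) (isConj_iff.2 ⟨h, rfl⟩)
  rw [Pi.sub_apply, Pi.one_apply, hcl f, hcl 1]
  have hU : ∀ a b : F, U hF a b ≠ 1 → ‖indB hF hm f (U hF a b)‖ ≤ 2 ∧
      ‖indB hF hm 1 (U hF a b) - 1‖ ≤ 1 := fun a b hne => by
    rw [indB_U hF hm f hne, indB_U hF hm 1 hne]; simp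
  rcases hcase with ⟨b, hb, rfl⟩ | ⟨a, b, ha, rfl⟩ | ⟨k, hk, rfl⟩ | ⟨hA, hne⟩ | ⟨hA, hne⟩
  · exact hU 0 b fun e => hb (by rw [← U_zero hF] at e; exact (U_inj hF e).2)
  · exact hU a b (U_ne_one_of_left hF hm ha)
  · rw [indB_T hF hm f hk, indB_T hF hm 1 hk]
    refine ⟨(norm_add_le _ _).trans ?_, by simp⟩
    rw [norm_hom hF hm, norm_hom hF hm]; norm_num
  all_goals
    have hf : Fpf g₀ := (hfpf g₀).2 (by
      first
      | exact Or.inl ⟨g₀, hA, hne, 1, by group⟩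
      | exact Or.inr ⟨g₀, hA, hne, 1, by group⟩)
    rw [indB_fpf hF hm f hf, indB_fpf hF hm 1 hf]
    simp

/-- If the unknown rows vanish at `x` or at `g`, the known characters dominate. -/
theorem covers_of_known {x g : Cfsg.Sz F m} (hx : x ≠ 1) (hg : g ≠ 1)
    {R : Finset (Cfsg.IrrCharacter (Cfsg.Sz F m))} {w₁ w₂ : Cfsg.IrrCharacter (Cfsg.Sz F m)}
    (t : Tbl hF hm R w₁ w₂)
    (h0 : ∀ χ, ¬ IsKnown hF hm χ → (χ : Cfsg.Sz F m → ℂ) x = 0 ∨ (χ : Cfsg.Sz F m → ℂ) g = 0) :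
    Covers x g := by
  classical
  have : Fintype Fˣ := Fintype.ofFinite _
  have : Fintype (Fˣ →* ℂˣ) := Fintype.ofFinite _
  obtain ⟨h8, -⟩ := q_facts hF hm
  refine covers_of_sum_ne_zero fun hS => ?_
  have hk := two_sum_tbl hF hm t (term x g)
  have hz : ∀ χ, ¬ IsKnown hF hm χ → term x g (χ : Cfsg.Sz F m → ℂ) = 0 := fun χ hχ => by
    rcases h0 χ hχ with h | h <;> simp [term, h]
  rw [hS, sum_eq_zero (fun χ hχ => hz χ ((t.iff χ).2 (Or.inl hχ))), hz w₁ t.data₁.not_known,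
    hz w₂ t.data₂.not_known] at hk
  set E := 2 * term x g (indB hF hm 1 - 1) +
    ∑ f ∈ univ.erase (1 : Fˣ →* ℂˣ), term x g (indB hF hm f) with hE
  have h2 : ‖E‖ = 2 := by
    have : E = -2 := by
      simp only [E]
      simp only [term, Pi.one_apply, map_one, mul_one, div_one] at hk ⊢
      linear_combination -hk
    rw [this, norm_neg]; norm_num
  have hqR : (8 : ℝ) ≤ Fintype.card F := by exact_mod_cast h8
  set q : ℝ := (Fintype.card F : ℝ) with hqdef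
  have hb : ∀ φ : Cfsg.Sz F m → ℂ, ∀ (B D : ℝ), ‖φ x‖ ≤ B → ‖φ g‖ ≤ B → ‖φ 1‖ = D → 0 < D →
      ‖term x g φ‖ ≤ B ^ 3 / D := fun φ B D hB hB' hD hD0 => by
    have hB0 : 0 ≤ B := (norm_nonneg _).trans hB
    rw [term, norm_div, norm_mul, norm_mul, Complex.norm_conj, hD]
    gcongr
    calc ‖φ x‖ * ‖φ x‖ * ‖φ g‖ ≤ B * B * B := by gcongr
      _ = B ^ 3 := by ring
  have hst : ‖term x g (indB hF hm 1 - 1)‖ ≤ 1 / q ^ 2 := by
    have := hb (indB hF hm 1 - 1) 1 (q ^ 2) (norm_known hF hm hx 1).2 (norm_known hF hm hg 1).2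
      (by rw [(steinberg_values hF hm).1, norm_pow, Complex.norm_natCast]) (by positivity)
    simpa using this
  have hind : ∀ f : Fˣ →* ℂˣ, ‖term x g (indB hF hm f)‖ ≤ 8 / (q ^ 2 + 1) := fun f => by
    have := hb (indB hF hm f) 2 (q ^ 2 + 1) (norm_known hF hm hx f).1 (norm_known hF hm hg f).1
      (by rw [indB_one, show ((Fintype.card F : ℂ) ^ 2 + 1) = ((q ^ 2 + 1 : ℝ) : ℂ) by push_cast [q]; rfl,
        Complex.norm_real, Real.norm_of_nonneg (by positivity)]) (by positivity)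
    norm_num at this ⊢; exact this
  have hsum : ‖∑ f ∈ univ.erase (1 : Fˣ →* ℂˣ), term x g (indB hF hm f)‖ ≤
      (q - 2) * (8 / (q ^ 2 + 1)) := by
    refine (norm_sum_le _ _).trans ((sum_le_sum fun f _ => hind f).trans (le_of_eq ?_))
    rw [sum_const, nsmul_eq_mul, card_hom_erase hF hm, Nat.cast_sub (by omega)]
    norm_num [q]
  have hle : ‖E‖ ≤ 2 * (1 / q ^ 2) + (q - 2) * (8 / (q ^ 2 + 1)) := by
    refine (norm_add_le _ _).trans (add_le_add ?_ hsum)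
    rw [norm_mul, Complex.norm_ofNat]; linarith
  rw [h2] at hle
  have a1 : 2 * (1 / q ^ 2) ≤ 2 / 64 := by
    rw [mul_one_div]; gcongr; nlinarith
  have a2 : (q - 2) * (8 / (q ^ 2 + 1)) ≤ 1 := by
    rw [mul_div_assoc', div_le_one (by positivity)]; nlinarith
  linarith

/-! ### Elements of order four -/

theorem covers_U_zero {b : F} (hb : b ≠ 0) : Covers (U hF (1 : F) 0) (U hF 0 b) := by
  have hsq : U hF (1 : F) 0 * U hF 1 0 = U hF 0 1 := by
    rw [U_mul]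
    congr 1
    · exact Suzuki.add_self hF 1
    · simp [sig]
  obtain ⟨k, hk⟩ := isConj_iff.1 (isConj_U_zero hF hb (m := m))
  refine ⟨k, k, ?_⟩
  rw [← hk, ← hsq]; group

section Cases

variable {R : Finset (Cfsg.IrrCharacter (Cfsg.Sz F m))} {w₁ w₂ : Cfsg.IrrCharacter (Cfsg.Sz F m)}
  (t : Tbl hF hm R w₁ w₂) {A : Subgroup (Cfsg.Sz F m)}
  {RA : Finset (Cfsg.IrrCharacter (Cfsg.Sz F m))} {n' : ℕ} {e : ℤ}
  (r : TorusRow hF hm R A RA n' e) {u : Cfsg.Sz F m} (hu : u ∈ A) (hu1 : u ≠ 1)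

include r in
theorem torus_facts : (n' : ℂ) ≠ 0 ∧ ((Fintype.card F : ℂ) - 1) ≠ 0 := by
  obtain ⟨h8, -⟩ := q_facts hF hm
  obtain ⟨hM, hqM⟩ := two_pow_facts hF hm
  refine ⟨Nat.cast_ne_zero.2 fun h => ?_, ?_⟩
  · have := r.other_eq
    have hq : (Fintype.card F : ℤ) = 2 * ((2 : ℤ) ^ m) ^ 2 := by rw [hqM]; push_cast; ring
    rw [h, hq, Nat.cast_zero] at this
    rcases r.sign with h' | h' <;> subst h' <;>
      nlinarith [sq_nonneg ((2 : ℤ) ^ m - 1), sq_nonneg ((2 : ℤ) ^ m + 1)]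
  · rw [sub_ne_zero]; exact_mod_cast (show Fintype.card F ≠ 1 by omega)

include t r hu hu1

theorem covers_torus_U_zero {b : F} (hb : b ≠ 0) : Covers u (U hF 0 b) := by
  classical
  have : Fintype Fˣ := Fintype.ofFinite _
  have : Fintype (Fˣ →* ℂˣ) := Fintype.ofFinite _
  obtain ⟨h8, -⟩ := q_facts hF hm
  obtain ⟨hM, hqM⟩ := two_pow_facts hF hm
  obtain ⟨hn', hq1⟩ := torus_facts hF hm r
  obtain ⟨e1, e2, e3, e4⟩ := torus_values hF hm t r hu hu1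
  refine covers_of_sum_ne_zero fun hS => ?_
  have hfpf := r.isTorus.fpf u hu hu1
  have hk := two_sum_tbl hF hm t (term u (U hF 0 b))
  have hg1 : U hF (0 : F) b ≠ 1 := fun h => hb (by rw [← U_zero hF] at h; exact (U_inj hF h).2)
  simp only [term, fun f => indB_fpf hF hm f hfpf, steinberg_fpf hF hm hfpf,
    (steinberg_values hF hm).2.1 0 b hg1, Pi.one_apply, map_one, map_zero, mul_zero, mul_one,
    zero_mul, zero_div, div_one, sum_const_zero, e2, e3, apply_U_zero hF hm hb, t.data₁.invol,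
    t.data₂.invol, t.data₁.deg, t.data₂.deg] at hk
  rw [show (∑ χ : Cfsg.IrrCharacter (Cfsg.Sz F m), (χ : Cfsg.Sz F m → ℂ) u *
      (χ : Cfsg.Sz F m → ℂ) u * conj ((χ : Cfsg.Sz F m → ℂ) (U hF 0 1)) /
      (χ : Cfsg.Sz F m → ℂ) 1) = 0 by
      rw [← hS]; simp only [term, apply_U_zero hF hm hb],
    sum_R_eq hF hm t r hu hu1 (fun χ => (χ : Cfsg.Sz F m → ℂ) u * (χ : Cfsg.Sz F m → ℂ) u *
      conj ((χ : Cfsg.Sz F m → ℂ) (U hF 0 1)) / (χ : Cfsg.Sz F m → ℂ) 1)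
      (fun χ h => by simp [h]),
    sum_congr rfl (s₂ := RA) (fun χ hχ => show _ =
      (χ : Cfsg.Sz F m → ℂ) u * (χ : Cfsg.Sz F m → ℂ) u *
        (((Fintype.card F : ℂ) - n') / (((Fintype.card F : ℂ) - 1) * n')) by
      rw [(r.data χ hχ).deg, (r.data χ hχ).invol]; simp [mul_div_assoc]), ← sum_mul, e4] at hk
  have he2 : (e : ℂ) * e = 1 := by rcases r.sign with h | h <;> simp [h]
  have hM0 : ((2 : ℂ) ^ m) ≠ 0 := pow_ne_zero _ two_ne_zero
  simp only [map_sub, map_mul, map_natCast, Nat.cast_zero, mul_zero, zero_sub, map_neg,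
    Nat.cast_pow, Nat.cast_ofNat, map_pow, Complex.conj_ofNat, he2] at hk
  have key : (((((Fintype.card F : ℤ) - 3) * n' +
      ((Nat.card A : ℤ) - 4) * ((Fintype.card F : ℤ) - n')) : ℤ) : ℂ) = 0 := by
    push_cast
    field_simp at hk
    linear_combination (-1 / 2 : ℂ) * hk
  rw [Int.cast_eq_zero, r.other_eq, r.card_eq] at key
  have hq : (Fintype.card F : ℤ) = 2 * ((2 : ℤ) ^ m) ^ 2 := by rw [hqM]; push_cast; ring
  have hM' : (2 : ℤ) ≤ 2 ^ m := by exact_mod_cast hM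
  rw [hq] at key
  rcases r.sign with h | h <;> subst h <;> nlinarith

theorem covers_torus_U {a b : F} (ha : a ≠ 0) : Covers u (U hF a b) := by
  classical
  have : Fintype Fˣ := Fintype.ofFinite _
  have : Fintype (Fˣ →* ℂˣ) := Fintype.ofFinite _
  obtain ⟨h8, -⟩ := q_facts hF hm
  obtain ⟨hM, hqM⟩ := two_pow_facts hF hm
  obtain ⟨hn', hq1⟩ := torus_facts hF hm r
  obtain ⟨e1, e2, e3, e4⟩ := torus_values hF hm t r hu hu1
  refine covers_of_sum_ne_zero fun hS => ?_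
  have hfpf := r.isTorus.fpf u hu hu1
  have hk := two_sum_tbl hF hm t (term u (U hF a b))
  rw [hS] at hk
  simp only [term, fun f => indB_fpf hF hm f hfpf, steinberg_fpf hF hm hfpf,
    (steinberg_values hF hm).2.1 a b (U_ne_one_of_left hF hm ha), Pi.one_apply, map_one, map_zero,
    mul_zero, mul_one, zero_mul, zero_div, div_one, sum_const_zero, e2, e3, t.data₁.deg,
    t.data₂.deg] at hk
  rw [sum_R_eq hF hm t r hu hu1 (fun χ => (χ : Cfsg.Sz F m → ℂ) u * (χ : Cfsg.Sz F m → ℂ) u *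
      conj ((χ : Cfsg.Sz F m → ℂ) (U hF a b)) / (χ : Cfsg.Sz F m → ℂ) 1)
      (fun χ h => by simp [h]),
    sum_congr rfl (s₂ := RA) (fun χ hχ => show _ =
      (χ : Cfsg.Sz F m → ℂ) u * (χ : Cfsg.Sz F m → ℂ) u *
        ((-1) / (((Fintype.card F : ℂ) - 1) * n')) by
      rw [(r.data χ hχ).deg, t.rho χ (r.sub hχ) a b ha, map_neg, map_one]; ring), ← sum_mul, e4]
    at hk
  have hw : (w₁ : Cfsg.Sz F m → ℂ) (U hF a b) + conj ((w₁ : Cfsg.Sz F m → ℂ) (U hF a b)) = 0 := by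
    rw [(re_apply_U hF hm (χ := w₁) ha).1]
    have := t.data₁.re; push_cast at this; linear_combination this
  have hw' : conj ((w₁ : Cfsg.Sz F m → ℂ) (U hF a b)) +
      conj ((w₂ : Cfsg.Sz F m → ℂ) (U hF a b)) = 0 := by
    rw [t.conj_w, Complex.conj_conj, add_comm]; exact hw
  have key : (((((Fintype.card F : ℤ) - 1) * n' - ((Nat.card A : ℤ) - 4)) : ℤ) : ℂ) = 0 := by
    have hM0 : ((2 : ℂ) ^ m) ≠ 0 := pow_ne_zero _ two_ne_zero
    push_cast at hk ⊢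
    field_simp at hk
    apply mul_left_cancel₀ hM0
    linear_combination (-1 / 2 : ℂ) * hk - (n' : ℂ) * (e : ℂ) * e * hw'
  rw [Int.cast_eq_zero, r.other_eq, r.card_eq] at key
  have hq : (Fintype.card F : ℤ) = 2 * ((2 : ℤ) ^ m) ^ 2 := by rw [hqM]; push_cast; ring
  have hM' : (2 : ℤ) ≤ 2 ^ m := by exact_mod_cast hM
  rw [hq] at key
  rcases r.sign with h | h <;> subst h
  · nlinarith [mul_le_mul_of_nonneg_right (show (7:ℤ) ≤ 2 * (2 ^ m) ^ 2 - 1 by nlinarith)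
      (show (0:ℤ) ≤ 2 * (2 ^ m) ^ 2 + 1 - 2 * 2 ^ m by nlinarith)]
  · nlinarith [mul_le_mul_of_nonneg_right (show (7:ℤ) ≤ 2 * (2 ^ m) ^ 2 - 1 by nlinarith)
      (show (0:ℤ) ≤ 2 * (2 ^ m) ^ 2 + 1 + 2 * 2 ^ m by nlinarith)]

theorem covers_U_torus : Covers (U hF (1 : F) 0) u := by
  classical
  have : Fintype Fˣ := Fintype.ofFinite _
  have : Fintype (Fˣ →* ℂˣ) := Fintype.ofFinite _
  obtain ⟨h8, -⟩ := q_facts hF hm
  obtain ⟨hM, hqM⟩ := two_pow_facts hF hm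
  obtain ⟨hn', hq1⟩ := torus_facts hF hm r
  obtain ⟨e1, e2, e3, e4⟩ := torus_values hF hm t r hu hu1
  refine covers_of_sum_ne_zero fun hS => ?_
  have hfpf := r.isTorus.fpf u hu hu1
  have hz1 : U hF (1 : F) 0 ≠ 1 := U_ne_one_of_left hF hm one_ne_zero
  have hk := two_sum_tbl hF hm t (term (U hF 1 0) u)
  rw [hS] at hk
  have hsq2 : (w₂ : Cfsg.Sz F m → ℂ) (U hF 1 0) * (w₂ : Cfsg.Sz F m → ℂ) (U hF 1 0) =
      -(2 ^ m : ℂ) ^ 2 := by
    rw [t.conj_w, ← map_mul, t.sq_w]; simp [Complex.conj_ofNat]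
  simp only [term, fun f => indB_fpf hF hm f hfpf, (steinberg_values hF hm).2.1 1 0 hz1,
    Pi.one_apply, map_one, map_zero, mul_zero, mul_one, zero_mul, zero_div, div_one,
    sum_const_zero, e2, e3, t.data₁.deg, t.data₂.deg, t.sq_w, hsq2, map_intCast] at hk
  rw [sum_R_eq hF hm t r hu hu1 (fun χ => (χ : Cfsg.Sz F m → ℂ) (U hF 1 0) *
      (χ : Cfsg.Sz F m → ℂ) (U hF 1 0) *
      conj ((χ : Cfsg.Sz F m → ℂ) u) / (χ : Cfsg.Sz F m → ℂ) 1)
      (fun χ h => by simp [h]),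
    sum_congr rfl (s₂ := RA) (fun χ hχ => show _ =
      (χ : Cfsg.Sz F m → ℂ) u * (1 / (((Fintype.card F : ℂ) - 1) * n')) by
      rw [(r.data χ hχ).deg, t.rho χ (r.sub hχ) 1 0 one_ne_zero, real_torus hF hm r hu]
      ring), ← sum_mul, e1] at hk
  have key : (((((Fintype.card F : ℤ) - 1) * n' + 1 - 2 * e * 2 ^ m * n') : ℤ) : ℂ) = 0 := by
    have hM0 : ((2 : ℂ) ^ m) ≠ 0 := pow_ne_zero _ two_ne_zero
    push_cast at hk ⊢
    field_simp at hk
    linear_combination (-1 / 2 : ℂ) * hk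
  rw [Int.cast_eq_zero, r.other_eq] at key
  have hq : (Fintype.card F : ℤ) = 2 * ((2 : ℤ) ^ m) ^ 2 := by rw [hqM]; push_cast; ring
  have hM' : (2 : ℤ) ≤ 2 ^ m := by exact_mod_cast hM
  rw [hq] at key
  rcases r.sign with h | h <;> subst h
  · nlinarith [mul_nonneg (show (0:ℤ) ≤ 2 * (2 ^ m) ^ 2 - 1 - 2 * 2 ^ m by nlinarith)
      (show (0:ℤ) ≤ 2 * (2 ^ m) ^ 2 + 1 - 2 * 2 ^ m by nlinarith)]
  · nlinarith [mul_nonneg (show (0:ℤ) ≤ 2 * (2 ^ m) ^ 2 - 1 + 2 * 2 ^ m by nlinarith)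
      (show (0:ℤ) ≤ 2 * (2 ^ m) ^ 2 + 1 + 2 * 2 ^ m by nlinarith)]

theorem covers_torus_torus {B : Subgroup (Cfsg.Sz F m)}
    {RB : Finset (Cfsg.IrrCharacter (Cfsg.Sz F m))} {k' : ℕ} {e' : ℤ}
    (s : TorusRow hF hm R B RB k' e') (hdis : RB = RA ∧ B = A ∨ Disjoint RA RB)
    {v : Cfsg.Sz F m} (hv : v ∈ B) (hv1 : v ≠ 1) : Covers u v := by
  classical
  have : Fintype Fˣ := Fintype.ofFinite _
  have : Fintype (Fˣ →* ℂˣ) := Fintype.ofFinite _
  obtain ⟨h8, -⟩ := q_facts hF hm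
  obtain ⟨hM, hqM⟩ := two_pow_facts hF hm
  obtain ⟨e1, e2, e3, e4⟩ := torus_values hF hm t r hu hu1
  obtain ⟨f1, f2, f3, f4⟩ := torus_values hF hm t s hv hv1
  refine covers_of_sum_ne_zero fun hS => ?_
  have hfu := r.isTorus.fpf u hu hu1
  have hfv := s.isTorus.fpf v hv hv1
  have hk := two_sum_tbl hF hm t (term u v)
  rw [hS] at hk
  have he2 : (e : ℂ) * e = 1 := by rcases r.sign with h | h <;> simp [h]
  simp only [term, fun f => indB_fpf hF hm f hfu, steinberg_fpf hF hm hfu,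
    steinberg_fpf hF hm hfv, (steinberg_values hF hm).1, Pi.one_apply, map_one, mul_zero, mul_one,
    zero_mul, zero_div, div_one, sum_const_zero, e2, e3, f2, f3, t.data₁.deg, t.data₂.deg,
    map_intCast, map_neg, he2, neg_mul_neg, one_mul] at hk
  rw [sum_R_eq hF hm t r hu hu1 (fun χ => (χ : Cfsg.Sz F m → ℂ) u * (χ : Cfsg.Sz F m → ℂ) u *
      conj ((χ : Cfsg.Sz F m → ℂ) v) / (χ : Cfsg.Sz F m → ℂ) 1) (fun χ h => by simp [h])] at hk
  set q : ℝ := (Fintype.card F : ℝ) with hqdef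
  set M : ℝ := (2 : ℝ) ^ m with hMdef
  have hqR : q = 2 * M ^ 2 := by simp only [q, M, hqM]; push_cast; ring
  have hMR : (2 : ℝ) ≤ M := by simp only [M]; exact_mod_cast hM
  set n : ℝ := (Nat.card A : ℝ) with hndef
  have hn : n = q + 1 + 2 * e * M := by
    have := congrArg (fun z : ℤ => (z : ℝ)) r.card_eq
    push_cast at this; exact this
  have hk' : (n' : ℝ) = q + 1 - 2 * e * M := by
    have := congrArg (fun z : ℤ => (z : ℝ)) r.other_eq
    push_cast at this; exact this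
  have hn4 : 0 ≤ n - 4 := by
    rw [hn, hqR]; rcases r.sign with h | h <;> simp [h] <;> nlinarith
  -- the values at `v` of the rows of `A`
  have hbd : ∀ χ ∈ RA, ‖(χ : Cfsg.Sz F m → ℂ) v‖ ^ 2 ≤ n - 4 := by
    intro χ hχ
    rcases hdis with ⟨rfl, rfl⟩ | hd
    · have h' := congrArg Complex.re f4
      rw [Complex.re_sum] at h'
      simp only [Complex.sub_re, Complex.natCast_re, Complex.re_ofNat] at h'
      rw [← hndef] at h'
      have hre : ∀ ψ : Cfsg.IrrCharacter (Cfsg.Sz F m),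
          ((ψ : Cfsg.Sz F m → ℂ) v * (ψ : Cfsg.Sz F m → ℂ) v).re = ‖(ψ : Cfsg.Sz F m → ℂ) v‖ ^ 2 :=
        fun ψ => by
          nth_rewrite 2 [← real_torus hF hm s hv ψ]
          rw [Complex.mul_conj, Complex.ofReal_re, Complex.normSq_eq_norm_sq]
      simp only [hre] at h'
      rw [← h']
      exact single_le_sum (f := fun ψ : Cfsg.IrrCharacter (Cfsg.Sz F m) =>
        ‖(ψ : Cfsg.Sz F m → ℂ) v‖ ^ 2) (fun _ _ => sq_nonneg _) hχ
    · rw [s.vanish χ (r.sub hχ) (disjoint_left.1 hd hχ) v hv hv1]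
      simpa using hn4
  obtain ⟨Bd, hBd0, hBd, hnum⟩ : ∃ Bd : ℝ, 0 ≤ Bd ∧ n - 4 ≤ Bd ^ 2 ∧
      Bd * (n - 4) / ((q - 1) * n') + 2 / ((q - 1) * M) + 1 / q ^ 2 < 1 := by
    have hq1 : 0 < q - 1 := by nlinarith
    rcases eq_or_lt_of_le hMR with h | h
    · have hq8 : q = 8 := by rw [hqR, ← h]; norm_num
      refine ⟨3, by norm_num, ?_, ?_⟩ <;> rw [hn] <;> try rw [hk']
      all_goals rw [hq8, ← h]; rcases r.sign with h' | h' <;> rw [h'] <;> norm_num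
    · have h4 : (4 : ℝ) ≤ M := by
        have hh : 2 ^ 2 ≤ 2 ^ m := Nat.pow_le_pow_right (by norm_num) (by
          by_contra hc
          have : m = 1 := by omega
          simp [M, this] at h)
        have : (4 : ℕ) ≤ 2 ^ m := by simpa using hh
        simp only [M]; exact_mod_cast this
      have hn'pos : M ^ 2 ≤ (n' : ℝ) := by
        rw [hk', hqR]; rcases r.sign with h' | h' <;> simp [h'] <;> nlinarith
      refine ⟨2 * M, by linarith, ?_, ?_⟩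
      · rw [hn, hqR]; rcases r.sign with h' | h' <;> simp [h'] <;> nlinarith
      · have hup : n - 4 ≤ 3 * M ^ 2 := by
          rw [hn, hqR]; rcases r.sign with h' | h' <;> simp [h'] <;> nlinarith
        have hq31 : 31 * M ^ 2 ≤ 16 * (q - 1) := by rw [hqR]; nlinarith
        have b1 : 2 * M * (n - 4) / ((q - 1) * n') ≤ 96 / (31 * M) := by
          rw [div_le_div_iff₀ (mul_pos hq1 (lt_of_lt_of_le (by positivity) hn'pos)) (by positivity)]
          calc 2 * M * (n - 4) * (31 * M) ≤ 2 * M * (3 * M ^ 2) * (31 * M) := by gcongr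
            _ = 6 * (31 * M ^ 2) * M ^ 2 := by ring
            _ ≤ 6 * (16 * (q - 1)) * M ^ 2 := by gcongr
            _ ≤ 96 * ((q - 1) * n') := by
              have := mul_le_mul_of_nonneg_left hn'pos hq1.le
              linarith
        have b2 : 96 / (31 * M) ≤ 96 / 124 := by gcongr; linarith
        have b3 : 2 / ((q - 1) * M) ≤ 2 / 20 := by gcongr; nlinarith
        have b4 : 1 / q ^ 2 ≤ 1 / 100 := by gcongr; nlinarith
        linarith
  have hq1 : 0 < q - 1 := by nlinarith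
  have hn'pos : 0 < (n' : ℝ) := by
    rw [hk', hqR]; rcases r.sign with h' | h' <;> simp [h'] <;> nlinarith
  have hdeg : ‖((Fintype.card F : ℂ) - 1)‖ = q - 1 := by
    rw [show ((Fintype.card F : ℂ) - 1) = ((q - 1 : ℝ) : ℂ) by simp [q],
      Complex.norm_real, Real.norm_of_nonneg hq1.le]
  set O := ∑ χ ∈ RA, (χ : Cfsg.Sz F m → ℂ) u * (χ : Cfsg.Sz F m → ℂ) u *
      conj ((χ : Cfsg.Sz F m → ℂ) v) / (χ : Cfsg.Sz F m → ℂ) 1 with hO
  have hOle : ‖O‖ ≤ Bd * (n - 4) / ((q - 1) * n') := by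
    have hreu : ∀ ψ : Cfsg.IrrCharacter (Cfsg.Sz F m),
        ((ψ : Cfsg.Sz F m → ℂ) u * (ψ : Cfsg.Sz F m → ℂ) u).re =
          ‖(ψ : Cfsg.Sz F m → ℂ) u * (ψ : Cfsg.Sz F m → ℂ) u‖ := fun ψ => by
      nth_rewrite 2 [← real_torus hF hm r hu ψ]
      rw [Complex.mul_conj, Complex.ofReal_re, norm_mul]
      rw [Complex.normSq_eq_norm_sq, pow_two]
    refine (norm_sum_le _ _).trans ?_
    calc ∑ χ ∈ RA, ‖(χ : Cfsg.Sz F m → ℂ) u * (χ : Cfsg.Sz F m → ℂ) u *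
          conj ((χ : Cfsg.Sz F m → ℂ) v) / (χ : Cfsg.Sz F m → ℂ) 1‖
        ≤ ∑ χ ∈ RA, ((χ : Cfsg.Sz F m → ℂ) u * (χ : Cfsg.Sz F m → ℂ) u).re *
            (Bd / ((q - 1) * n')) := sum_le_sum fun χ hχ => by
          rw [norm_div, norm_mul _ (conj _), Complex.norm_conj, (r.data χ hχ).deg, norm_mul _ (n' : ℂ),
            hdeg, Complex.norm_natCast, ← hreu, mul_div_assoc]
          refine mul_le_mul_of_nonneg_left (div_le_div_of_nonneg_right ?_ (by positivity))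
            (by rw [hreu]; positivity)
          exact (sq_le_sq₀ (norm_nonneg _) hBd0).1 ((hbd χ hχ).trans hBd)
      _ = (n - 4) * (Bd / ((q - 1) * n')) := by
          rw [← sum_mul, ← Complex.re_sum, e4]; simp [n]
      _ = _ := by ring
  have hW : ‖(e' : ℂ) / (((Fintype.card F : ℂ) - 1) * ((2 ^ m : ℕ) : ℂ))‖ = 1 / ((q - 1) * M) := by
    rw [norm_div, norm_mul, hdeg, Complex.norm_natCast, Complex.norm_intCast]
    rcases s.sign with h | h <;> simp [h, M]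
  have h1 : ‖(1 : ℂ)‖ ≤ ‖O‖ + 2 * (1 / ((q - 1) * M)) + 1 / q ^ 2 := by
    have : (1 : ℂ) = -(O + 2 * ((e' : ℂ) / (((Fintype.card F : ℂ) - 1) * ((2 ^ m : ℕ) : ℂ))) +
        (-1) / (Fintype.card F : ℂ) ^ 2) := by
      simp only [hO]; push_cast at hk ⊢
      linear_combination (-1 / 2 : ℂ) * hk
    conv_lhs => rw [this, norm_neg]
    refine (norm_add_le _ _).trans (add_le_add ((norm_add_le _ _).trans (le_of_eq ?_)) (le_of_eq ?_))
    · rw [norm_mul, Complex.norm_ofNat, hW]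
    · simp [q]
  rw [norm_one] at h1
  have : 2 * (1 / ((q - 1) * M)) = 2 / ((q - 1) * M) := by ring
  linarith

end Cases

theorem covers_U_U {R : Finset (Cfsg.IrrCharacter (Cfsg.Sz F m))}
    {w₁ w₂ : Cfsg.IrrCharacter (Cfsg.Sz F m)} (t : Tbl hF hm R w₁ w₂) {a b : F} (ha : a ≠ 0) :
    Covers (U hF (1 : F) 0) (U hF a b) := by
  classical
  have : Fintype Fˣ := Fintype.ofFinite _
  have : Fintype (Fˣ →* ℂˣ) := Fintype.ofFinite _
  obtain ⟨h8, -⟩ := q_facts hF hm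
  refine covers_of_sum_ne_zero fun hS => ?_
  have hz1 : U hF (1 : F) 0 ≠ 1 := U_ne_one_of_left hF hm one_ne_zero
  have hk := two_sum_tbl hF hm t (term (U hF 1 0) (U hF a b))
  rw [hS] at hk
  have hsq2 : (w₂ : Cfsg.Sz F m → ℂ) (U hF 1 0) * (w₂ : Cfsg.Sz F m → ℂ) (U hF 1 0) =
      -(2 ^ m : ℂ) ^ 2 := by
    rw [t.conj_w, ← map_mul, t.sq_w]; simp [Complex.conj_ofNat]
  have hw : conj ((w₁ : Cfsg.Sz F m → ℂ) (U hF a b)) +
      conj ((w₂ : Cfsg.Sz F m → ℂ) (U hF a b)) = 0 := by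
    rw [t.conj_w, Complex.conj_conj, add_comm, (re_apply_U hF hm (χ := w₁) ha).1]
    have := t.data₁.re; push_cast at this; linear_combination this
  simp only [term, fun f => indB_U hF hm f hz1, fun f => indB_U hF hm f (U_ne_one_of_left hF hm ha (b := b)),
    indB_one, (steinberg_values hF hm).2.1 1 0 hz1,
    Pi.one_apply, map_one, mul_zero, mul_one, zero_mul, zero_div, div_one, sum_const,
    nsmul_eq_mul, card_hom_erase hF hm, t.data₁.deg, t.data₂.deg, t.sq_w, hsq2] at hk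
  rw [sum_congr rfl (s₂ := R) (g := fun χ => -(1 / (χ : Cfsg.Sz F m → ℂ) 1)) (fun χ hχ => by
      rw [t.rho χ hχ 1 0 one_ne_zero, t.rho χ hχ a b ha]; simp [neg_div]), sum_neg_distrib] at hk
  choose Y hY using fun χ : R => t.data χ χ.2
  have hdeg : ∀ χ ∈ R, (Fintype.card F : ℝ) - 1 ≤ ‖(χ : Cfsg.Sz F m → ℂ) 1‖ := fun χ hχ => by
    obtain ⟨Y, hY⟩ := t.data χ hχ
    have hY0 : 1 ≤ Y := Nat.pos_of_ne_zero fun h =>
      CharCore.irr_apply_one_ne_zero χ (by rw [hY.deg, h]; simp)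
    rw [hY.deg, show ((Fintype.card F : ℂ) - 1) * (Y : ℂ) =
      ((((Fintype.card F : ℝ) - 1) * Y : ℝ) : ℂ) by push_cast; rfl, Complex.norm_real]
    have hq : (1 : ℝ) ≤ Fintype.card F := by exact_mod_cast (show 1 ≤ Fintype.card F by omega)
    have hY' : (1 : ℝ) ≤ Y := by exact_mod_cast hY0
    rw [Real.norm_of_nonneg (by positivity)]
    nlinarith
  have hsum : ‖∑ χ ∈ R, 1 / (χ : Cfsg.Sz F m → ℂ) 1‖ ≤
      (R.card : ℝ) * (1 / ((Fintype.card F : ℝ) - 1)) := by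
    refine (norm_sum_le _ _).trans ?_
    rw [← nsmul_eq_mul, ← sum_const]
    refine sum_le_sum fun χ hχ => ?_
    rw [norm_div, norm_one]
    exact one_div_le_one_div_of_le
      (by have : (8 : ℝ) ≤ Fintype.card F := by exact_mod_cast h8
          linarith) (hdeg χ hχ)
  have hR : 2 * (R.card : ℝ) = Fintype.card F := by exact_mod_cast t.card
  have hX : ∑ χ ∈ R, 1 / (χ : Cfsg.Sz F m → ℂ) 1 =
      1 + (((Fintype.card F - 2 : ℕ) : ℕ) : ℂ) * (1 / ((Fintype.card F : ℂ) ^ 2 + 1)) / 2 := by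
    push_cast [show 2 ≤ Fintype.card F by omega] at hk ⊢
    linear_combination (1 / 2 : ℂ) * hk +
      (-(2 ^ m : ℂ) ^ 2) / (((Fintype.card F : ℂ) - 1) * 2 ^ m) * hw
  rw [hX, show (1 : ℂ) + (((Fintype.card F - 2 : ℕ) : ℕ) : ℂ) * (1 / ((Fintype.card F : ℂ) ^ 2 + 1)) / 2
    = (((1 : ℝ) + ((Fintype.card F - 2 : ℕ) : ℝ) * (1 / ((Fintype.card F : ℝ) ^ 2 + 1)) / 2 : ℝ) : ℂ) by
      push_cast; rfl, Complex.norm_real, Real.norm_of_nonneg (by positivity)] at hsum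
  have hq : (8 : ℝ) ≤ Fintype.card F := by exact_mod_cast h8
  have a1 : 0 ≤ ((Fintype.card F - 2 : ℕ) : ℝ) * (1 / ((Fintype.card F : ℝ) ^ 2 + 1)) / 2 := by positivity
  have a2 : (R.card : ℝ) * (1 / ((Fintype.card F : ℝ) - 1)) < 1 := by
    rw [mul_one_div, div_lt_one (by linarith)]; linarith
  linarith

omit [Fintype (Cfsg.Sz F m)] in
/-- Every non-identity element is a product of two conjugates of an element of order above two. -/
theorem covers_all {x : Cfsg.Sz F m} (hx : 2 < orderOf x) {g : Cfsg.Sz F m} (hg : g ≠ 1) :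
    Covers x g := by
  classical
  haveI : Fintype (Cfsg.Sz F m) := Fintype.ofFinite _
  obtain ⟨R, w₁, w₂, t⟩ := exists_tbl hF hm
  obtain ⟨A₁, A₂, R₁, R₂, n₁, n₂, r₁, r₂, hdis, hfpf⟩ := exists_rows hF hm t
  have hx1 : x ≠ 1 := fun h => by rw [h, orderOf_one] at hx; omega
  obtain ⟨c, x₀, rfl, hxc⟩ := rep_cases hF hm hfpf hx1
  obtain ⟨d, g₀, rfl, hgc⟩ := rep_cases hF hm hfpf hg
  refine covers_conj ?_ c d
  have hg0 : g₀ ≠ 1 := fun h => hg (by rw [h]; group)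
  have hx0 : x₀ ≠ 1 := fun h => hx1 (by rw [h]; group)
  have hgT : ∀ y, y ≠ 1 → ∀ k : Fˣ, k ≠ 1 → Covers y (T hF k) := fun y hy k hk =>
    covers_of_known hF hm hy (fun h => hk (T_inj hF (by rw [h, T_one]))) t
      fun χ hχ => Or.inr (apply_T_eq_zero hF hm hχ hk)
  have hfour : ∀ g', g' ≠ 1 → Covers (U hF (1 : F) 0) g' := fun g' hg' => by
    obtain ⟨k, g₁, rfl, h⟩ := rep_cases hF hm hfpf hg'
    suffices Covers (U hF (1 : F) 0) g₁ by
      have := covers_conj this 1 k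
      simpa using this
    rcases h with ⟨b, hb, rfl⟩ | ⟨a, b, ha, rfl⟩ | ⟨l, hl, rfl⟩ | ⟨hA, hne⟩ | ⟨hA, hne⟩
    · exact covers_U_zero hF hm hb
    · exact covers_U_U hF hm t ha
    · exact hgT _ (U_ne_one_of_left hF hm one_ne_zero) l hl
    · exact covers_U_torus hF hm t r₁ hA hne
    · exact covers_U_torus hF hm t r₂ hA hne
  rcases hxc with ⟨b, hb, rfl⟩ | ⟨a, b, ha, rfl⟩ | ⟨k, hk, rfl⟩ | ⟨hA, hne⟩ | ⟨hA, hne⟩
  · exfalso
    have h2 : (c * U hF 0 b * c⁻¹) ^ 2 = 1 := by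
      have : U hF (0 : F) b * U hF 0 b = 1 := by
        rw [U_mul, ← U_zero hF]; congr 1
        · simp
        · rw [mul_zero, add_zero, Suzuki.add_self hF]
      rw [pow_two, show c * U hF 0 b * c⁻¹ * (c * U hF 0 b * c⁻¹) =
        c * (U hF 0 b * U hF 0 b) * c⁻¹ by group, this]
      group
    have := orderOf_le_of_pow_eq_one (by norm_num) h2
    omega
  · rcases isConj_U_or hF ha b with h | h <;> obtain ⟨k, hk⟩ := isConj_iff.1 h <;> rw [← hk]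
    · have := covers_conj (hfour g₀ hg0) k 1
      simpa using this
    · have := covers_conj (covers_inv (hfour g₀⁻¹ (inv_ne_one.2 hg0))) k 1
      simpa using this
  · exact covers_of_known hF hm hx0 hg0 t fun χ hχ => Or.inl (apply_T_eq_zero hF hm hχ hk)
  · rcases hgc with ⟨b, hb, rfl⟩ | ⟨a, b, ha, rfl⟩ | ⟨l, hl, rfl⟩ | ⟨hB, hne'⟩ | ⟨hB, hne'⟩
    · exact covers_torus_U_zero hF hm t r₁ hA hne hb
    · exact covers_torus_U hF hm t r₁ hA hne ha
    · exact hgT _ hx0 l hl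
    · exact covers_torus_torus hF hm t r₁ hA hne r₁ (Or.inl ⟨rfl, rfl⟩) hB hne'
    · exact covers_torus_torus hF hm t r₁ hA hne r₂ (Or.inr hdis) hB hne'
  · rcases hgc with ⟨b, hb, rfl⟩ | ⟨a, b, ha, rfl⟩ | ⟨l, hl, rfl⟩ | ⟨hB, hne'⟩ | ⟨hB, hne'⟩
    · exact covers_torus_U_zero hF hm t r₂ hA hne hb
    · exact covers_torus_U hF hm t r₂ hA hne ha
    · exact hgT _ hx0 l hl
    · exact covers_torus_torus hF hm t r₂ hA hne r₁ (Or.inr hdis.symm) hB hne'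
    · exact covers_torus_torus hF hm t r₂ hA hne r₂ (Or.inl ⟨rfl, rfl⟩) hB hne'

end Cfsg.Agent.KnownSimple58.SzTable
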