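import Mathlib

/-!
Primary cyclic decomposition of a matrix over a field, in the form `Π i, F[X]/(g i)`.
-/

set_option autoImplicit false

namespace Cfsg.Agent.KS58

open Polynomial

universe u

theorem exists_cyclic_decomp {F : Type u} [Field F] {n : Type} [Fintype n] [DecidableEq n] (A : Matrix n n F) :
    ∃ (ι : Type u) (_ : Fintype ι) (q : ι → F[X]) (e : ι → ℕ) (g : ι → F[X])
      (ψ : (n → F) ≃ₗ[F] Π i, AdjoinRoot (g i)),
      (∀ i, Irreducible (q i) ∧ Associated (g i) (q i ^ e i) ∧ (g i).Monic) ∧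
        ∀ v i, ψ (A.mulVec v) i = AdjoinRoot.root (g i) * ψ v i := by
  classical
  let f : Module.End F (n → F) := Matrix.mulVecLin A
  obtain ⟨ι, hι, q, hq, e, ⟨E⟩⟩ := Module.equiv_directSum_of_isTorsion (R := F[X]) (M := Module.AEval' f)
    (Module.AEval.isTorsion_of_finiteDimensional F (n → F) f)
  let g : ι → F[X] := fun i => normalize (q i ^ e i)
  have hspan : ∀ i, (F[X] ∙ q i ^ e i : Submodule F[X] F[X]) = Ideal.span {g i} := fun i =>
    Ideal.span_singleton_eq_span_singleton.mpr (associated_normalize _)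
  let K : ∀ i, (F[X] ⧸ (F[X] ∙ q i ^ e i)) ≃ₗ[F[X]] (F[X] ⧸ Ideal.span {g i}) :=
    fun i => Submodule.quotEquivOfEq _ _ (hspan i)
  let W := (E.trans (DirectSum.linearEquivFunOnFintype F[X] ι _)).trans (LinearEquiv.piCongrRight K)
  let ψ : (n → F) ≃ₗ[F] Π i, AdjoinRoot (g i) :=
    (Module.AEval'.of f).trans (W.restrictScalars F)
  refine ⟨ι, hι, q, e, g, ψ, fun i => ⟨hq i, (associated_normalize _).symm,
    monic_normalize (pow_ne_zero _ (hq i).ne_zero)⟩, fun v i => ?_⟩
  show W (Module.AEval'.of f (A.mulVec v)) i = _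
  rw [show Module.AEval'.of f (A.mulVec v) = (X : F[X]) • Module.AEval'.of f v from
    (Module.AEval'.X_smul_of f v).symm, map_smul, Pi.smul_apply]
  rfl

end Cfsg.Agent.KS58
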