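import Cfsg.Agent.S0496
import Cfsg.Agent.Lib.LinearGroup.PSL42
import Cfsg.Agent.Lib.SmallGroups.Counting
import Cfsg.Agent.PermB.MinNormalPower

/-!
Orders of the simple subgroups of `A₈`.
-/

set_option autoImplicit false

namespace Cfsg.Agent.KnownSimple58.A8Sub

open Subgroup

/-- the alternating group of degree 8 -/
abbrev A : Type := ↥(alternatingGroup (Fin 8))

theorem card_A : Nat.card A = 20160 := by
  rw [nat_card_alternatingGroup, Nat.card_fin]; rfl

theorem sylow_card {G : Type*} [Group G] [Finite G] {p : ℕ} [Fact p.Prime] (h : p ∣ Nat.card G)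
    (h2 : ¬ p ^ 2 ∣ Nat.card G) (P : Sylow p G) : Nat.card ↥(P : Subgroup G) = p := by
  have hp : p.Prime := Fact.out
  rw [P.card_eq_multiplicity, show (Nat.card G).factorization p = 1 from ?_, pow_one]
  refine le_antisymm ?_ ((hp.dvd_iff_one_le_factorization Nat.card_pos.ne').mp h)
  by_contra hlt
  exact h2 ((hp.pow_dvd_iff_le_factorization Nat.card_pos.ne').mpr (by omega))

/-- elements of order `p` in `A₈` are `p`-cycles -/
theorem card_orderOf_A (p : ℕ) (hp : p.Prime) (hp8 : 5 ≤ p) :
    Nat.card {g : A // orderOf g = p} =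
      (Finset.univ.filter fun g : A => (g : Equiv.Perm (Fin 8)).cycleType = {p}).card := by
  rw [Nat.card_eq_fintype_card, Fintype.card_subtype]
  refine congrArg Finset.card (Finset.filter_congr fun g _ => ?_)
  rw [← Subgroup.orderOf_coe]
  constructor
  · intro h
    obtain ⟨n, hn⟩ := Equiv.Perm.cycleType_prime_order (σ := (g : Equiv.Perm (Fin 8))) (h ▸ hp)
    have hs := Equiv.Perm.sum_cycleType (g : Equiv.Perm (Fin 8))
    have hle := Finset.card_le_univ (g : Equiv.Perm (Fin 8)).support
    rw [hn, h] at hs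
    rw [hn, h]
    rw [← hs, Multiset.sum_replicate, smul_eq_mul, Fintype.card_fin] at hle
    have : n = 0 := by
      by_contra h0
      have : 2 * p ≤ (n + 1) * p := Nat.mul_le_mul_right p (by omega)
      omega
    subst this
    rfl
  · intro h
    rw [← Equiv.Perm.lcm_cycleType, h]
    simp

theorem card_normalizer_A (p B : ℕ) [hp : Fact p.Prime] (hp8 : 5 ≤ p) (hd : p ∣ 20160) (hd2 : ¬ p ^ 2 ∣ 20160)
    (hB : (Finset.univ.filter fun g : A => (g : Equiv.Perm (Fin 8)).cycleType = {p}).card * B = (p - 1) * 20160)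
    (P : Sylow p A) : Nat.card ↥(normalizer ((P : Subgroup A) : Set A)) = B := by
  have hP : ∀ Q : Sylow p A, Nat.card ↥(Q : Subgroup A) = p := fun Q =>
    sylow_card (by rwa [card_A]) (by rwa [card_A]) Q
  have h1 := SmallGroups.card_orderOf_eq hP
  rw [card_orderOf_A p hp.out hp8] at h1
  have h2 := (normalizer ((P : Subgroup A) : Set A)).index_mul_card
  replace h2 : Nat.card (Sylow p A) * Nat.card ↥(normalizer ((P : Subgroup A) : Set A)) = 20160 := by
    rw [← card_A, P.card_eq_index_normalizer]; exact h2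
  rw [h1, ← h2] at hB
  have hne : Nat.card (Sylow p A) * (p - 1) ≠ 0 := Nat.mul_ne_zero Nat.card_pos.ne' (by omega)
  refine (Nat.eq_of_mul_eq_mul_left (Nat.pos_of_ne_zero hne) ?_).symm
  rw [hB]; ring

theorem card_normalizer_five [Fact (Nat.Prime 5)] (P : Sylow 5 A) :
    Nat.card ↥(normalizer ((P : Subgroup A) : Set A)) = 60 := by
  refine card_normalizer_A 5 60 le_rfl (by norm_num) (by norm_num) ?_ P
  have h := AlternatingGroup.card_of_cycleType_mul_eq (Fin 8) ({5} : Multiset ℕ)
  simp [Nat.factorial] at h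
  rw [if_pos (by decide)] at h
  exact (fun (a b : ℕ) (e : a = b) (he : a * 30 = 40320) => (by omega : b * 60 = 80640)) _ _
    (by congr 1) h

theorem card_normalizer_seven [Fact (Nat.Prime 7)] (P : Sylow 7 A) :
    Nat.card ↥(normalizer ((P : Subgroup A) : Set A)) = 21 := by
  refine card_normalizer_A 7 21 (by norm_num) (by norm_num) (by norm_num) ?_ P
  have h := AlternatingGroup.card_of_cycleType_mul_eq (Fin 8) ({7} : Multiset ℕ)
  simp [Nat.factorial] at h
  rw [if_pos (by decide)] at h
  exact (fun (a b : ℕ) (e : a = b) (he : a * 7 = 40320) => (by omega : b * 21 = 120960)) _ _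
    (by congr 1) h

variable {N : Type*} [Group N] [Finite N] (ι : N →* A)

theorem dvd_card (hι : Function.Injective ι) : Nat.card N ∣ 20160 := card_A ▸ card_dvd_of_injective ι hι

theorem normalizer_dvd (hι : Function.Injective ι) (p B : ℕ) [hp : Fact p.Prime] (hpd : p ∣ Nat.card N)
    (hd2 : ¬ p ^ 2 ∣ 20160)
    (hB : ∀ P : Sylow p A, Nat.card ↥(normalizer ((P : Subgroup A) : Set A)) = B)
    (P : Sylow p N) : Nat.card ↥(normalizer ((P : Subgroup N) : Set N)) ∣ B := by
  have hP := sylow_card hpd (fun h => hd2 (h.trans (dvd_card ι hι))) P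
  have hPA : Nat.card ↥((P : Subgroup N).map ι) = p := by
    rw [card_map_of_injective hι, hP]
  have hndvd : ¬ p ∣ ((P : Subgroup N).map ι).index := by
    intro h
    apply hd2
    rw [← card_A, ← ((P : Subgroup N).map ι).card_mul_index, hPA, pow_two]
    exact Nat.mul_dvd_mul_left p h
  let Q : Sylow p A := (IsPGroup.of_card (n := 1) (by rw [hPA, pow_one])).toSylow hndvd
  rw [← card_map_of_injective (K := normalizer ((P : Subgroup N) : Set N)) hι, ← hB Q]
  refine card_dvd_of_le ?_
  rintro _ ⟨g, hg, rfl⟩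
  rw [Subgroup.mem_normalizer_iff]
  intro x
  constructor
  · rintro ⟨y, hy, rfl⟩
    exact ⟨g * y * g⁻¹, (Subgroup.mem_normalizer_iff.mp hg y).mp hy, by simp⟩
  · rintro ⟨z, hz, hzx⟩
    have hz' : g⁻¹ * z * g ∈ (P : Subgroup N) := by
      rw [Subgroup.mem_normalizer_iff.mp hg, show g * (g⁻¹ * z * g) * g⁻¹ = z by group]
      exact hz
    exact ⟨_, hz', by rw [map_mul, map_mul, hzx, map_inv]; group⟩

theorem seven [IsSimpleGroup N] (hι : Function.Injective ι) (hN : ¬ IsMulCommutative N)
    (h7 : 7 ∣ Nat.card N) : ∃ n, Nat.card N = 21 * n ∧ n % 7 = 1 := by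
  haveI : Fact (Nat.Prime 7) := ⟨by norm_num⟩
  obtain ⟨P⟩ : Nonempty (Sylow 7 N) := inferInstance
  have hd := normalizer_dvd ι hι 7 21 h7 (by norm_num) card_normalizer_seven P
  have hP := sylow_card h7 (fun h => absurd (h.trans (dvd_card ι hι)) (by norm_num)) P
  have hc := SmallGroups.not_coprime_normalizer hN P hP
  have hdiv := (normalizer ((P : Subgroup N) : Set N)).index_mul_card
  replace hdiv : Nat.card (Sylow 7 N) * Nat.card ↥(normalizer ((P : Subgroup N) : Set N)) = Nat.card N := by
    rw [P.card_eq_index_normalizer]; exact hdiv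
  have hmod := card_sylow_modEq_one 7 N
  have hge : 7 ∣ Nat.card ↥(normalizer ((P : Subgroup N) : Set N)) := by
    exact (dvd_of_eq hP.symm).trans (card_dvd_of_le le_normalizer)
  refine ⟨Nat.card (Sylow 7 N), ?_, hmod⟩
  have key : ∀ m ∈ Nat.divisors 21, 7 ∣ m → ¬ m.Coprime 6 → m = 21 := by decide
  rw [← hdiv, key _ (Nat.mem_divisors.mpr ⟨hd, by norm_num⟩) hge hc, mul_comm]

theorem five [IsSimpleGroup N] (hι : Function.Injective ι) (hN : ¬ IsMulCommutative N)
    (h5 : 5 ∣ Nat.card N) : ∃ n, n % 5 = 1 ∧ (Nat.card N = 10 * n ∨ Nat.card N = 20 * n ∨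
      Nat.card N = 30 * n ∨ Nat.card N = 60 * n) := by
  haveI : Fact (Nat.Prime 5) := ⟨by norm_num⟩
  obtain ⟨P⟩ : Nonempty (Sylow 5 N) := inferInstance
  have hd := normalizer_dvd ι hι 5 60 h5 (by norm_num) card_normalizer_five P
  have hP := sylow_card h5 (fun h => absurd (h.trans (dvd_card ι hι)) (by norm_num)) P
  have hc := SmallGroups.not_coprime_normalizer hN P hP
  have hdiv := (normalizer ((P : Subgroup N) : Set N)).index_mul_card
  replace hdiv : Nat.card (Sylow 5 N) * Nat.card ↥(normalizer ((P : Subgroup N) : Set N)) = Nat.card N := by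
    rw [P.card_eq_index_normalizer]; exact hdiv
  have hmod := card_sylow_modEq_one 5 N
  have hge : 5 ∣ Nat.card ↥(normalizer ((P : Subgroup N) : Set N)) := by
    exact (dvd_of_eq hP.symm).trans (card_dvd_of_le le_normalizer)
  refine ⟨Nat.card (Sylow 5 N), hmod, ?_⟩
  have key : ∀ m ∈ Nat.divisors 60, 5 ∣ m → ¬ m.Coprime 4 → m = 10 ∨ m = 20 ∨ m = 30 ∨ m = 60 := by decide
  rw [← hdiv]
  rcases key _ (Nat.mem_divisors.mpr ⟨hd, by norm_num⟩) hge hc with h | h | h | h <;> rw [h, mul_comm] <;> simp

theorem index_eq_one (H : Subgroup A) (h : H.index < 8) : H = ⊤ := by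
  by_contra hH
  haveI : IsSimpleGroup A := alternatingGroup.isSimpleGroup (by simp)
  have hA : ¬ IsMulCommutative A := SmallGroups.not_comm_of_not_prime (by rw [card_A]; norm_num)
  have h2 := SmallGroups.two_mul_card_dvd_index hA hH
  have hpos : 0 < H.index.factorial := Nat.factorial_pos _
  have hle := Nat.le_of_dvd hpos h2
  rw [card_A] at hle
  have : H.index.factorial ≤ Nat.factorial 7 := Nat.factorial_le (by omega)
  simp [Nat.factorial] at this
  omega

/-- `SL₄(2)` has no simple subgroup of order 1344 -/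
theorem card_ne_1344 [IsSimpleGroup N] (j : N →* LinearGroup.PSL42.G) (hj : Function.Injective j)
    (hN : ¬ IsMulCommutative N) : Nat.card N ≠ 1344 := by
  classical
  intro hcard
  letI : MulAction N (Fin 4 → ZMod 2) := MulAction.compHom _ j
  have hsm : ∀ (g : N) (w : Fin 4 → ZMod 2), g • w = (j g).1.mulVec w := fun g w => rfl
  let S : Finset (Fin 4 → ZMod 2) := Finset.univ.erase 0
  have hS : S.card = 15 := by decide +kernel
  have horb : ∀ w, w ≠ 0 → MulAction.orbit N w ⊆ (S : Set (Fin 4 → ZMod 2)) := by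
    rintro w hw _ ⟨g, rfl⟩
    simp only [S, Finset.coe_erase, Finset.coe_univ, Set.mem_diff, Set.mem_univ, Set.mem_singleton_iff, true_and]
    intro h
    apply hw
    rw [← inv_smul_smul g w, h, hsm, Matrix.mulVec_zero]
  have hsize : ∀ w : Fin 4 → ZMod 2, (MulAction.orbit N w).ncard ∣ 1344 ∧
      ((MulAction.orbit N w).ncard ≠ 1 → 8 ≤ (MulAction.orbit N w).ncard) := by
    intro w
    rw [← MulAction.index_stabilizer]
    refine ⟨hcard ▸ index_dvd_card _, fun h1 => ?_⟩
    by_contra hlt
    have h2 := SmallGroups.two_mul_card_dvd_index (H := MulAction.stabilizer N w) hN (fun h => h1 (by rw [h, index_top]))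
    have hle := Nat.le_of_dvd (Nat.factorial_pos _) h2
    have hd : (MulAction.stabilizer N w).index.factorial ∣ Nat.factorial 7 := Nat.factorial_dvd_factorial (by omega)
    have h3 := h2.trans hd
    rw [hcard] at h3
    norm_num [Nat.factorial] at h3
  obtain ⟨v, hv0, hv⟩ : ∃ v : Fin 4 → ZMod 2, v ≠ 0 ∧ ∀ g : N, g • v = v := by
    by_contra hno
    push Not at hno
    have hbig : ∀ w : Fin 4 → ZMod 2, w ≠ 0 → 8 ≤ (MulAction.orbit N w).ncard := by
      intro w hw
      refine (hsize w).2 fun h1 => ?_
      obtain ⟨g, hg⟩ := hno w hw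
      obtain ⟨a, ha⟩ := Set.ncard_eq_one.mp h1
      have e1 : g • w ∈ MulAction.orbit N w := MulAction.mem_orbit w g
      have e2 : w ∈ MulAction.orbit N w := MulAction.mem_orbit_self w
      rw [ha] at e1 e2
      exact hg (e1.trans e2.symm)
    obtain ⟨w, hw⟩ : ∃ w : Fin 4 → ZMod 2, w ≠ 0 := exists_ne 0
    have hw8 := hbig w hw
    have hle : (MulAction.orbit N w).ncard ≤ 15 := by
      rw [← hS, ← Set.ncard_coe_finset]
      exact Set.ncard_le_ncard (horb w hw)
    have hlt : MulAction.orbit N w ≠ (S : Set (Fin 4 → ZMod 2)) := by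
      intro h
      have := (hsize w).1
      rw [h, Set.ncard_coe_finset, hS] at this
      norm_num at this
    obtain ⟨u, huS, hu⟩ := Set.exists_of_ssubset ((horb w hw).ssubset_of_ne hlt)
    have hu0 : u ≠ 0 := (Finset.mem_erase.mp (Finset.mem_coe.mp huS)).1
    have hdisj : Disjoint (MulAction.orbit N w) (MulAction.orbit N u) := by
      refine Set.disjoint_left.mpr fun x hxw hxu => hu ?_
      rw [← (MulAction.orbit_eq_iff.mpr hxw : MulAction.orbit N x = MulAction.orbit N w), (MulAction.orbit_eq_iff.mpr hxu : MulAction.orbit N x = MulAction.orbit N u)]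
      exact MulAction.mem_orbit_self u
    have h15 : (MulAction.orbit N w ∪ MulAction.orbit N u).ncard ≤ 15 := by
      rw [← hS, ← Set.ncard_coe_finset]
      exact Set.ncard_le_ncard (Set.union_subset (horb w hw) (horb u hu0))
    rw [Set.ncard_union_eq hdisj] at h15
    have := hbig u hu0
    omega
  let K : Subgroup N :=
    { carrier := {g | ∀ w : Fin 4 → ZMod 2, g • w = w ∨ g • w = w + v}
      one_mem' := fun w => Or.inl (one_smul _ w)
      mul_mem' := by
        intro a b ha hb w
        have hadd : a • (w + v) = a • w + v := by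
          rw [hsm, Matrix.mulVec_add, ← hsm, ← hsm, hv]
        rcases hb w with h | h <;> rw [mul_smul, h]
        · exact ha w
        · rw [hadd]
          rcases ha w with h' | h' <;> rw [h']
          · exact Or.inr rfl
          · left; rw [add_assoc, show v + v = 0 from funext fun i => CharTwo.add_self_eq_zero _, add_zero]
      inv_mem' := by
        intro a ha w
        have := ha (a⁻¹ • w)
        rw [smul_inv_smul] at this
        rcases this with h | h
        · exact Or.inl h.symm
        · right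
          nth_rewrite 2 [h]
          rw [add_assoc, show v + v = 0 from funext fun i => CharTwo.add_self_eq_zero _, add_zero] }
  have hKn : K.Normal := ⟨fun a ha g w => by
    have hgadd : g • (g⁻¹ • w + v) = w + v := by
      rw [hsm, Matrix.mulVec_add, ← hsm, ← hsm, hv, smul_inv_smul]
    rcases ha (g⁻¹ • w) with h | h
    · left; rw [mul_smul, mul_smul, h, smul_inv_smul]
    · right; rw [mul_smul, mul_smul, h, hgadd]⟩
  rcases hKn.eq_bot_or_eq_top with hK | hK
  · -- a transvection towards `v`
    have hu : ∀ x : Fin 4 → ZMod 2, ∃ u : Fin 4 → ZMod 2, u ≠ 0 ∧ dotProduct u x = 0 := by decide +kernel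
    obtain ⟨u, hu0, huv⟩ := hu v
    have hdet : (1 + Matrix.vecMulVec v u : Matrix (Fin 4) (Fin 4) (ZMod 2)).det = 1 := by
      rw [show Matrix.vecMulVec v u = Matrix.replicateCol Unit v * Matrix.replicateRow Unit u from
        Matrix.vecMulVec_eq Unit v u, Matrix.det_one_add_replicateCol_mul_replicateRow, huv, add_zero]
    have hmul : ∀ w, (1 + Matrix.vecMulVec v u : Matrix (Fin 4) (Fin 4) (ZMod 2)).mulVec w =
        w + dotProduct u w • v := fun w => by
      rw [Matrix.add_mulVec, Matrix.one_mulVec, Matrix.vecMulVec_mulVec, op_smul_eq_smul]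
    let t : LinearGroup.PSL42.G := ⟨_, hdet⟩
    let St : Subgroup LinearGroup.PSL42.G :=
      { carrier := {g | g.1.mulVec v = v}
        one_mem' := Matrix.one_mulVec v
        mul_mem' := fun {a b} ha hb => by
          show (a.1 * b.1).mulVec v = v
          rw [← Matrix.mulVec_mulVec, hb, ha]
        inv_mem' := fun {a} ha => by
          show a⁻¹.1.mulVec v = v
          conv_lhs => rw [← (show a.1.mulVec v = v from ha), Matrix.mulVec_mulVec, ← Matrix.SpecialLinearGroup.coe_mul,
            inv_mul_cancel, Matrix.SpecialLinearGroup.coe_one, Matrix.one_mulVec] }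
    obtain ⟨ε⟩ := LinearGroup.PSL42.equiv
    have hG : Nat.card LinearGroup.PSL42.G = 20160 := (Nat.card_congr ε.toEquiv).trans card_A
    have hjSt : j.range ≤ St := by
      rintro _ ⟨g, rfl⟩
      exact hv g
    have hcr : Nat.card j.range = 1344 := (Nat.card_congr (MonoidHom.ofInjective hj).toEquiv.symm).trans hcard
    have hStj : j.range = St := by
      refine eq_of_le_of_card_ge hjSt ?_
      rw [hcr]
      have hd : 1344 ∣ Nat.card St := hcr ▸ card_dvd_of_le hjSt
      have hi := St.index_mul_card
      rw [hG] at hi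
      by_contra hlt
      obtain ⟨c, hc⟩ := hd
      have hidx : (St.map ε.toMonoidHom).index < 8 := by
        rw [show St.map ε.toMonoidHom = St.map (ε : LinearGroup.PSL42.G →* A) from rfl,
          Subgroup.index_map_equiv]
        have hc2 : 2 ≤ c := by omega
        nlinarith
      have htop := index_eq_one _ hidx
      have : St = ⊤ := Subgroup.map_injective (f := ε.toMonoidHom) ε.injective
        (htop.trans (Subgroup.map_top_of_surjective _ ε.surjective).symm)
      have hfix : ∀ g : LinearGroup.PSL42.G, g.1.mulVec v = v := fun g => (this ▸ mem_top g : g ∈ St)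
      have hall : ∀ x : Fin 4 → ZMod 2, x ≠ 0 → ∃ i k : Fin 4, i ≠ k ∧ x k ≠ 0 := by decide +kernel
      obtain ⟨i, k, hik, hk⟩ := hall v hv0
      have := congrFun (hfix (Matrix.SpecialLinearGroup.transvection hik 1)) i
      rw [LinearGroup.PSL42.transvection_mulVec i k hik] at this
      simp at this
      exact hk this
    have htSt : t ∈ St := by
      show (1 + Matrix.vecMulVec v u : Matrix (Fin 4) (Fin 4) (ZMod 2)).mulVec v = v
      rw [hmul, huv, zero_smul, add_zero]
    obtain ⟨g, hg⟩ := (hStj ▸ htSt : t ∈ j.range)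
    have h01 : ∀ c : ZMod 2, c = 0 ∨ c = 1 := by decide
    have hgK : g ∈ K := fun w => by
      rw [hsm, hg]
      show (1 + Matrix.vecMulVec v u : Matrix (Fin 4) (Fin 4) (ZMod 2)).mulVec w = w ∨ _ = w + v
      rw [hmul]
      rcases h01 (dotProduct u w) with h | h <;> rw [h]
      · left; rw [zero_smul, add_zero]
      · right; rw [one_smul]
    rw [hK, mem_bot] at hgK
    have h1 : (1 + Matrix.vecMulVec v u : Matrix (Fin 4) (Fin 4) (ZMod 2)) = 1 := by
      have := congrArg Subtype.val (hg.symm.trans (by rw [hgK, map_one]))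
      exact this
    have hzero : Matrix.vecMulVec v u = 0 := by rwa [add_eq_left] at h1
    obtain ⟨i, hi⟩ := Function.ne_iff.mp hv0
    obtain ⟨k, hk⟩ := Function.ne_iff.mp hu0
    have := congrFun (congrFun hzero i) k
    rw [Matrix.vecMulVec_apply] at this
    exact mul_ne_zero hi hk this
  · have hinj : Function.Injective (fun g : N => fun i : Fin 4 => decide (g • (Pi.single i 1 : Fin 4 → ZMod 2) = Pi.single i 1)) := by
      intro a b h
      apply hj
      apply Subtype.ext
      refine Matrix.ext_of_mulVec_single fun i => ?_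
      have hi := congrFun h i
      simp only [decide_eq_decide] at hi
      have ha : a ∈ K := hK ▸ mem_top a
      have hb : b ∈ K := hK ▸ mem_top b
      show a • (Pi.single i 1 : Fin 4 → ZMod 2) = b • Pi.single i 1
      rcases ha (Pi.single i 1) with h1 | h1 <;> rcases hb (Pi.single i 1) with h2 | h2
      · rw [h1, h2]
      · rw [h1, hi.mp h1]
      · rw [h2, hi.mpr h2]
      · rw [h1, h2]
    have := Nat.card_le_card_of_injective _ hinj
    rw [hcard, Nat.card_eq_fintype_card] at this
    norm_num at this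

/-- orders of simple subgroups of `A₈` -/
theorem card_mem [IsSimpleGroup N] (hι : Function.Injective ι) (hN : ¬ IsMulCommutative N) :
    Nat.card N = 60 ∨ Nat.card N = 168 ∨ Nat.card N = 360 ∨ Nat.card N = 2520 ∨ Nat.card N = 20160 := by
  have hd := dvd_card ι hι
  by_cases hle : Nat.card N ≤ 1092
  · rcases S0496.result hN hle with h | h | h | h | h | h
    · exact Or.inl h
    · exact Or.inr (Or.inl h)
    · exact Or.inr (Or.inr (Or.inl h))
    · obtain ⟨n, hn, hn7⟩ := seven ι hι hN (by rw [h]; norm_num)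
      omega
    · rw [h] at hd; norm_num at hd
    · rw [h] at hd; norm_num at hd
  have hidx := ι.range.index_mul_card
  rw [card_A, ← Nat.card_congr (MonoidHom.ofInjective hι).toEquiv] at hidx
  rcases Nat.lt_or_ge ι.range.index 8 with hlt | hge
  · rw [index_eq_one _ hlt, index_top, one_mul] at hidx
    exact Or.inr (Or.inr (Or.inr (Or.inr hidx)))
  have hle18 : ι.range.index ≤ 18 := by nlinarith
  generalize hk : ι.range.index = k at hidx hge hle18
  have h1344 : Nat.card N ≠ 1344 := by
    obtain ⟨ε⟩ := LinearGroup.PSL42.equiv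
    exact card_ne_1344 (ε.symm.toMonoidHom.comp ι) (ε.symm.injective.comp hι) hN
  have h7 := seven ι hι hN
  have h5 := five ι hι hN
  interval_cases k
  all_goals first
    | omega
    | (obtain ⟨n, hn, hn7⟩ := h7 (by omega); omega)
    | (obtain ⟨n, hn5, hn⟩ := h5 (by omega); omega)

end Cfsg.Agent.KnownSimple58.A8Sub
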