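import Cfsg.Agent.KnownSimple58.TwistedTwoGen
import Cfsg.Agent.Twisted.Groups.D4

/-!
# `³D₄(q)` is generated by two elements
-/

set_option autoImplicit false

namespace Cfsg.Agent.Twisted.TypeD4.TwoGen

open ChevGroup ChevIsogeny Cfsg.Lie

theorem neg_ok : ∀ r, (MT.S).actw ((W0.map fd.O.wd).flatten) r = (MT.S).neg r := by decide +kernel

theorem pair_neg : ∀ (i : Fin MT.tab.l) (s : Fin MT.tab.n),
    chevD4.pairing ((MT.S).simple i).val ((MT.S).neg s).val = -chevD4.pairing ((MT.S).simple i).val s.val := by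
  decide +kernel

variable {F : Type*} [Field F] [Fintype F] {q : ℕ} {K : Rels chevD4 F}
  (Z : Frame (T := MT) K PP q fd) (hq : IsPrimePow q) (hK : Fintype.card F = q ^ 3)

set_option quotPrecheck false in
local notation "G₁" => genG MT K (d4Words F q)

include Z hq hK

theorem torus_of_tri (Q : Subgroup ↥(chevD4.group F))
    (h1 : ∀ t, prodX MT K [18, 13, 12] (tri q t) ∈ Q) (h2 : ∀ t, prodX MT K [5, 10, 11] (tri q t) ∈ Q)
    (c : Fˣ) : tor MT K (cvec q c 1) ∈ Q := by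
  obtain ⟨hadd, -, -⟩ := qpow_hom hq hK
  have hq0 : q ≠ 0 := hq.pos.ne'
  have hm1 : ∀ a : F, (-1 : F) ^ q = -1 ∧ (-(a⁻¹)) ^ q = -(a ^ q)⁻¹ := fun a =>
    ⟨by simpa using qpow_inv_neg hadd hq0 (1 : F), qpow_inv_neg hadd hq0 a⟩
  have e1 : (MT.S).neg (12 : Fin MT.tab.n) = 11 := Fin.ext rfl
  have e2 : (MT.S).neg (13 : Fin MT.tab.n) = 10 := Fin.ext rfl
  have e3 : (MT.S).neg (18 : Fin MT.tab.n) = 5 := Fin.ext rfl
  have hn : ∀ t : F,
      ((([18, 13, 12] : List (Fin MT.tab.n)).map fun r => (MT.rel K).nr r (tri q t r))).prod ∈ Q := by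
    intro t
    refine Z.nprod_mem pair_ok.2 (tri q t) (h1 t) ?_
    have := h2 (-t⁻¹)
    have q2 : (-t⁻¹) ^ (q ^ 2) = -(t ^ (q ^ 2))⁻¹ := by
      rw [pow_two, pow_mul, (hm1 t).2, (hm1 (t ^ q)).2, ← pow_mul]
    simpa [prodX, tri, e1, e2, e3, (hm1 t).2, q2] using this
  have hB : ((([18, 13, 12] : List (Fin MT.tab.n)).map fun r =>
      (MT.rel K).hr r (tri q (c : F) r))).prod ∈ Q := by
    refine Z.hprod_mem pair_ok.2 (tri q (c : F)) (hn _) ?_
    have := hn (-1)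
    have q2 : (-1 : F) ^ (q ^ 2) = -1 := by rw [pow_two, pow_mul, (hm1 1).1, (hm1 1).1]
    simpa [tri, (hm1 1).1, q2] using this
  rw [Z.tor_eq_prod (L := [1, 0, 2, 3]) (by decide)]
  have s0 : (MT.S).simple 0 = (18 : Fin MT.tab.n) := Fin.ext rfl
  have s2 : (MT.S).simple 2 = (13 : Fin MT.tab.n) := Fin.ext rfl
  have s3 : (MT.S).simple 3 = (12 : Fin MT.tab.n) := Fin.ext rfl
  have h1' : ∀ r, (MT.rel K).hr r (1 : F) = 1 := fun r => by
    show (MT.rel K).nr r 1 * (MT.rel K).nr r (-1) = 1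
    rw [← (MT.rel K).nr_inv, mul_inv_cancel]
  obtain ⟨c0, c1, c2, c3⟩ := cvec_val q c (1 : Fˣ)
  simpa [tri, s0, s2, s3, c0, c1, c2, c3, h1'] using hB

omit Z hq hK in
theorem chi_14 (c : Fˣ) : (chi MT (cvec q c 1) 14 : Fˣ) = (c ^ (q ^ 2 + q + 1))⁻¹ := by
  obtain ⟨-, v14, -, -⟩ := chi_val (F := F) (cvec q c 1)
  obtain ⟨e0, e1, e2, e3⟩ := cvec_val q c (1 : Fˣ)
  rw [v14]
  simp only [e0, e1, e2, e3, one_zpow, mul_one, zpow_neg_one]
  rw [pow_add, pow_add, pow_one, mul_inv, mul_inv]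
  ac_rfl

omit hq hK in
theorem tor_tri (c : Fˣ) (t : F) :
    tor MT K (cvec q c 1) * prodX MT K [18, 13, 12] (tri q t) * (tor MT K (cvec q c 1))⁻¹ =
      prodX MT K [18, 13, 12] (tri q ((c : F) ^ 2 * t)) := by
  rw [Z.tor_prodX_conj]
  obtain ⟨v18, -, v13, v12⟩ := chi_val (F := F) (cvec q c 1)
  obtain ⟨e0, e1, e2, e3⟩ := cvec_val q c (1 : Fˣ)
  refine Z.prodX_congr fun r hr => ?_
  simp only [List.mem_cons, List.not_mem_nil, or_false] at hr
  rcases hr with rfl | rfl | rfl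
  · rw [v18]; simp [e0, e1, tri]
  · rw [v13]; simp [e1, e2, tri, mul_pow, ← pow_mul, mul_comm 2]
  · rw [v12]; simp [e1, e3, tri, mul_pow, ← pow_mul, mul_comm 2]

theorem tri_add (s t : F) : prodX MT K [18, 13, 12] (tri q s) * prodX MT K [18, 13, 12] (tri q t) =
    prodX MT K [18, 13, 12] (tri q (s + t)) := by
  obtain ⟨hadd, -, -⟩ := qpow_hom hq hK
  rw [Z.prodX_mul (fun r hr s hs => Z.commList_commute (list_ok Z _ (by decide)) hr hs)]
  refine Z.prodX_congr fun r _ => ?_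
  simp only [Pi.add_apply, tri]
  split_ifs
  · rfl
  · exact (hadd s t).symm
  · rw [pow_two, pow_mul, pow_mul, pow_mul, hadd, hadd]

theorem exists_two_gen : ∃ a b : ↥G₁, Subgroup.closure ({a, b} : Set ↥G₁) = ⊤ := by
  classical
  obtain ⟨hadd, -, -⟩ := qpow_hom hq hK
  have X := gens Z hq hK
  obtain ⟨u, hu⟩ := IsCyclic.exists_generator (α := Fˣ)
  have hord : orderOf u = q ^ 3 - 1 := by
    rw [orderOf_eq_card_of_forall_mem_zpowers hu, Nat.card_units, Nat.card_eq_fintype_card, hK]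
  have h2q := hq.two_le
  have hfac : q ^ 3 - 1 = (q - 1) * (q ^ 2 + q + 1) := by
    zify [show 1 ≤ q by omega, Nat.one_le_pow 3 q hq.pos]
    ring
  set N := q ^ 2 + q + 1 with hN
  set a : Fˣ := u ^ (q - 1) with ha
  have hoa : orderOf a = N := by
    rw [ha, orderOf_pow_of_dvd (by omega) (hord ▸ Nat.sub_one_dvd_pow_sub_one q 3), hord, hfac,
      Nat.mul_div_cancel_left _ (by omega)]
  have haN : a ^ N = 1 := hoa ▸ pow_orderOf_eq_one a
  have hgen : Subring.closure ({(a : F) ^ 2} : Set F) = ⊤ := by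
    rw [← Units.val_pow_eq_pow_val]
    refine closure_eq_top_of_orderOf ?_
    rw [Nat.Coprime.orderOf_pow, hoa, Nat.card_eq_fintype_card, hK, hN]
    · nlinarith [hq.pos]
    · rw [hoa, hN, Nat.coprime_two_right]
      obtain ⟨k, hk⟩ := (Nat.even_mul_succ_self q)
      exact ⟨k, by rw [pow_two]; nlinarith [hk]⟩
  set h := tor MT K (cvec q a 1) with hh
  set y := (MT.rel K).x 14 (1 : F) with hy
  set x := prodX MT K [18, 13, 12] (tri q (1 : F)) with hx
  have hperm : ([18, 13, 12] : List (Fin MT.tab.n)).Perm [12, 13, 18] := by decide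
  have htri : ∀ t, prodX MT K [18, 13, 12] (tri q t) ∈ X.data.X 1 := fun t => by
    rw [Z.prodX_perm hperm (list_ok Z _ (by decide))]; exact tri_X Z hq hK t
  have hhy : Commute h y := by
    show h * y = y * h
    rw [← mul_inv_eq_iff_eq_mul, hh, hy, Z.tor_conj, chi_14, ← hN, haN, inv_one,
      Units.val_one, one_mul]
  refine X.exists_two_gen_of (W0 := W0) neg_ok torOk pair_neg (h := h) (y := y) (x := x)
    (Z.tor_mem_H _) (torus_mem Z hq hK _ (sig_cvec Z hq hK a 1 (one_pow q)))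
    (gen1_mem Z (one_pow q)).1 (tri_mem Z 1).1 hhy (i := N) (j := q) ?_ ?_ ?_ ?_ ⟨1, htri 1⟩
  · rw [hh, ← Z.torHom_apply, ← map_pow, ← map_one Z.torHom]
    congr 1
    funext j
    obtain ⟨e0, e1, e2, e3⟩ := cvec_val q a (1 : Fˣ)
    match j with
    | 0 => show cvec q a 1 0 ^ N = 1; rw [e0, haN]
    | 1 => show cvec q a 1 1 ^ N = 1; rw [e1, one_pow]
    | 2 => show cvec q a 1 2 ^ N = 1; rw [e2, ← pow_mul, mul_comm, pow_mul, haN, one_pow]
    | 3 => show cvec q a 1 3 ^ N = 1; rw [e3, ← pow_mul, mul_comm, pow_mul, haN, one_pow]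
  · obtain ⟨p, i, hp, hc, hpq, -⟩ := exists_char_pow hq hK
    have hq0 : (q : F) = 0 := by
      have hi : i ≠ 0 := by rintro rfl; rw [pow_zero] at hpq; omega
      rw [hpq, Nat.cast_pow, CharP.cast_eq_zero F p, zero_pow hi]
    rw [hy, x_pow, hq0, zero_mul, (MT.rel K).x_zero]
  · rw [hN, show q ^ 2 + q + 1 = 1 + q * (q + 1) by ring]
    simp
  intro Q hhQ hyQ hcom hb
  have h1 : ∀ t, prodX MT K [18, 13, 12] (tri q t) ∈ Q := by
    let T : AddSubgroup F :=
      { carrier := {t | prodX MT K [18, 13, 12] (tri q t) ∈ Q}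
        zero_mem' := by
          show prodX MT K [18, 13, 12] (tri q (0 : F)) ∈ Q
          simp [prodX, tri, zero_pow hq.pos.ne', zero_pow (pow_ne_zero 2 hq.pos.ne'), (MT.rel K).x_zero]
        add_mem' := fun {s t} hs ht => by
          show prodX MT K [18, 13, 12] (tri q (s + t)) ∈ Q
          rw [← tri_add Z hq hK]; exact mul_mem hs ht
        neg_mem' := fun {s} hs => by
          show prodX MT K [18, 13, 12] (tri q (-s)) ∈ Q
          have e := tri_add Z hq hK s (-s)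
          rw [add_neg_cancel, show prodX MT K [18, 13, 12] (tri q (0 : F)) = 1 by
            simp [prodX, tri, zero_pow hq.pos.ne', zero_pow (pow_ne_zero 2 hq.pos.ne'), (MT.rel K).x_zero]] at e
          rw [← inv_eq_of_mul_eq_one_right e]; exact inv_mem hs }
    refine smul_mem_of_closure_eq_top hgen T ?_ (t₀ := (a : F) ^ 2 - 1) ?_ ?_
    · rintro l rfl t ht
      show prodX MT K [18, 13, 12] (tri q ((a : F) ^ 2 * t)) ∈ Q
      rw [← tor_tri Z]
      exact mul_mem (mul_mem hhQ ht) (inv_mem hhQ)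
    · show prodX MT K [18, 13, 12] (tri q ((a : F) ^ 2 - 1)) ∈ Q
      rw [hh, hx, tor_tri Z, mul_one] at hcom
      have e := tri_add Z hq hK ((a : F) ^ 2 - 1) 1
      rw [sub_add_cancel] at e
      rw [← e, mul_inv_cancel_right] at hcom
      exact hcom
    · rw [sub_ne_zero, ← Units.val_pow_eq_pow_val, Ne, Units.val_eq_one]
      intro e
      have := orderOf_le_of_pow_eq_one (by norm_num) e
      rw [hoa, hN] at this
      nlinarith
  have hX1 : X.data.X 1 ≤ Q := fun g hg => by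
    obtain ⟨t, rfl⟩ := cls1' Z hq hK hg
    rw [← Z.prodX_perm hperm (list_ok Z _ (by decide))]
    exact h1 t
  have hn : X.data.nW W0 ∈ Q := by simpa [mul_assoc, hx] using mul_mem (inv_mem (h1 1)) hb
  have h2 : ∀ t, prodX MT K [5, 10, 11] (tri q t) ∈ Q := fun t =>
    X.mem_of_neg neg_ok hX1 hn (tri_mem Z t).2
      (Z.Sg_mem_prodX (Q := fun r => (MT.S).neg r ∈ fd.O.cls 1) (by decide +kernel) _)
  have hX0 : X.data.X 0 ≤ Q := fun g hg => by
    obtain ⟨t, ht, rfl⟩ := cls0 Z hg.2 (X.fixed g hg.1)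
    by_cases ht0 : t = 0
    · rw [ht0, (MT.rel K).x_zero]; exact one_mem _
    set v := Units.mk0 t ht0 with hv
    obtain ⟨k, hk⟩ := Subgroup.mem_zpowers_iff.1 (hu v)
    have hv1 : v ^ (q - 1) = 1 := by
      have h3 : v ^ (q - 1) * v = 1 * v := by
        rw [← pow_succ, show q - 1 + 1 = q by omega, one_mul]
        exact Units.ext (by rw [Units.val_pow_eq_pow_val, hv, Units.val_mk0, ht])
      exact mul_right_cancel h3
    have hdvd : (N : ℤ) ∣ k := by
      rw [← hk, ← zpow_natCast, ← zpow_mul, ← orderOf_dvd_iff_zpow_eq_one, hord, hfac, Nat.cast_mul,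
        mul_comm k] at hv1
      exact (mul_dvd_mul_iff_left (show ((q - 1 : ℕ) : ℤ) ≠ 0 by omega)).1 hv1
    obtain ⟨k', rfl⟩ := hdvd
    have hc := torus_of_tri Z hq hK Q h1 h2 (u ^ k')⁻¹
    have h4 := mul_mem (mul_mem hc hyQ) (inv_mem hc)
    rw [hy, Z.tor_conj, chi_14, ← hN, inv_pow, inv_inv, mul_one, ← zpow_natCast, ← zpow_mul,
      mul_comm k', hk, hv, Units.val_mk0] at h4
    exact h4
  intro k
  match k with
  | 0 => exact hX0
  | 1 => exact hX1

end Cfsg.Agent.Twisted.TypeD4.TwoGen
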