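import Mathlib
import Cfsg.Prelude.Def_Classical
import Cfsg.Agent.Forms59.Standard
import Cfsg.Agent.Forms59.Normal

/-!
Quadratic forms over the field with two elements with a fixed non-singular polar form, and their type
by the signed count `∑ (-1)^(q v)`.
-/

set_option autoImplicit false

namespace Cfsg.Agent.KS58.F2

open QuadraticMap

local notation "K" => ZMod 2

abbrev V (m : ℕ) := Fin m ⊕ Fin m → ZMod 2

theorem zsq : ∀ x : K, x * x = x := by decide
theorem zadd : ∀ x : K, x + x = 0 := by decide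
theorem zsub : ∀ x y : K, x - y = x + y := by decide

/-- `(-1)^x` -/
def χ (x : K) : ℤ := if x = 0 then 1 else -1

theorem χ_add : ∀ x y : K, χ (x + y) = χ x * χ y := by decide

theorem χ_inj : ∀ x y : K, χ x = χ y → x = y := by decide

theorem χ_sum {ι : Type*} (s : Finset ι) (f : ι → K) : χ (∑ i ∈ s, f i) = ∏ i ∈ s, χ (f i) := by
  classical
  induction s using Finset.induction with
  | empty => rfl
  | insert i s hi ih => rw [Finset.sum_insert hi, Finset.prod_insert hi, χ_add, ih]

/-- The signed count of a function. -/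
def sgn {α : Type*} [Fintype α] (q : α → K) : ℤ := ∑ v, χ (q v)

theorem sgn_congr {α β : Type*} [Fintype α] [Fintype β] (e : α ≃ β) (q : α → K) (q' : β → K)
    (h : ∀ v, q v = q' (e v)) : sgn q = sgn q' :=
  Fintype.sum_equiv e _ _ fun v => by rw [h]

theorem sum_pair (m : ℕ) (g : K → K → ℤ) :
    (∑ v : V m, ∏ i : Fin m, g (v (Sum.inl i)) (v (Sum.inr i))) = (∑ p : K × K, g p.1 p.2) ^ m := by
  rw [← Fin.prod_const m, Fintype.prod_sum]
  exact Fintype.sum_equiv ((Equiv.sumArrowEquivProdArrow (Fin m) (Fin m) K).trans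
    (Equiv.arrowProdEquivProdArrow (Fin m) (fun _ => K) (fun _ => K)).symm) _ _ fun v => rfl

theorem sgn_plus (m : ℕ) : sgn (Cfsg.quadFormPlus m K) = 2 ^ m := by
  simp only [sgn, Cfsg.quadFormPlus, χ_sum]
  rw [sum_pair m (fun x y => χ (x * y))]
  congr 1

theorem sgn_minus (k : ℕ) : sgn (Cfsg.quadFormMinus k K 1 1) = -2 ^ (k + 1) := by
  have h : sgn (Cfsg.quadFormMinus k K 1 1) =
      ∑ p : V k × (Fin 2 → K), χ (Cfsg.quadFormPlus k K p.1) * χ (p.2 0 ^ 2 + 1 * p.2 0 * p.2 1 + 1 * p.2 1 ^ 2) := by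
    refine Fintype.sum_equiv (Equiv.sumArrowEquivProdArrow (Fin k ⊕ Fin k) (Fin 2) K) _ _ fun v => ?_
    rw [← χ_add]
    rfl
  have h2 : (∑ z : Fin 2 → K, χ (z 0 ^ 2 + 1 * z 0 * z 1 + 1 * z 1 ^ 2)) = -2 := by decide
  rw [h, Fintype.sum_prod_type]
  simp only [← Finset.mul_sum, h2, ← Finset.sum_mul]
  rw [show (∑ v : V k, χ (Cfsg.quadFormPlus k K v)) = 2 ^ k from sgn_plus k]
  ring

/-- The polar form. -/
def β (m : ℕ) (u v : V m) : K :=
  Cfsg.quadFormPlus m K (u + v) - Cfsg.quadFormPlus m K u - Cfsg.quadFormPlus m K v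

theorem β_eq (m : ℕ) (u v : V m) :
    β m u v = ∑ i : Fin m, (u (Sum.inl i) * v (Sum.inr i) + u (Sum.inr i) * v (Sum.inl i)) := by
  simp only [β, Cfsg.quadFormPlus, Pi.add_apply, ← Finset.sum_sub_distrib]
  exact Finset.sum_congr rfl fun i _ => by ring

theorem β_comm (m : ℕ) (u v : V m) : β m u v = β m v u := by
  simp only [β, add_comm u v]; ring

theorem β_add_left (m : ℕ) (u u' v : V m) : β m (u + u') v = β m u v + β m u' v := by
  simp only [β_eq, Pi.add_apply, ← Finset.sum_add_distrib]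
  exact Finset.sum_congr rfl fun i _ => by ring

theorem β_add_right (m : ℕ) (u v v' : V m) : β m u (v + v') = β m u v + β m u v' := by
  rw [β_comm, β_add_left, β_comm m v, β_comm m v']

theorem β_self (m : ℕ) (u : V m) : β m u u = 0 := by
  rw [β_eq]; exact Finset.sum_eq_zero fun i _ => by rw [mul_comm (u (Sum.inr i))]; exact zadd _

theorem β_smul_left (m : ℕ) (c : K) (u v : V m) : β m (c • u) v = c * β m u v := by
  simp only [β_eq, Finset.mul_sum, Pi.smul_apply, smul_eq_mul]
  exact Finset.sum_congr rfl fun i _ => by ring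

/-- The linear functional `β(·, a)`. -/
def lin (m : ℕ) (a : V m) : V m →ₗ[K] K where
  toFun x := β m x a
  map_add' x y := β_add_left m x y a
  map_smul' c x := β_smul_left m c x a

theorem P_add (m : ℕ) (u v : V m) :
    Cfsg.quadFormPlus m K (u + v) = Cfsg.quadFormPlus m K u + Cfsg.quadFormPlus m K v + β m u v := by
  rw [β]; ring

/-- The forms with polar form `β`. -/
noncomputable def qf (m : ℕ) (a : V m) : QuadraticForm K (V m) :=
  Forms59.plusQF K m + QuadraticMap.linMulLin (lin m a) (lin m a)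

theorem qf_apply (m : ℕ) (a x : V m) : qf m a x = Cfsg.quadFormPlus m K x + β m x a := by
  show Forms59.plusQF K m x + lin m a x * lin m a x = _
  rw [zsq, Forms59.coe_plusQF]
  rfl

theorem qf_eq_shift (m : ℕ) (a x : V m) :
    qf m a x = Cfsg.quadFormPlus m K (x + a) + Cfsg.quadFormPlus m K a := by
  rw [qf_apply, P_add, add_assoc, add_assoc, add_comm (β m x a), ← add_assoc (Cfsg.quadFormPlus m K a), zadd, zero_add]

theorem sgn_qf (m : ℕ) (a : V m) : sgn (fun x => qf m a x) = χ (Cfsg.quadFormPlus m K a) * 2 ^ m := by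
  rw [← sgn_plus m, sgn, sgn, Finset.mul_sum]
  refine Fintype.sum_equiv (Equiv.addRight a) _ _ fun x => ?_
  rw [qf_eq_shift, χ_add, mul_comm]
  rfl

theorem exists_rep (m : ℕ) (q : V m → K) (hq : ∀ u v, q (u + v) = q u + q v + β m u v) :
    ∃ a, ∀ x, q x = qf m a x := by
  let f : V m →+ K := AddMonoidHom.mk' (fun x => q x + Cfsg.quadFormPlus m K x) fun u v => by
    rw [hq, P_add]
    linear_combination zadd (β m u v)
  let g := f.toZModLinearMap 2
  let a : V m := Sum.elim (fun i => g (Pi.single (Sum.inr i) 1)) (fun i => g (Pi.single (Sum.inl i) 1))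
  have h : g = lin m a := by
    refine LinearMap.pi_ext' fun j => LinearMap.ext_ring ?_
    simp only [LinearMap.comp_apply, LinearMap.single_apply]
    show g (Pi.single j 1) = β m (Pi.single j 1) a
    rw [β_eq]
    rcases j with j | j
    · rw [Finset.sum_eq_single j]
      · simp [a]
      · intro i _ hi
        simp [hi]
      · simp
    · rw [Finset.sum_eq_single j]
      · simp [a]
      · intro i _ hi
        simp [hi]
      · simp
  refine ⟨a, fun x => ?_⟩
  have h' : q x + Cfsg.quadFormPlus m K x = β m x a := LinearMap.congr_fun h x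
  rw [qf_apply, ← h']
  linear_combination -zadd (Cfsg.quadFormPlus m K x)

theorem qf_injective (m : ℕ) {a b : V m} (h : ∀ x, qf m a x = qf m b x) : a = b := by
  funext j
  rcases j with j | j
  · have := h (Pi.single (Sum.inr j) 1)
    simp only [qf_apply, add_right_inj, β_eq] at this
    rw [Finset.sum_eq_single j, Finset.sum_eq_single j] at this
    · simpa using this
    all_goals first | (intro i _ hi; simp [hi]) | simp
  · have := h (Pi.single (Sum.inl j) 1)
    simp only [qf_apply, add_right_inj, β_eq] at this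
    rw [Finset.sum_eq_single j, Finset.sum_eq_single j] at this
    · simpa using this
    all_goals first | (intro i _ hi; simp [hi]) | simp

/-- Normal forms over `ZMod 2` in even dimension. -/
theorem classify {W : Type*} [AddCommGroup W] [Module K W] [FiniteDimensional K W] (Q : QuadraticForm K W)
    (hQ : (QuadraticMap.polarBilin Q).Nondegenerate) {m : ℕ} (hd : Module.finrank K W = 2 * m) :
    (∃ e : W ≃ₗ[K] V m, ∀ v, Q v = Cfsg.quadFormPlus m K (e v)) ∨
    (1 ≤ m ∧ ∃ e : W ≃ₗ[K] ((Fin (m - 1) ⊕ Fin (m - 1)) ⊕ Fin 2 → K), ∀ v, Q v = Cfsg.quadFormMinus (m - 1) K 1 1 (e v)) := by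
  rcases Forms59.exists_normal_form Q hQ with ⟨k, hk, e, he⟩ | ⟨k, hk, -⟩ | ⟨k, hk, ζ, e, hζ, he⟩
  · obtain rfl : k = m := by omega
    exact Or.inl ⟨e, he⟩
  · omega
  · obtain rfl : k = m - 1 := by omega
    have hz : ζ = 1 := by
      have key : ∀ z : K, (0 : K) ^ 2 + 0 + z ≠ 0 → z = 1 := by decide
      exact key ζ (hζ 0)
    subst hz
    exact Or.inr ⟨by omega, e, he⟩

theorem polar_qf (m : ℕ) (a u v : V m) : QuadraticMap.polar (qf m a) u v = β m u v := by
  simp only [QuadraticMap.polar, qf_apply, P_add, β_add_left, zsub]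
  linear_combination zadd (Cfsg.quadFormPlus m K u) + zadd (Cfsg.quadFormPlus m K v) + zadd (β m u a) + zadd (β m v a)

theorem nondeg_qf (m : ℕ) (a : V m) : (QuadraticMap.polarBilin (qf m a)).Nondegenerate := by
  have key : ∀ u : V m, (∀ v, β m u v = 0) → u = 0 := by
    intro u hu
    funext j
    rcases j with j | j
    · have := hu (Pi.single (Sum.inr j) 1)
      rw [β_eq, Finset.sum_eq_single j] at this
      · simpa using this
      all_goals first | (intro i _ hi; simp [hi]) | simp
    · have := hu (Pi.single (Sum.inl j) 1)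
      rw [β_eq, Finset.sum_eq_single j] at this
      · simpa using this
      all_goals first | (intro i _ hi; simp [hi]) | simp
  constructor
  · intro u hu
    exact key u fun v => by rw [← polar_qf m a]; exact hu v
  · intro v hv
    exact key v fun u => by rw [β_comm, ← polar_qf m a]; exact hv u

/-- The forms polarizing to `β` are the translates `qf a`. -/
noncomputable def formsEquiv (m : ℕ) : V m ≃ {q : V m → K // ∀ u v, q (u + v) = q u + q v + β m u v} :=
  Equiv.ofBijective (fun a => ⟨fun x => qf m a x, fun u v => by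
      rw [← polar_qf m a, QuadraticMap.polar]; ring⟩)
    ⟨fun _ _ h => qf_injective m (congr_fun (congrArg Subtype.val h)),
     fun q => by
      obtain ⟨a, ha⟩ := exists_rep m q.1 q.2
      exact ⟨a, Subtype.ext (funext fun x => (ha x).symm)⟩⟩

theorem finrank_V (m : ℕ) : Module.finrank K (V m) = 2 * m := by
  rw [Module.finrank_pi, Fintype.card_sum, Fintype.card_fin]; omega

theorem plus_iff {m : ℕ} (a : V m) :
    (∃ g : V m ≃ₗ[K] V m, ∀ v, qf m a v = Cfsg.quadFormPlus m K (g v)) ↔ Cfsg.quadFormPlus m K a = 0 := by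
  constructor
  · rintro ⟨g, hg⟩
    have h := sgn_congr g.toEquiv (fun x => qf m a x) _ hg
    rw [sgn_qf, sgn_plus] at h
    have : χ (Cfsg.quadFormPlus m K a) = 1 := mul_eq_right₀ (by positivity) |>.mp h
    exact χ_inj _ _ this
  · intro h0
    rcases classify (qf m a) (nondeg_qf m a) (finrank_V m) with ⟨e, he⟩ | ⟨hm, e, he⟩
    · exact ⟨e, he⟩
    · exfalso
      have h := sgn_congr e.toEquiv (fun x => qf m a x) _ he
      rw [sgn_qf, sgn_minus, Nat.sub_add_cancel hm, h0] at h
      have : (0 : ℤ) < 2 ^ m := by positivity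
      simp [χ] at h
      omega

theorem minus_iff {m : ℕ} (hm : 1 ≤ m) (a : V m) :
    (∃ g : V m ≃ₗ[K] ((Fin (m - 1) ⊕ Fin (m - 1)) ⊕ Fin 2 → K), ∀ v, qf m a v = Cfsg.quadFormMinus (m - 1) K 1 1 (g v)) ↔
      Cfsg.quadFormPlus m K a = 1 := by
  constructor
  · rintro ⟨g, hg⟩
    have h := sgn_congr g.toEquiv (fun x => qf m a x) _ hg
    rw [sgn_qf, sgn_minus, Nat.sub_add_cancel hm] at h
    by_contra hne
    have h0 : Cfsg.quadFormPlus m K a = 0 := by
      revert hne; generalize Cfsg.quadFormPlus m K a = x; revert x; decide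
    have : (0 : ℤ) < 2 ^ m := by positivity
    simp [χ, h0] at h
    omega
  · intro h1
    rcases classify (qf m a) (nondeg_qf m a) (finrank_V m) with ⟨e, he⟩ | ⟨-, e, he⟩
    · exact absurd ((plus_iff a).mp ⟨e, he⟩) (by rw [h1]; decide)
    · exact ⟨e, he⟩

theorem same_type_iff {m : ℕ} (a b : V m) :
    (∃ g : V m ≃ₗ[K] V m, ∀ v, qf m a v = qf m b (g v)) ↔ Cfsg.quadFormPlus m K a = Cfsg.quadFormPlus m K b := by
  constructor
  · rintro ⟨g, hg⟩
    have h := sgn_congr g.toEquiv (fun x => qf m a x) (fun x => qf m b x) hg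
    rw [sgn_qf, sgn_qf] at h
    exact χ_inj _ _ (mul_right_cancel₀ (by positivity) h)
  · intro h
    rcases classify (qf m a) (nondeg_qf m a) (finrank_V m) with ⟨e, he⟩ | ⟨hm, e, he⟩
    · obtain ⟨g, hg⟩ := (plus_iff b).mpr (h ▸ (plus_iff a).mp ⟨e, he⟩)
      exact ⟨e.trans g.symm, fun v => by rw [hg, LinearEquiv.trans_apply, LinearEquiv.apply_symm_apply, he]⟩
    · obtain ⟨g, hg⟩ := (minus_iff hm b).mpr (h ▸ (minus_iff hm a).mp ⟨e, he⟩)
      exact ⟨e.trans g.symm, fun v => by rw [hg, LinearEquiv.trans_apply, LinearEquiv.apply_symm_apply, he]⟩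

theorem card_zero (m : ℕ) :
    (2 * (Finset.univ.filter fun a : V m => Cfsg.quadFormPlus m K a = 0).card : ℤ) = 4 ^ m + 2 ^ m := by
  have h := sgn_plus m
  simp only [sgn, χ, Finset.sum_ite, Finset.sum_const, nsmul_eq_mul, mul_one, mul_neg] at h
  have h2 := Finset.card_filter_add_card_filter_not (s := (Finset.univ : Finset (V m)))
    (fun a => Cfsg.quadFormPlus m K a = 0)
  rw [Finset.card_univ, Fintype.card_fun, ZMod.card, Fintype.card_sum, Fintype.card_fin, ← two_mul, pow_mul] at h2
  have h3 : ((Finset.univ.filter fun a : V m => Cfsg.quadFormPlus m K a = 0).card : ℤ) +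
      ((Finset.univ.filter fun a : V m => ¬ Cfsg.quadFormPlus m K a = 0).card : ℤ) = 4 ^ m := by
    exact_mod_cast h2
  linarith

end Cfsg.Agent.KS58.F2
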