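import Cfsg.Agent.KnownSimple58.TwistedTwoGen
import Cfsg.Agent.Twisted.Groups.F4

/-!
# The large Ree groups are generated by two elements
-/

set_option autoImplicit false
set_option maxRecDepth 4000

namespace Cfsg.Agent.Twisted.TypeF4.TwoGen

open ChevGroup ChevIsogeny Cfsg.Lie

theorem neg_ok : ∀ r, (MT.S).actw ((W0.map fd.O.wd).flatten) r = (MT.S).neg r := by decide +kernel

theorem pair_neg : ∀ (i : Fin MT.tab.l) (s : Fin MT.tab.n),
    chevF4.pairing ((MT.S).simple i).val ((MT.S).neg s).val = -chevF4.pairing ((MT.S).simple i).val s.val := by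
  decide +kernel

theorem pair_val : ∀ i : Fin MT.tab.l,
    chevF4.pairing ((MT.S).simple i).val (27 : Fin MT.tab.n).val = ([-1, 2, -1, 0] : List ℤ).getD i.val 0 ∧
    chevF4.pairing ((MT.S).simple i).val (25 : Fin MT.tab.n).val = ([0, -2, 2, -1] : List ℤ).getD i.val 0 ∧
    chevF4.pairing ((MT.S).simple i).val (28 : Fin MT.tab.n).val = ([-1, 0, 1, -1] : List ℤ).getD i.val 0 ∧
    chevF4.pairing ((MT.S).simple i).val (30 : Fin MT.tab.n).val = ([-2, 2, 0, -1] : List ℤ).getD i.val 0 ∧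
    chevF4.pairing ((MT.S).simple i).val (24 : Fin MT.tab.n).val = ([0, 0, -1, 2] : List ℤ).getD i.val 0 ∧
    chevF4.pairing ((MT.S).simple i).val (33 : Fin MT.tab.n).val = ([2, -1, 0, 0] : List ℤ).getD i.val 0 := by
  decide +kernel

variable {F : Type*} [Field F] [Fintype F] {m : ℕ} {K : Rels chevF4 F}
  (Z : Frame (T := MT) K PP (2 ^ m) fd) (hK : Fintype.card F = 2 ^ (2 * m + 1))

set_option quotPrecheck false in
local notation "G₁" => genG MT K (f4Words F (2 ^ m))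

include Z

theorem chi_cvec (y z : Fˣ) :
    chi MT (cvec m y z) 27 = (y ^ 2 ^ m)⁻¹ * (z ^ 2 ^ m) ^ 2 * z⁻¹ ∧
    chi MT (cvec m y z) 25 = ((z ^ 2 ^ m) ^ 2)⁻¹ * z ^ 2 * y⁻¹ ∧
    chi MT (cvec m y z) 28 = (y ^ 2 ^ m)⁻¹ * z * y⁻¹ ∧
    chi MT (cvec m y z) 30 = ((y ^ 2 ^ m) ^ 2)⁻¹ * (z ^ 2 ^ m) ^ 2 * y⁻¹ ∧
    chi MT (cvec m y z) 24 = z⁻¹ * y ^ 2 ∧
    chi MT (cvec m y z) 33 = (y ^ 2 ^ m) ^ 2 * (z ^ 2 ^ m)⁻¹ := by
  obtain ⟨e0, e1, e2, e3⟩ := cvec_val Z y z
  have e : ∀ r, chi MT (cvec m y z) r =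
      (y ^ 2 ^ m) ^ chevF4.pairing ((MT.S).simple 0).val r.val *
        (z ^ 2 ^ m) ^ chevF4.pairing ((MT.S).simple 1).val r.val *
        z ^ chevF4.pairing ((MT.S).simple 2).val r.val *
        y ^ chevF4.pairing ((MT.S).simple 3).val r.val := by
    intro r
    refine (Fin.prod_univ_four _).trans ?_
    erw [e0, e1, e2, e3]
    rfl
  refine ⟨?_, ?_, ?_, ?_, ?_, ?_⟩
  · rw [e]; rw [(pair_val 0).1, (pair_val 1).1, (pair_val 2).1, (pair_val 3).1]; simp [zpow_ofNat, show MT.tab.l = 4 from rfl]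
  · rw [e]; rw [(pair_val 0).2.1, (pair_val 1).2.1, (pair_val 2).2.1, (pair_val 3).2.1]; simp [zpow_ofNat, show MT.tab.l = 4 from rfl]
  · rw [e]; rw [(pair_val 0).2.2.1, (pair_val 1).2.2.1, (pair_val 2).2.2.1, (pair_val 3).2.2.1]; simp [show MT.tab.l = 4 from rfl]
  · rw [e]; rw [(pair_val 0).2.2.2.1, (pair_val 1).2.2.2.1, (pair_val 2).2.2.2.1, (pair_val 3).2.2.2.1]
    simp [zpow_ofNat, show MT.tab.l = 4 from rfl]
  · rw [e]; rw [(pair_val 0).2.2.2.2.1, (pair_val 1).2.2.2.2.1, (pair_val 2).2.2.2.2.1, (pair_val 3).2.2.2.2.1]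
    simp [zpow_ofNat, show MT.tab.l = 4 from rfl]
  · rw [e]; rw [(pair_val 0).2.2.2.2.2, (pair_val 1).2.2.2.2.2, (pair_val 2).2.2.2.2.2, (pair_val 3).2.2.2.2.2]
    simp [zpow_ofNat, show MT.tab.l = 4 from rfl]

include hK

theorem torus_of_pair (Q : Subgroup ↥(chevF4.group F))
    (h1 : ∀ t, pairW K m t ∈ Q) (h2 : ∀ t, pairW' K m t ∈ Q) (y : Fˣ) : tor MT K (cvec m y 1) ∈ Q := by
  obtain ⟨-, -, -, -, -, -, hneg⟩ := pow_facts hK
  have e1 : (MT.S).neg (33 : Fin MT.tab.n) = 14 := Fin.ext rfl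
  have e2 : (MT.S).neg (24 : Fin MT.tab.n) = 23 := Fin.ext rfl
  have hn : ∀ w : F, ((([33, 24] : List (Fin MT.tab.n)).map fun r =>
      (MT.rel K).nr r (two 33 (w ^ 2 ^ m) w r))).prod ∈ Q := by
    intro w
    refine Z.nprod_mem pair_ok (two 33 (w ^ 2 ^ m) w) (h1 w) ?_
    have := h2 w⁻¹
    simpa [pairW', prodX, two, e1, e2, hneg, inv_pow] using this
  have h := Z.hprod_mem pair_ok (two 33 ((y : F) ^ 2 ^ m) (y : F)) (hn _) (by
    have := hn 1
    simpa [two, hneg] using this)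
  rw [Z.tor_eq_prod (L := [1, 2, 0, 3]) (by decide)]
  have s0 : (MT.S).simple 0 = (33 : Fin MT.tab.n) := Fin.ext rfl
  have s3 : (MT.S).simple 3 = (24 : Fin MT.tab.n) := Fin.ext rfl
  obtain ⟨c0, c1, c2, c3⟩ := cvec_val Z y (1 : Fˣ)
  have h1' : ∀ r, (MT.rel K).hr r (1 : F) = 1 := fun r => by
    show (MT.rel K).nr r 1 * (MT.rel K).nr r (-1) = 1
    rw [← (MT.rel K).nr_inv, mul_inv_cancel]
  simpa [s0, s3, c0, c1, c2, c3, h1', two] using h

omit hK in
theorem tor_pairW {c : Fin MT.tab.l → Fˣ} {l : Fˣ} (h24 : chi MT c 24 = l)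
    (h33 : chi MT c 33 = l ^ 2 ^ m) (t : F) :
    tor MT K c * pairW K m t * (tor MT K c)⁻¹ = pairW K m ((l : F) * t) := by
  rw [pairW, Z.tor_prodX_conj, pairW]
  refine Z.prodX_congr fun r hr => ?_
  simp only [List.mem_cons, List.not_mem_nil, or_false] at hr
  rcases hr with rfl | rfl
  · simp [two, h33, mul_pow]
  · simp [two, h24]

theorem pairW_add (s t : F) : pairW K m s * pairW K m t = pairW K m (s + t) := by
  obtain ⟨-, ha1, -⟩ := pow_facts hK
  rw [pairW, pairW, pairW, N_mul Z (by decide) (by decide), ha1]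

theorem exists_two_gen (hm : 1 ≤ m) : ∃ a b : ↥G₁, Subgroup.closure ({a, b} : Set ↥G₁) = ⊤ := by
  classical
  obtain ⟨h20, ha1, ha2, -, -, hper, hneg⟩ := pow_facts hK
  have X := gens Z hK
  have hq1 : 2 * (2 ^ m) * (2 ^ m) = 2 ^ (2 * m + 1) := by rw [pow_succ, two_mul m, pow_add]; ring
  have hθ2 : 2 ≤ (2 ^ m) := by
    calc (2 : ℕ) = 2 ^ 1 := rfl
      _ ≤ (2 ^ m) := Nat.pow_le_pow_right (by norm_num) hm
  have hperu : ∀ v : Fˣ, v ^ (2 * (2 ^ m) * (2 ^ m)) = v := fun v =>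
    Units.ext (by rw [Units.val_pow_eq_pow_val]; exact hper v)
  obtain ⟨z, hz⟩ := IsCyclic.exists_generator (α := Fˣ)
  have hord : orderOf z = 2 * (2 ^ m) * (2 ^ m) - 1 := by
    rw [orderOf_eq_card_of_forall_mem_zpowers hz, Nat.card_units, Nat.card_eq_fintype_card, hK, hq1]
  set y₀ : Fˣ := z ^ 2 * ((z ^ (2 ^ m)) ^ 2)⁻¹ with hy₀
  set l : Fˣ := z⁻¹ * y₀ ^ 2 with hl
  obtain ⟨c27, c25, c28, c30, c24, c33⟩ := chi_cvec Z y₀ z
  have hz2 : (z ^ ((2 ^ m) * (2 ^ m))) ^ 2 = z := by rw [← pow_mul, mul_comm, ← mul_assoc]; exact hperu z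
  have hy27 : y₀ ^ (2 ^ m) = (z ^ (2 ^ m)) ^ 2 * z⁻¹ := by
    rw [hy₀, mul_pow, inv_pow, ← pow_mul (z ^ (2 ^ m)), mul_comm 2 (2 ^ m), pow_mul (z ^ (2 ^ m)), ← pow_mul z (2 ^ m) (2 ^ m), hz2,
      ← pow_mul, mul_comm 2, pow_mul]
  have e25 : chi MT (cvec m y₀ z) 25 = 1 := by
    rw [c25, hy₀, mul_comm _ (z ^ 2), mul_inv_cancel]
  have e27 : chi MT (cvec m y₀ z) 27 = 1 := by
    rw [c27, hy27]; group
  have e28 : chi MT (cvec m y₀ z) 28 = 1 := by
    have : chi MT (cvec m y₀ z) 28 = chi MT (cvec m y₀ z) 27 * chi MT (cvec m y₀ z) 25 := by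
      rw [c27, c25, c28]
      simp only [pow_two, mul_inv]
      apply Units.ext
      push_cast
      field_simp
    rw [this, e27, e25, one_mul]
  have e30 : chi MT (cvec m y₀ z) 30 = 1 := by
    have : chi MT (cvec m y₀ z) 30 =
        chi MT (cvec m y₀ z) 27 * chi MT (cvec m y₀ z) 27 * chi MT (cvec m y₀ z) 25 := by
      rw [c27, c25, c30]
      simp only [pow_two, mul_inv]
      apply Units.ext
      push_cast
      field_simp
    rw [this, e27, e25, one_mul, one_mul]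
  have e33 : chi MT (cvec m y₀ z) 33 = l ^ (2 ^ m) := by
    rw [c33, hl, mul_comm z⁻¹, mul_pow (y₀ ^ 2) z⁻¹, inv_pow, pow_right_comm y₀]
  -- `l` generates the field
  have hgen : Subring.closure ({(l : F)} : Set F) = ⊤ := by
    refine closure_eq_top_of_orderOf ?_
    have hle : orderOf z ∣ orderOf l := by
      rw [orderOf_dvd_iff_pow_eq_one]
      obtain ⟨k, hk⟩ : ∃ k, k = orderOf l := ⟨_, rfl⟩
      rw [← hk]
      have h1 : (z ^ 3) ^ k = ((z ^ (2 ^ m)) ^ 4) ^ k := by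
        have h0 : (l * (z ^ (2 ^ m)) ^ 4) ^ k = (z ^ 3) ^ k := by
          congr 1
          rw [hl, hy₀]
          apply Units.ext
          push_cast
          field_simp
        rw [← h0, mul_pow, hk, pow_orderOf_eq_one, one_mul]
      have h3 : (z ^ k) ^ 3 = ((z ^ k) ^ (2 ^ m)) ^ 4 := by
        simp only [← pow_mul] at h1 ⊢
        convert h1 using 2 <;> ring
      generalize z ^ k = w at h3 ⊢
      have hp : w ^ (2 * (2 ^ m) * (2 ^ m)) = w := hperu w
      have h9 : w ^ 9 = w ^ 8 := by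
        calc w ^ 9 = (w ^ 3) ^ 3 := by rw [← pow_mul]
          _ = (w ^ (4 * (2 ^ m))) ^ 3 := by rw [h3, ← pow_mul w, mul_comm (2 ^ m)]
          _ = (w ^ 3) ^ (4 * (2 ^ m)) := by rw [← pow_mul, ← pow_mul, mul_comm]
          _ = (w ^ (4 * (2 ^ m))) ^ (4 * (2 ^ m)) := by rw [h3, ← pow_mul w (2 ^ m), mul_comm (2 ^ m)]
          _ = (w ^ (2 * (2 ^ m) * (2 ^ m))) ^ 8 := by rw [← pow_mul, ← pow_mul]; congr 1; ring
          _ = _ := by rw [hp]
      rwa [pow_succ, mul_eq_left] at h9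
    have hfin : 0 < orderOf l := orderOf_pos l
    have hle' := Nat.le_of_dvd hfin hle
    rw [Nat.card_eq_fintype_card, hK, ← hq1]
    rw [hord] at hle'
    have h8 : 8 ≤ 2 * (2 ^ m) * (2 ^ m) := by nlinarith
    have := Nat.mul_le_mul hle' hle'
    have h9 : 2 * (2 ^ m) * (2 ^ m) < (2 * (2 ^ m) * (2 ^ m) - 1) * (2 * (2 ^ m) * (2 ^ m) - 1) := by
      obtain ⟨j, hj⟩ : ∃ j, 2 * (2 ^ m) * (2 ^ m) = j + 8 := ⟨_, (Nat.sub_add_cancel h8).symm⟩
      rw [hj, show j + 8 - 1 = j + 7 by omega]; nlinarith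
    omega
  have hl1 : l ≠ 1 := by
    intro e
    rw [e, Units.val_one] at hgen
    have : ∀ c : F, c = 0 ∨ c = 1 := by
      intro c
      have hc : c ∈ Subring.closure ({1} : Set F) := hgen ▸ Subring.mem_top c
      induction hc using Subring.closure_induction with
      | mem a ha => exact Or.inr ha
      | zero => exact Or.inl rfl
      | one => exact Or.inr rfl
      | add a b _ _ ha hb =>
        rcases ha with rfl | rfl <;> rcases hb with rfl | rfl <;> simp [← two_mul, h20]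
      | neg a _ ha => rwa [hneg]
      | mul a b _ _ ha hb => rcases ha with rfl | rfl <;> rcases hb with rfl | rfl <;> simp
    have h3 : Fintype.card F ≤ 2 := by
      refine le_trans (Finset.card_le_card (s := Finset.univ) (t := {0, 1}) fun c _ => ?_) Finset.card_le_two
      rcases this c with rfl | rfl <;> simp
    rw [hK, ← hq1] at h3
    nlinarith
  set h := tor MT K (cvec m y₀ z) with hh
  set y := clsW K m (1 : F) 0 with hy
  set x := pairW K m (1 : F) with hx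
  have hhy : Commute h y := by
    show h * y = y * h
    rw [← mul_inv_eq_iff_eq_mul, hh, hy, clsW, tor_form Z, e25, e27, e28, e30]
    simp
  have hy4 : y ^ 4 = 1 := by
    have h2 : y * y = form K 0 0 1 1 := by
      rw [hy, clsW, form_mul Z hK]
      simp [h20, ← two_mul]
    rw [show y ^ 4 = (y * y) * (y * y) by simp only [pow_succ, pow_zero, one_mul, mul_assoc], h2, form_mul Z hK]
    simp [form, prodX, two, (MT.rel K).x_zero, ← two_mul, h20]
  refine X.exists_two_gen_of (W0 := W0) neg_ok torOk pair_neg (h := h) (y := y) (x := x)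
    (Z.tor_mem_H _) (torus_mem Z hK _ (sig_cvec Z hK y₀ z)) (clsW_mem Z 1 0).1 (pairW_mem Z 1).1 hhy
    (i := 2 * (2 ^ m) * (2 ^ m) - 1) (j := 4) ?_ hy4 ?_ ?_ ⟨0, pairW_mem_X Z hK 1⟩
  · rw [hh, ← Z.torHom_apply, ← map_pow, ← map_one Z.torHom]
    congr 1
    funext j
    refine Units.ext ?_
    rw [Pi.pow_apply, Units.val_pow_eq_pow_val, hq1, ← hK]
    exact FiniteField.pow_card_sub_one_eq_one _ (Units.ne_zero _)
  · rw [show (4 : ℕ) = 2 ^ 2 from rfl]
    refine Nat.Coprime.pow_right 2 ?_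
    rw [Nat.coprime_two_right]
    exact ⟨(2 ^ m) * (2 ^ m) - 1, by
      have : 1 ≤ (2 ^ m) * (2 ^ m) := Nat.one_le_iff_ne_zero.2 (by positivity)
      rw [mul_assoc]; omega⟩
  intro Q hhQ hyQ hcom hb
  have h1 : ∀ t, pairW K m t ∈ Q := by
    have h0 : pairW K m (0 : F) = 1 := by
      simp [pairW, prodX, two, (MT.rel K).x_zero]
    let T : AddSubgroup F :=
      { carrier := {t | pairW K m t ∈ Q}
        zero_mem' := by show pairW K m (0 : F) ∈ Q; rw [h0]; exact one_mem _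
        add_mem' := fun {s t} hs ht => by
          show pairW K m (s + t) ∈ Q
          rw [← pairW_add Z hK]; exact mul_mem hs ht
        neg_mem' := fun {s} hs => by
          show pairW K m (-s) ∈ Q
          rw [hneg]; exact hs }
    refine smul_mem_of_closure_eq_top hgen T ?_ (t₀ := (l : F) - 1) ?_ ?_
    · rintro a rfl t ht
      show pairW K m ((l : F) * t) ∈ Q
      rw [← tor_pairW Z c24 e33]
      exact mul_mem (mul_mem hhQ ht) (inv_mem hhQ)
    · show pairW K m ((l : F) - 1) ∈ Q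
      rw [hh, hx, tor_pairW Z c24 e33, mul_one] at hcom
      have e := pairW_add Z hK ((l : F) - 1) 1
      rw [sub_add_cancel] at e
      rw [← e, mul_inv_cancel_right] at hcom
      exact hcom
    · rw [sub_ne_zero, Ne, Units.val_eq_one]; exact hl1
  have hX0 : X.data.X 0 ≤ Q := fun g hg => by
    obtain ⟨t, rfl⟩ := cls0 Z hg.2 (X.fixed g hg.1)
    exact h1 t
  have hn : X.data.nW W0 ∈ Q := by simpa [mul_assoc, hx] using mul_mem (inv_mem (h1 1)) hb
  have h2 : ∀ t, pairW' K m t ∈ Q := fun t =>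
    X.mem_of_neg neg_ok hX0 hn (pairW_mem Z t).2
      (Z.Sg_mem_prodX (Q := fun r => (MT.S).neg r ∈ fd.O.cls 0) (by decide +kernel) _)
  have hX1 : ∀ g ∈ X.data.X 1, ∃ t u, g = clsW K m t u := fun g hg =>
    cls1 Z hK hg.2 (X.fixed g hg.1)
  have hfirst : ∀ t : F, ∃ u, clsW K m t u ∈ Q := by
    intro t
    rcases eq_or_ne t 0 with rfl | ht
    · exact ⟨0, by simp [clsW, form, prodX, two, (MT.rel K).x_zero, zero_pow (pow_ne_zero m two_ne_zero)]⟩
    have hc := torus_of_pair Z hK Q h1 h2 (Units.mk0 t ht)⁻¹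
    have h4 := mul_mem (mul_mem hc hyQ) (inv_mem hc)
    have hcG : tor MT K (cvec m (Units.mk0 t ht)⁻¹ 1) ∈ G₁ := torus_mem Z hK _ (sig_cvec Z hK _ _)
    have h5 : tor MT K (cvec m (Units.mk0 t ht)⁻¹ 1) * y * (tor MT K (cvec m (Units.mk0 t ht)⁻¹ 1))⁻¹ ∈
        X.data.X 1 :=
      Subgroup.mem_inf.2 ⟨mul_mem (mul_mem hcG (clsW_mem Z 1 0).1) (inv_mem hcG),
        H_conj_Sg _ (Z.tor_mem_H _) (clsW_mem_X Z hK 1 0).2⟩
    obtain ⟨t', u', e⟩ := hX1 _ h5
    have e' := e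
    rw [hy, clsW, clsW, tor_form Z] at e'
    obtain ⟨-, d25, -, -⟩ := chi_cvec Z (Units.mk0 t ht)⁻¹ (1 : Fˣ)
    obtain ⟨-, et, -, -⟩ := form_inj Z hK e'
    have : t' = t := by rw [← et, d25]; simp
    exact ⟨u', this ▸ e ▸ h4⟩
  have hsec : ∀ v : F, clsW K m 0 v ∈ Q := by
    intro v
    obtain ⟨t, ht⟩ : ∃ t : F, t ^ ((2 ^ m) + 1) = v := by
      rcases eq_or_ne v 0 with rfl | hv
      · exact ⟨0, zero_pow (Nat.succ_ne_zero _)⟩
      have hinj : Function.Injective fun w : Fˣ => w ^ ((2 ^ m) + 1) := by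
        intro v v' (hvv : v ^ ((2 ^ m) + 1) = v' ^ ((2 ^ m) + 1))
        have h0 : (v * v'⁻¹) ^ ((2 ^ m) + 1) = 1 := by rw [mul_pow, inv_pow, hvv, mul_inv_cancel]
        rw [← mul_inv_eq_one]
        set w := v * v'⁻¹
        have h1 : w ^ (2 ^ m) = w⁻¹ := eq_inv_of_mul_eq_one_left (by rwa [← pow_succ])
        have h2 : w ^ 2 = w := by
          conv_rhs => rw [← hperu w]
          rw [mul_assoc, mul_comm 2, pow_mul, pow_mul, h1, inv_pow, h1, inv_inv]
        rwa [pow_two, mul_eq_left] at h2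
      obtain ⟨w, hw⟩ := (Finite.injective_iff_surjective.1 hinj) (Units.mk0 v hv)
      exact ⟨w, by
        have := congrArg Units.val hw
        simpa using this⟩
    obtain ⟨u, hu⟩ := hfirst t
    obtain ⟨t', u', e⟩ := hX1 _ (mul_mem (clsW_mem_X Z hK t u) (clsW_mem_X Z hK t u))
    have h4 := mul_mem hu hu
    have e' := e
    rw [clsW, clsW, form_mul Z hK] at e'
    obtain ⟨-, et, ec, -⟩ := form_inj Z hK e'
    have ht' : t' = 0 := by rw [← et, ← two_mul, h20, zero_mul]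
    subst ht'
    have hu' : u' = v := by
      rw [zero_pow (Nat.succ_ne_zero _), zero_add] at ec
      rw [← ec, ← ht, add_assoc, ← two_mul, h20, zero_mul, add_zero, pow_succ]
    rw [e, hu'] at h4
    exact h4
  intro k
  match k with
  | 0 => exact hX0
  | 1 =>
    intro g hg
    obtain ⟨t, u, rfl⟩ := hX1 g hg
    obtain ⟨u₀, hu₀⟩ := hfirst t
    obtain ⟨t', u', e⟩ := hX1 _ (mul_mem (inv_mem (clsW_mem_X Z hK t u₀)) hg)
    have e' : clsW K m t u₀ * clsW K m t' u' = clsW K m t u := by rw [← e, mul_inv_cancel_left]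
    have e'' := e'
    rw [clsW, clsW, clsW, form_mul Z hK] at e''
    obtain ⟨-, et, -, -⟩ := form_inj Z hK e''
    have : t' = 0 := by linear_combination et
    subst this
    rw [← e']
    exact mul_mem hu₀ (hsec u')

end Cfsg.Agent.Twisted.TypeF4.TwoGen
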