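import Mathlib
import Cfsg.Prelude.Def_Classical

/-!
Representations by isometries as homomorphisms into the isometry group.
-/

set_option autoImplicit false

namespace Cfsg.Agent.KS58.IsoHom

open scoped Matrix

variable {F : Type*} [Field F] {ι : Type} [Fintype ι] [DecidableEq ι] {Q : (ι → F) → F} {H : Type*} [Group H]

/-- The matrix of a representation. -/
noncomputable def matHom (ρ : H →* ((ι → F) ≃ₗ[F] (ι → F))) : H →* Matrix ι ι F where
  toFun x := LinearMap.toMatrix' (ρ x).toLinearMap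
  map_one' := by rw [map_one]; exact LinearMap.toMatrix'_id
  map_mul' x y := by rw [map_mul, ← LinearMap.toMatrix'_comp]; rfl

/-- A representation by isometries as a homomorphism into the isometry group. -/
noncomputable def isoHom (ρ : H →* ((ι → F) ≃ₗ[F] (ι → F))) (h : ∀ x v, Q (ρ x v) = Q v) :
    H →* Cfsg.isometryGroup F Q :=
  (matHom ρ).toHomUnits.codRestrict (Cfsg.isometryGroup F Q) fun x u _ => by
    show Q (LinearMap.toMatrix' (ρ x).toLinearMap *ᵥ u) = Q u
    rw [LinearMap.toMatrix'_mulVec]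
    exact h x u

theorem isoHom_mulVec (ρ : H →* ((ι → F) ≃ₗ[F] (ι → F))) (h : ∀ x v, Q (ρ x v) = Q v) (x : H) (v : ι → F) :
    ((isoHom ρ h x : GL ι F) : Matrix ι ι F) *ᵥ v = ρ x v :=
  LinearMap.toMatrix'_mulVec _ _

theorem isoHom_eq_iff (ρ : H →* ((ι → F) ≃ₗ[F] (ι → F))) (h : ∀ x v, Q (ρ x v) = Q v)
    {H' : Type*} [Group H'] (σ : H' →* ((ι → F) ≃ₗ[F] (ι → F))) (h' : ∀ x v, Q (σ x v) = Q v) (x : H) (y : H') :
    isoHom ρ h x = isoHom σ h' y ↔ ρ x = σ y := by
  refine ⟨fun e => LinearEquiv.ext fun v => ?_, fun e => Subtype.ext (Units.ext ?_)⟩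
  · rw [← isoHom_mulVec ρ h, ← isoHom_mulVec σ h', e]
  · exact congrArg (fun f : (ι → F) ≃ₗ[F] (ι → F) => LinearMap.toMatrix' f.toLinearMap) e

theorem isoHom_injective (ρ : H →* ((ι → F) ≃ₗ[F] (ι → F))) (h : ∀ x v, Q (ρ x v) = Q v)
    (hρ : Function.Injective ρ) : Function.Injective (isoHom ρ h) :=
  fun x y e => hρ ((isoHom_eq_iff ρ h ρ h x y).mp e)

end Cfsg.Agent.KS58.IsoHom
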