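import Mathlib
import Cfsg.Agent.KnownSimple58.F2Forms
import Cfsg.Agent.KnownSimple58.IsoHom

/-!
The even part of the permutation module of the symmetric group over the field with two elements, modulo the
constants, with the form "half the weight".
-/

set_option autoImplicit false

namespace Cfsg.Agent.KS58.PermModule

local notation "K" => ZMod 2

variable {N : ℕ}

/-- The weight. -/
def wt (v : Fin (N + 2) → K) : ℕ := ∑ i, (v i).val

theorem sum_eq_wt (v : Fin (N + 2) → K) : ∑ i, v i = (wt v : K) := by
  simp [wt, Nat.cast_sum]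

theorem even_wt {v : Fin (N + 2) → K} (h : ∑ i, v i = 0) : Even (wt v) := by
  rw [sum_eq_wt, ZMod.natCast_eq_zero_iff_even] at h
  exact h

/-- Half the weight, modulo two. -/
def h2 (v : Fin (N + 2) → K) : K := (wt v / 2 : ℕ)

theorem h2_perm (σ : Equiv.Perm (Fin (N + 2))) (v : Fin (N + 2) → K) : h2 (fun i => v (σ i)) = h2 v := by
  simp only [h2, wt]
  rw [Equiv.sum_comp σ fun i => (v i).val]

theorem h2_zero : h2 (0 : Fin (N + 2) → K) = 0 := by simp [h2, wt]

theorem h2_add {v w : Fin (N + 2) → K} (hv : ∑ i, v i = 0) (hw : ∑ i, w i = 0) :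
    h2 (v + w) = h2 v + h2 w + ∑ i, v i * w i := by
  have hp : ∀ x y : K, (x + y).val + 2 * (x * y).val = x.val + y.val := by decide
  have h : wt (v + w) + 2 * (∑ i, (v i * w i).val) = wt v + wt w := by
    rw [wt, wt, wt, Finset.mul_sum, ← Finset.sum_add_distrib, ← Finset.sum_add_distrib]
    exact Finset.sum_congr rfl fun i _ => hp (v i) (w i)
  obtain ⟨a, ha⟩ := even_wt hv
  obtain ⟨b, hb⟩ := even_wt hw
  have hvw : ∑ i, (v + w) i = 0 := by simp [Finset.sum_add_distrib, hv, hw]
  obtain ⟨c, hc⟩ := even_wt hvw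
  have hs : ∑ i, v i * w i = ((∑ i, (v i * w i).val : ℕ) : K) := by simp [Nat.cast_sum]
  simp only [h2, hs, ← Nat.cast_add]
  rw [ZMod.natCast_eq_natCast_iff']
  omega

/-- The even vector with the last coordinate zero in a class. -/
def ext : (Fin N → K) →ₗ[K] (Fin (N + 2) → K) where
  toFun u := Fin.snoc (Fin.snoc u (∑ i, u i)) 0
  map_add' u u' := by
    funext i
    induction i using Fin.lastCases with
    | last => simp
    | cast i =>
      induction i using Fin.lastCases with
      | last => simp [Finset.sum_add_distrib]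
      | cast i => simp
  map_smul' c u := by
    funext i
    induction i using Fin.lastCases with
    | last => simp
    | cast i =>
      induction i using Fin.lastCases with
      | last => simp [Finset.mul_sum]
      | cast i => simp

@[simp] theorem ext_last (u : Fin N → K) : ext u (Fin.last (N + 1)) = 0 := by simp [ext]

@[simp] theorem ext_mid (u : Fin N → K) : ext u (Fin.last N).castSucc = ∑ i, u i := by simp [ext]

@[simp] theorem ext_low (u : Fin N → K) (i : Fin N) : ext u i.castSucc.castSucc = u i := by simp [ext]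

theorem sum_ext (u : Fin N → K) : ∑ i, ext u i = 0 := by
  rw [Fin.sum_univ_castSucc, Fin.sum_univ_castSucc]
  simp only [ext_last, ext_mid, ext_low, add_zero]
  exact F2.zadd _

/-- The class of a vector. -/
def red (v : Fin (N + 2) → K) : Fin N → K := fun i => v i.castSucc.castSucc + v (Fin.last (N + 1))

theorem red_ext (u : Fin N → K) : red (ext u) = u := by funext i; simp [red]

theorem red_add_const (v : Fin (N + 2) → K) (c : K) : red (fun i => v i + c) = red v := by
  funext i
  simp only [red]
  linear_combination F2.zadd c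

theorem ext_red (hN : Even N) {v : Fin (N + 2) → K} (hv : ∑ i, v i = 0) :
    ext (red v) = fun i => v i + v (Fin.last (N + 1)) := by
  funext i
  induction i using Fin.lastCases with
  | last => simp only [ext_last]; exact (F2.zadd _).symm
  | cast i =>
    induction i using Fin.lastCases with
    | last =>
      simp only [ext_mid, red, Finset.sum_add_distrib, Finset.sum_const, Finset.card_univ, Fintype.card_fin]
      rw [Fin.sum_univ_castSucc, Fin.sum_univ_castSucc] at hv
      have hN0 : (N : K) = 0 := (ZMod.natCast_eq_zero_iff_even).mpr hN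
      rw [nsmul_eq_mul, hN0, zero_mul, add_zero]
      linear_combination hv - F2.zadd (v (Fin.last N).castSucc) - F2.zadd (v (Fin.last (N + 1)))
    | cast i => simp [red]

theorem h2_add_const (h4 : 4 ∣ N + 2) {v : Fin (N + 2) → K} (hv : ∑ i, v i = 0) (c : K) :
    h2 (fun i => v i + c) = h2 v := by
  have hc : ∀ c : K, c = 0 ∨ c = 1 := by decide
  rcases hc c with rfl | rfl
  · simp
  · have hp : ∀ x : K, (x + 1).val + x.val = 1 := by decide
    have h : wt (fun i => v i + 1) + wt v = N + 2 := by
      rw [wt, wt, ← Finset.sum_add_distrib, Finset.sum_congr rfl fun i _ => hp (v i)]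
      simp
    obtain ⟨a, ha⟩ := even_wt hv
    obtain ⟨q, hq⟩ := h4
    simp only [h2]
    rw [ZMod.natCast_eq_natCast_iff']
    omega

theorem sum_comp_symm (σ : Equiv.Perm (Fin (N + 2))) (u : Fin N → K) : ∑ i, ext u (σ.symm i) = 0 := by
  rw [Equiv.sum_comp σ.symm (ext u)]; exact sum_ext u

/-- The permutation action as a function. -/
def act (σ : Equiv.Perm (Fin (N + 2))) (u : Fin N → K) : Fin N → K := red fun i => ext u (σ.symm i)

theorem act_add (σ : Equiv.Perm (Fin (N + 2))) (u u' : Fin N → K) : act σ (u + u') = act σ u + act σ u' := by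
  funext i; simp [act, red, map_add]; ring

theorem act_smul (σ : Equiv.Perm (Fin (N + 2))) (c : K) (u : Fin N → K) : act σ (c • u) = c • act σ u := by
  funext i; simp [act, red, map_smul]; ring

theorem act_act (hN : Even N) (σ τ : Equiv.Perm (Fin (N + 2))) (u : Fin N → K) :
    act σ (act τ u) = act (σ * τ) u := by
  simp only [act]
  rw [ext_red hN (sum_comp_symm τ u)]
  rw [red_add_const]
  rfl

theorem act_one (u : Fin N → K) : act 1 u = u := red_ext u

/-- The permutation action. -/
def rep (hN : Even N) : Equiv.Perm (Fin (N + 2)) →* ((Fin N → K) ≃ₗ[K] (Fin N → K)) where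
  toFun σ :=
    { toFun := act σ
      map_add' := act_add σ
      map_smul' := act_smul σ
      invFun := act σ⁻¹
      left_inv := fun u => by rw [act_act hN, inv_mul_cancel, act_one]
      right_inv := fun u => by rw [act_act hN, mul_inv_cancel, act_one] }
  map_one' := LinearEquiv.ext act_one
  map_mul' σ τ := LinearEquiv.ext fun u => (act_act hN σ τ u).symm

theorem rep_injective (hN : Even N) (hN6 : 6 ≤ N) : Function.Injective (rep hN) := by
  rw [injective_iff_map_eq_one]
  intro σ hσ
  refine Equiv.ext fun a => ?_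
  show σ a = a
  by_contra hne
  obtain ⟨c, -, hc⟩ := Finset.exists_mem_notMem_of_card_lt_card
    (s := ({a, σ a} : Finset _)) (t := (Finset.univ : Finset (Fin (N + 2))))
    (lt_of_le_of_lt Finset.card_le_two (by simp; omega))
  obtain ⟨d, -, hd⟩ := Finset.exists_mem_notMem_of_card_lt_card
    (s := ({a, c, σ a, σ c} : Finset _)) (t := (Finset.univ : Finset (Fin (N + 2))))
    (lt_of_le_of_lt Finset.card_le_four (by simp; omega))
  simp only [Finset.mem_insert, Finset.mem_singleton, not_or] at hc hd
  let v : Fin (N + 2) → K := Pi.single a 1 + Pi.single c 1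
  have hv : ∑ i, v i = 0 := by
    simp only [v, Pi.add_apply, Finset.sum_add_distrib, Finset.sum_pi_single', Finset.mem_univ, if_true]
    decide
  have h : act σ (red v) = red v := LinearEquiv.congr_fun hσ (red v)
  simp only [act, ext_red hN hv, red_add_const] at h
  have hvs : ∑ i, v (σ.symm i) = 0 := by rw [Equiv.sum_comp σ.symm v]; exact hv
  have key := congrArg ext h
  rw [ext_red hN hvs, ext_red hN hv] at key
  have hd1 : σ.symm d ≠ a := fun e => hd.2.2.1 (by rw [← e, Equiv.apply_symm_apply])
  have hd2 : σ.symm d ≠ c := fun e => hd.2.2.2 (by rw [← e, Equiv.apply_symm_apply])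
  have k1 := congr_fun key d
  have k2 := congr_fun key (σ a)
  simp only [v, Pi.add_apply, Pi.single_apply, hd1, hd2, hd.1, hd.2.1, if_false, zero_add] at k1
  simp only [v, Pi.add_apply, Pi.single_apply, Equiv.symm_apply_apply, hne, Ne.symm hc.1, Ne.symm hc.2,
    if_true, if_false, zero_add, add_zero] at k2
  rw [k1] at k2
  simp at k2

theorem h2_act (hN : Even N) (h4 : 4 ∣ N + 2) (σ : Equiv.Perm (Fin (N + 2))) (u : Fin N → K) :
    h2 (ext (act σ u)) = h2 (ext u) := by
  rw [act, ext_red hN (sum_comp_symm σ u), h2_add_const h4 (sum_comp_symm σ u)]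
  exact h2_perm σ.symm (ext u)

/-- Half the weight as a quadratic form. -/
noncomputable def form : QuadraticForm K (Fin N → K) :=
  QuadraticMap.ofPolar (fun u => h2 (ext u))
    (fun a u => by
      have hc : ∀ c : K, c = 0 ∨ c = 1 := by decide
      rcases hc a with rfl | rfl
      · simp [h2_zero]
      · simp)
    (fun u u' w => by
      simp only [QuadraticMap.polar, map_add]
      rw [h2_add (by simp [Finset.sum_add_distrib, sum_ext]) (sum_ext w), h2_add (sum_ext u) (sum_ext u'),
        h2_add (sum_ext u) (sum_ext w), h2_add (sum_ext u') (sum_ext w)]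
      simp only [Pi.add_apply, add_mul, Finset.sum_add_distrib]
      ring)
    (fun a u w => by
      have hc : ∀ c : K, c = 0 ∨ c = 1 := by decide
      rcases hc a with rfl | rfl
      · simp [QuadraticMap.polar, h2_zero]
      · simp)

theorem form_apply (u : Fin N → K) : form u = h2 (ext u) := rfl

theorem form_nondegenerate (hN : Even N) : (QuadraticMap.polarBilin (form (N := N))).Nondegenerate := by
  have hp : ∀ u w : Fin N → K, QuadraticMap.polar (form (N := N)) u w = ∑ i, ext u i * ext w i := by
    intro u w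
    simp only [QuadraticMap.polar, form_apply, map_add, h2_add (sum_ext u) (sum_ext w)]
    ring
  have key : ∀ u : Fin N → K, (∀ w, ∑ i, ext u i * ext w i = 0) → u = 0 := by
    intro u hu
    have h : ∀ i, u i = ∑ j, u j := by
      intro i
      have := hu (Pi.single i 1)
      rw [Fin.sum_univ_castSucc, Fin.sum_univ_castSucc] at this
      simp only [ext_last, ext_mid, ext_low, mul_zero, add_zero, Finset.sum_pi_single', Finset.mem_univ, if_true,
        mul_one] at this
      rw [Finset.sum_eq_single i (fun b _ hb => by rw [Pi.single_eq_of_ne hb, mul_zero]) (by simp)] at this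
      rw [Pi.single_eq_same, mul_one] at this
      exact sub_eq_zero.mp (by rw [F2.zsub]; exact this)
    have hS : (∑ j, u j) = 0 := by
      have h' : (∑ j : Fin N, u j) = ∑ _j : Fin N, ∑ j, u j := Finset.sum_congr rfl fun j _ => h j
      rw [h', Finset.sum_const, Finset.card_univ, Fintype.card_fin, nsmul_eq_mul,
        (ZMod.natCast_eq_zero_iff_even).mpr hN, zero_mul]
    funext i
    rw [h i, hS]; rfl
  constructor
  · intro u hu
    exact key u fun w => by rw [← hp]; exact hu w
  · intro w hw
    exact key w fun u => by simp_rw [mul_comm (ext w _)]; rw [← hp]; exact hw u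

theorem two_mul_sgn (hN : Even N) (h4 : 4 ∣ N + 2) :
    2 * F2.sgn (fun u : Fin N → K => form u) = ((1 + ⟨0, 1⟩ : GaussianInt) ^ (N + 2)).re := by
  let f : K → GaussianInt := fun x => (⟨0, 1⟩ : GaussianInt) ^ x.val
  have hsum : ∑ x : K, f x = 1 + ⟨0, 1⟩ := by
    rw [show (Finset.univ : Finset K) = {0, 1} from rfl, Finset.sum_pair (by decide)]
    simp [f, ZMod.val_one]
  rw [← Fin.prod_const (N + 2) (1 + ⟨0, 1⟩ : GaussianInt), ← hsum, Fintype.prod_sum]
  have hsq : (⟨0, 1⟩ : GaussianInt) ^ 2 = -1 := rfl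
  have hterm : ∀ v : Fin (N + 2) → K, (∏ i, f (v i)).re = if ∑ i, v i = 0 then F2.χ (h2 v) else 0 := by
    intro v
    simp only [f, Finset.prod_pow_eq_pow_sum, sum_eq_wt, ZMod.natCast_eq_zero_iff_even]
    change ((⟨0, 1⟩ : GaussianInt) ^ wt v).re = _
    rcases Nat.even_or_odd' (wt v) with ⟨a, ha | ha⟩
    · have he : Even (wt v) := ⟨a, by omega⟩
      rw [if_pos he, h2, ha, Nat.mul_div_cancel_left a (by norm_num), pow_mul, hsq]
      rcases Nat.even_or_odd a with hb | hb
      · rw [hb.neg_one_pow, (ZMod.natCast_eq_zero_iff_even).mpr hb]; rfl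
      · rw [hb.neg_one_pow, (ZMod.natCast_eq_one_iff_odd).mpr hb]; rfl
    · rw [if_neg (by rw [Nat.not_even_iff_odd]; exact ⟨a, ha⟩), ha, pow_succ, pow_mul, hsq]
      rcases Nat.even_or_odd a with hb | hb
      · rw [hb.neg_one_pow]; rfl
      · rw [hb.neg_one_pow]; rfl
  have hre : ∀ g : (Fin (N + 2) → K) → GaussianInt, (∑ v, g v).re = ∑ v, (g v).re := fun g =>
    map_sum (AddMonoidHom.mk' (fun z : GaussianInt => z.re) fun _ _ => rfl) g _
  rw [hre, Finset.sum_congr rfl fun v _ => hterm v, ← Finset.sum_filter]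
  have hbij : ∑ v ∈ Finset.univ.filter (fun v : Fin (N + 2) → K => ∑ i, v i = 0), F2.χ (h2 v) =
      ∑ p : (Fin N → K) × K, F2.χ (form p.1) := by
    refine Finset.sum_nbij' (fun v => (red v, v (Fin.last (N + 1)))) (fun p i => ext p.1 i + p.2) (by simp)
      (fun p _ => ?_) (fun v hv => ?_) (fun p _ => ?_) (fun v hv => ?_)
    · simp [Finset.sum_add_distrib, sum_ext, (ZMod.natCast_eq_zero_iff_even (n := N)).mpr hN]
      exact Or.inl rfl
    · simp only [Finset.mem_filter, Finset.mem_univ, true_and] at hv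
      funext i
      simp only [ext_red hN hv]
      linear_combination F2.zadd (v (Fin.last (N + 1)))
    · exact Prod.ext (by rw [red_add_const, red_ext]) (by simp)
    · simp only [Finset.mem_filter, Finset.mem_univ, true_and] at hv
      rw [form_apply, ext_red hN hv, h2_add_const h4 hv]
  rw [hbij, Fintype.sum_prod_type, F2.sgn, Finset.mul_sum]
  exact Finset.sum_congr rfl fun u _ => by simp [mul_comm]

theorem gauss_re (k : ℕ) : ((1 + ⟨0, 1⟩ : GaussianInt) ^ (4 * k + 4)).re = (-4) ^ (k + 1) := by
  have h : ((1 + ⟨0, 1⟩ : GaussianInt)) ^ 4 = ((-4 : ℤ) : GaussianInt) := by decide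
  rw [show 4 * k + 4 = 4 * (k + 1) by ring, pow_mul, h, ← Int.cast_pow]
  exact Zsqrtd.re_intCast _

/-- The symmetric group on `4k+4` points inside an orthogonal group in dimension `4k+2`. -/
theorem exists_perm_hom (k : ℕ) (hk : 1 ≤ k) {ι : Type} [Fintype ι] [DecidableEq ι] (P : (ι → K) → K)
    (e : (Fin (4 * k + 2) → K) ≃ₗ[K] (ι → K)) (he : ∀ u, form u = P (e u)) :
    ∃ φ : Equiv.Perm (Fin (4 * k + 4)) →* ↥(Cfsg.isometryGroup K P), Function.Injective φ := by
  have hN : Even (4 * k + 2) := ⟨2 * k + 1, by ring⟩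
  let ρ : Equiv.Perm (Fin (4 * k + 4)) →* ((ι → K) ≃ₗ[K] (ι → K)) :=
    { toFun := fun σ => e.symm.trans ((rep hN σ).trans e)
      map_one' := by rw [map_one]; exact LinearEquiv.ext fun v => e.apply_symm_apply v
      map_mul' := fun σ τ => LinearEquiv.ext fun v => by
        show e (rep hN (σ * τ) (e.symm v)) = e (rep hN σ (e.symm (e (rep hN τ (e.symm v)))))
        rw [map_mul, LinearEquiv.symm_apply_apply]; rfl }
  refine ⟨IsoHom.isoHom ρ fun σ v => ?_, IsoHom.isoHom_injective _ _ fun σ τ h => rep_injective hN (by omega) ?_⟩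
  · show P (e (rep hN σ (e.symm v))) = P v
    rw [← he, form_apply]
    show h2 (ext (act σ (e.symm v))) = _
    rw [h2_act hN ⟨k + 1, by ring⟩, ← form_apply, he, e.apply_symm_apply]
  · refine LinearEquiv.ext fun u => e.injective ?_
    have := LinearEquiv.congr_fun h (e u)
    simpa [ρ] using this

theorem exists_iso_standard (k : ℕ) :
    (Odd k → ∃ e : (Fin (4 * k + 2) → K) ≃ₗ[K] F2.V (2 * k + 1), ∀ u, form u = Cfsg.quadFormPlus (2 * k + 1) K (e u)) ∧
    (Even k → ∃ e : (Fin (4 * k + 2) → K) ≃ₗ[K] ((Fin (2 * k) ⊕ Fin (2 * k)) ⊕ Fin 2 → K),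
      ∀ u, form u = Cfsg.quadFormMinus (2 * k) K 1 1 (e u)) := by
  have hN : Even (4 * k + 2) := ⟨2 * k + 1, by ring⟩
  have hs := two_mul_sgn hN ⟨k + 1, by ring⟩
  rw [show 4 * k + 2 + 2 = 4 * k + 4 from rfl, gauss_re] at hs
  have h4 : (-4 : ℤ) ^ (k + 1) = (-1) ^ (k + 1) * (2 * 2 ^ (2 * k + 1)) := by
    rw [← pow_succ', show 2 * k + 1 + 1 = 2 * (k + 1) by ring, pow_mul, ← mul_pow]; norm_num
  have hpos : (0 : ℤ) < 2 ^ (2 * k + 1) := by positivity
  rcases F2.classify (form (N := 4 * k + 2)) (form_nondegenerate hN)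
      (m := 2 * k + 1) (by rw [Module.finrank_fintype_fun_eq_card, Fintype.card_fin]; ring) with ⟨e, he⟩ | ⟨-, e, he⟩
  · refine ⟨fun _ => ⟨e, he⟩, fun hev => ?_⟩
    exfalso
    rw [F2.sgn_congr e.toEquiv (fun u => form u) _ he, F2.sgn_plus, h4, hev.add_one.neg_one_pow] at hs
    omega
  · refine ⟨fun hod => ?_, fun _ => ⟨e, he⟩⟩
    exfalso
    rw [F2.sgn_congr e.toEquiv (fun u => form u) _ he, F2.sgn_minus, h4, hod.add_one.neg_one_pow] at hs
    simp only [Nat.add_sub_cancel] at hs
    omega

end Cfsg.Agent.KS58.PermModule
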