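import Cfsg.Agent.Lib.Ree.Counting
import Cfsg.Agent.Lib.Ree.Rep
import Cfsg.Agent.Lib.CharCore.Linear
import Cfsg.Agent.BC87.Basic

/-!
# The least degree of a nontrivial representation of a small Ree group
-/

set_option autoImplicit false

namespace Cfsg.Agent.Twisted.TypeG2.MinDegree

open Finset ChevGroup ChevIsogeny Cfsg.Lie
open scoped ComplexConjugate

section General

variable {V : Type*} [AddCommGroup V] [Module ℂ V] [FiniteDimensional ℂ V]
  {H : Type*} [Group H] [Fintype H] (ρ : Representation ℂ H V)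

/-- The averaged operator. -/
noncomputable def avg : Module.End ℂ V := (Fintype.card H : ℂ)⁻¹ • ∑ h, ρ h

theorem mul_avg (g : H) : ρ g * avg ρ = avg ρ := by
  rw [avg, mul_smul_comm, mul_sum, Fintype.sum_equiv (Equiv.mulLeft g) (fun h => ρ g * ρ h) ρ
    fun h => (map_mul ρ g h).symm]

theorem avg_idem : avg ρ * avg ρ = avg ρ := by
  conv_lhs => arg 1; rw [avg]
  rw [smul_mul_assoc, sum_mul, sum_congr rfl fun g _ => mul_avg ρ g, sum_const, card_univ,
    ← Nat.cast_smul_eq_nsmul ℂ, smul_smul, inv_mul_cancel₀ (Nat.cast_ne_zero.2 Fintype.card_ne_zero),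
    one_smul]

theorem trace_avg : LinearMap.trace ℂ V (avg ρ) = (Fintype.card H : ℂ)⁻¹ * ∑ h, ρ.character h := by
  rw [avg, map_smul, map_sum, smul_eq_mul]
  rfl

theorem avg_isProj : LinearMap.IsProj (LinearMap.range (avg ρ)) (avg ρ) :=
  ⟨fun x => LinearMap.mem_range_self _ x, by
    rintro x ⟨y, rfl⟩
    exact LinearMap.congr_fun (avg_idem ρ) y⟩

theorem avg_eq_zero (h : ∑ g, ρ.character g = 0) : avg ρ = 0 := by
  have ht := (avg_isProj ρ).trace
  rw [trace_avg, h, mul_zero, eq_comm, Nat.cast_eq_zero, Submodule.finrank_eq_zero] at ht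
  exact LinearMap.range_eq_bot.1 ht

theorem eq_one_of_sum (h : ∑ g, ρ.character g = (Fintype.card H : ℂ) * Module.finrank ℂ V) (g : H) :
    ρ g = 1 := by
  have ht := (avg_isProj ρ).trace
  rw [trace_avg, h, inv_mul_cancel_left₀ (Nat.cast_ne_zero.2 Fintype.card_ne_zero), Nat.cast_inj,
    eq_comm] at ht
  have htop := Submodule.eq_top_of_finrank_eq ht
  have h1 : avg ρ = 1 := LinearMap.ext fun x => (avg_isProj ρ).map_id x (htop ▸ Submodule.mem_top)
  rw [← mul_one (ρ g), ← h1, mul_avg]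

/-- An element inverting an element `w` of order dividing three is conjugate to its product with it. -/
theorem char_mul_of_inverted {G W : Type*} [Group G] [AddCommGroup W] [Module ℂ W]
    (σ : Representation ℂ G W) {t w : G}
    (he : t * w * t⁻¹ = w⁻¹) (hw : w ^ 3 = 1) : σ.character (t * w) = σ.character t := by
  have e1 : w * t = t * w⁻¹ := by
    calc w * t = (t * w * t⁻¹)⁻¹ * t := by rw [he, inv_inv]
      _ = t * w⁻¹ := by group
  have e2 : w * t * w⁻¹ = t * w := by
    rw [e1, mul_assoc]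
    congr 1
    calc w⁻¹ * w⁻¹ = w ^ 3 * (w⁻¹ * w⁻¹) := by rw [hw, one_mul]
      _ = w := by group
  rw [← e2, Representation.char_conj]

/-- If the averaged operator over the image of `j` vanishes, so do the sums over its cosets. -/
theorem sum_char_mul_eq_zero {G W : Type*} [Group G] [AddCommGroup W] [Module ℂ W]
    [FiniteDimensional ℂ W] (σ : Representation ℂ G W) (j : H →* G) (t : G)
    (h : avg (σ.comp j) = 0) : ∑ b, σ.character (t * j b) = 0 := by
  have h2 : LinearMap.trace ℂ W (σ t * avg (σ.comp j)) = 0 := by rw [h, mul_zero, map_zero]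
  rw [avg, mul_smul_comm, map_smul, smul_eq_mul, mul_sum, map_sum, mul_eq_zero] at h2
  refine Eq.trans (sum_congr rfl fun b _ => ?_) (h2.resolve_left (inv_ne_zero
    (Nat.cast_ne_zero.2 Fintype.card_ne_zero)))
  rw [Representation.character, map_mul]
  rfl

end General

variable {F : Type*} [Field F] [Fintype F] {m : ℕ} {K : Rels chevG2 F}

variable (Z : Frame (T := MT) K PP (3 ^ m) fd) (hK : Fintype.card F = 3 ^ (2 * m + 1))

set_option quotPrecheck false in
local notation "G₁" => genG MT K (g2Words F (3 ^ m))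

/-- The element of the unipotent group with the given coordinates. -/
noncomputable def uu (t a b : F) : ↥G₁ := ⟨wordU K m t a b, wordU_mem Z t a b⟩

include Z hK

theorem frob_add (x y : F) : (x + y) ^ 3 ^ m = x ^ 3 ^ m + y ^ 3 ^ m := by
  haveI := Fact.mk Nat.prime_three
  haveI : CharP F 3 := charP_of_card_eq_prime_pow hK
  exact add_pow_char_pow x y 3 m

theorem uu_add (a b a' b' : F) : uu Z 0 a b * uu Z 0 a' b' = uu Z 0 (a + a') (b + b') := by
  apply Subtype.ext
  change wordU K m 0 a b * wordU K m 0 a' b' = wordU K m 0 (a + a') (b + b')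
  have hp : (0 : F) ^ 3 ^ m = 0 := zero_pow (by positivity)
  simp only [wordU, form_mul_eq Z hK, frob_add Z hK, hp, zero_pow (Nat.succ_ne_zero _),
    add_zero, zero_add, mul_zero, sub_zero, ne_eq, OfNat.ofNat_ne_zero, not_false_eq_true, zero_pow]

theorem uu_comm (t a b : F) : uu Z 0 a b * uu Z t 0 0 = uu Z t 0 0 * uu Z 0 a (b - a * t) := by
  apply Subtype.ext
  change wordU K m 0 a b * wordU K m t 0 0 = wordU K m t 0 0 * wordU K m 0 a (b - a * t)
  have hp : (0 : F) ^ 3 ^ m = 0 := zero_pow (by positivity)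
  have h3 : (3 : F) = 0 := (pow_facts hK).1
  have hsub : (b - a * t) ^ 3 ^ m = b ^ 3 ^ m + 2 * (a ^ 3 ^ m * t ^ 3 ^ m) := by
    rw [← mul_pow, eq_comm, ← sub_eq_zero]
    have := frob_add Z hK (b - a * t) (a * t)
    rw [sub_add_cancel] at this
    linear_combination (norm := ring_nf) this + (a * t) ^ 3 ^ m * h3
  simp only [wordU, form_mul_eq Z hK, hp, zero_pow (Nat.succ_ne_zero _), add_zero, zero_add,
    mul_zero, sub_zero, zero_mul, ne_eq, OfNat.ofNat_ne_zero, not_false_eq_true, zero_pow, hsub]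
  congr 2 <;> ring

/-- The elementary abelian subgroup of order `q ^ 2` as a homomorphism. -/
noncomputable def jA : Multiplicative (F × F) →* ↥G₁ :=
  MonoidHom.mk' (fun p => uu Z 0 p.toAdd.1 p.toAdd.2) fun p p' =>
    (uu_add Z hK p.toAdd.1 p.toAdd.2 p'.toAdd.1 p'.toAdd.2).symm

/-- The centre of the unipotent group as a homomorphism. -/
noncomputable def jZ : Multiplicative F →* ↥G₁ :=
  MonoidHom.mk' (fun b => uu Z 0 0 b.toAdd) fun b b' => by
    rw [uu_add Z hK, add_zero]; rfl

theorem torG_uu (z : Fˣ) (t a b : F) :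
    torG Z hK z * uu Z t a b * (torG Z hK z)⁻¹ =
      uu Z ((lam Z z : F) * t) ((lam Z z : F) ^ (3 * 3 ^ m + 1) * a)
        ((lam Z z : F) ^ (3 * 3 ^ m + 2) * b) :=
  Subtype.ext (hHom_conj_wordU Z hK z t a b)

theorem exists_scale {l : F} (hl : l ≠ 0) :
    ∃ z : Fˣ, (lam Z z : F) ^ (3 * 3 ^ m + 2) = l := by
  let φ : Fˣ →* Fˣ := MonoidHom.mk' (fun z => lam Z z ^ (3 * 3 ^ m + 2))
    fun a b => by rw [lam_mul, mul_pow]
  have hinj : Function.Injective φ := (injective_iff_map_eq_one φ).2 fun a ha =>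
    (lam_eq_one_iff Z hK).1 (lam_pow_v Z hK ha)
  obtain ⟨z, hz⟩ := Finite.injective_iff_surjective.1 hinj (Units.mk0 l hl)
  exact ⟨z, by rw [← Units.val_pow_eq_pow_val]; exact congrArg Units.val hz⟩

/-- A nontrivial representation of degree above one has degree at least `q ^ 2 - q + 1`. -/
theorem le_degree (hm : 1 ≤ m) {k : ℕ} (ρ : Representation ℂ ↥G₁ (Fin k → ℂ))
    (hnt : ∃ g, ρ g ≠ 1) :
    (3 ^ (2 * m + 1)) ^ 2 - 3 ^ (2 * m + 1) + 1 ≤ k := by
  classical
  haveI := simple_G1 Z hK hm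
  haveI : Fintype (Multiplicative (F × F)) := Fintype.ofFinite _
  haveI : Fintype (Multiplicative F) := Fintype.ofFinite _
  set q := 3 ^ (2 * m + 1) with hq
  have hfin : Module.finrank ℂ (Fin k → ℂ) = k := Module.finrank_fin_fun ℂ
  set χ : Multiplicative (F × F) → ℂ := fun p => ρ.character (jA Z hK p) with hχdef
  have hχ : Cfsg.IsCharacter (Multiplicative (F × F)) χ :=
    CharCore.isCharacter_comp ⟨k, ρ, rfl⟩ (jA Z hK)
  have hdeg1 : ∀ ψ : Cfsg.IrrCharacter (Multiplicative (F × F)),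
      (ψ : Multiplicative (F × F) → ℂ) 1 = 1 :=
    fun ψ => BC87.apply_one_eq_one_of_comm mul_comm ψ
  choose f hf using fun ψ : Cfsg.IrrCharacter (Multiplicative (F × F)) =>
    CharCore.IsCharacter.exists_hom_of_degree_one (CharCore.irr_isCharacter ψ) (hdeg1 ψ)
  choose mu hmu using fun ψ : Cfsg.IrrCharacter (Multiplicative (F × F)) =>
    CharCore.IsCharacter.exists_classInner_irr_eq_natCast hχ ψ
  have hdec : ∀ p, χ p = ∑ ψ, (mu ψ : ℂ) * (ψ : Multiplicative (F × F) → ℂ) p := fun p => by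
    have h := congrFun (CharCore.IsCharacter.eq_sum_classInner hχ) p
    simpa only [Finset.sum_apply, Pi.smul_apply, smul_eq_mul, hmu] using h
  have hk : ∑ ψ, mu ψ = k := by
    have h := hdec 1
    simp only [hdeg1, mul_one, hχdef, map_one, Representation.char_one, hfin] at h
    exact_mod_cast h.symm
  -- the characters trivial on the centre
  let iz : Multiplicative F →* Multiplicative (F × F) :=
    AddMonoidHom.toMultiplicative (AddMonoidHom.inr F F)
  have hjz : ∀ b, jA Z hK (iz b) = jZ Z hK b := fun b => rfl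
  have hcardN : Fintype.card (Multiplicative F) = q :=
    (Fintype.card_congr Multiplicative.toAdd).trans hK
  set T₀ := univ.filter fun ψ : Cfsg.IrrCharacter (Multiplicative (F × F)) =>
    (f ψ).comp iz = 1 with hT₀
  have hsumz : ∑ b, ρ.character (jZ Z hK b) = (q : ℂ) * (∑ ψ ∈ T₀, mu ψ : ℕ) := by
    have e : ∀ b, ρ.character (jZ Z hK b) =
        ∑ ψ, (mu ψ : ℂ) * (f ψ (iz b) : ℂ) := fun b => by
      rw [← hjz]
      exact (hdec (iz b)).trans (sum_congr rfl fun ψ _ => by rw [hf ψ])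
    rw [sum_congr rfl fun b _ => e b, sum_comm, hT₀, sum_filter, Nat.cast_sum, mul_sum]
    refine sum_congr rfl fun ψ _ => ?_
    rw [← mul_sum]
    by_cases hψ : (f ψ).comp iz = 1
    · rw [if_pos hψ, sum_congr rfl (g := fun _ => (1 : ℂ)) fun b _ => by
        rw [← MonoidHom.comp_apply, hψ]; simp, sum_const, card_univ, hcardN, nsmul_eq_mul, mul_one]
      ring
    · rw [if_neg hψ, Nat.cast_zero, mul_zero]
      have : ((Units.coeHom ℂ).comp ((f ψ).comp iz)) ≠ 1 := fun e => hψ (MonoidHom.ext fun b =>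
        Units.ext (DFunLike.congr_fun e b))
      have := sum_hom_units_eq_zero _ this
      simp only [MonoidHom.comp_apply, Units.coeHom_apply] at this
      rw [this, mul_zero]
  have hcardq : (Fintype.card (Multiplicative F) : ℂ) = q := by
    rw [hcardN]
  -- some character is nontrivial on the centre
  obtain ⟨ψ₀, hψ₀, hpos⟩ : ∃ ψ₀, ψ₀ ∉ T₀ ∧ 0 < mu ψ₀ := by
    by_contra hcon
    push Not at hcon
    have hsum : ∑ ψ ∈ T₀, mu ψ = k := by
      rw [← hk]
      exact sum_subset (subset_univ _) fun ψ _ hψ => Nat.le_zero.1 (hcon ψ hψ)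
    have hker : ∀ b, ρ (jZ Z hK b) = 1 := eq_one_of_sum (ρ.comp (jZ Z hK)) (by
      rw [hcardq, hfin]
      exact hsumz.trans (by rw [hsum]))
    obtain ⟨g, hg⟩ := hnt
    have hN : (MonoidHom.ker ρ) = ⊤ := by
      refine (Subgroup.Normal.eq_bot_or_eq_top inferInstance).resolve_left fun hbot => ?_
      have : jZ Z hK (Multiplicative.ofAdd 1) ∈ MonoidHom.ker ρ := MonoidHom.mem_ker.2 (hker _)
      rw [hbot, Subgroup.mem_bot] at this
      have := congrArg Subtype.val this
      change wordU K m 0 0 1 = 1 at this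
      exact one_ne_zero ((wordU_eq_one_iff Z hK).1 this).2.2
    exact hg (MonoidHom.mem_ker.1 (hN ▸ Subgroup.mem_top g))
  -- conjugation moves it
  have hmove : ∀ (φ : Multiplicative (F × F) →* Multiplicative (F × F)) (g : ↥G₁),
      (∀ p, jA Z hK (φ p) = g * jA Z hK p * g⁻¹) → ∃ ψ : Cfsg.IrrCharacter (Multiplicative (F × F)),
        (∀ p, (ψ : Multiplicative (F × F) → ℂ) p = (f ψ₀ (φ p) : ℂ)) ∧ mu ψ = mu ψ₀ := by
    intro φ g hφ
    have hinj : Function.Injective φ := fun p p' e => by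
      have e' := congrArg (jA Z hK) e
      rw [hφ, hφ] at e'
      have e'' := congrArg Subtype.val (mul_left_cancel (mul_right_cancel e'))
      change wordU K m 0 _ _ = wordU K m 0 _ _ at e''
      obtain ⟨-, h1, h2⟩ := wordU_inj Z hK e''
      exact Multiplicative.toAdd.injective (Prod.ext h1 h2)
    refine ⟨⟨_, CharCore.isIrrCharacter_comp_surjective ψ₀.2 φ
      (Finite.injective_iff_surjective.1 hinj)⟩, fun p => ?_, ?_⟩
    · change (ψ₀ : Multiplicative (F × F) → ℂ) (φ p) = _
      rw [hf ψ₀]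
    · rw [← Nat.cast_inj (R := ℂ), ← hmu, ← hmu]
      simp only [CharCore.classInner_def]
      congr 1
      refine Fintype.sum_equiv (Equiv.ofBijective _ (Finite.injective_iff_bijective.1 hinj)) _ _
        fun p => ?_
      change χ p * _ = χ (φ p) * _
      simp only [hχdef, hφ, Representation.char_conj]
      rfl
  let φ : Fˣ × F → (Multiplicative (F × F) →* Multiplicative (F × F)) := fun p =>
    MonoidHom.mk' (fun x => Multiplicative.ofAdd
      ((lam Z p.1 : F) ^ (3 * 3 ^ m + 1) * x.toAdd.1,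
        (lam Z p.1 : F) ^ (3 * 3 ^ m + 2) * (x.toAdd.2 - x.toAdd.1 * p.2))) fun x y => by
      apply Multiplicative.toAdd.injective
      simp only [toAdd_mul, toAdd_ofAdd, Prod.fst_add, Prod.snd_add, Prod.mk_add_mk]
      congr 1 <;> ring
  have hφ : ∀ p x, jA Z hK (φ p x) =
      (torG Z hK p.1 * (uu Z p.2 0 0)⁻¹) * jA Z hK x * (torG Z hK p.1 * (uu Z p.2 0 0)⁻¹)⁻¹ := by
    rintro ⟨z, t⟩ x
    have h1 : (uu Z t 0 0)⁻¹ * uu Z 0 x.toAdd.1 x.toAdd.2 * uu Z t 0 0 =
        uu Z 0 x.toAdd.1 (x.toAdd.2 - x.toAdd.1 * t) := by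
      rw [mul_assoc, uu_comm Z hK, inv_mul_cancel_left]
    calc jA Z hK (φ (z, t) x) = torG Z hK z * uu Z 0 x.toAdd.1 (x.toAdd.2 - x.toAdd.1 * t) *
          (torG Z hK z)⁻¹ := by rw [torG_uu Z hK, mul_zero]; rfl
      _ = _ := by
        rw [← h1]
        change _ = _ * uu Z 0 x.toAdd.1 x.toAdd.2 * _
        group
  choose Ψ hΨ hΨmu using fun p => hmove (φ p) _ (hφ p)
  have hΨinj : Function.Injective Ψ := by
    rintro ⟨z, t⟩ ⟨z', t'⟩ e
    have hv : ∀ x, f ψ₀ (φ (z, t) x) = f ψ₀ (φ (z', t') x) := fun x =>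
      Units.ext (by rw [← hΨ, ← hΨ, e])
    have hadd : ∀ r s : F, f ψ₀ (iz (Multiplicative.ofAdd r)) = f ψ₀ (iz (Multiplicative.ofAdd s)) →
        f ψ₀ (iz (Multiplicative.ofAdd (r - s))) = 1 := fun r s h => by
      rw [ofAdd_sub, map_div, map_div, h, div_self']
    have hne : ∃ c : F, f ψ₀ (iz (Multiplicative.ofAdd c)) ≠ 1 := by
      by_contra hc
      push Not at hc
      exact hψ₀ (mem_filter.2 ⟨mem_univ _, MonoidHom.ext fun b => hc b.toAdd⟩)
    obtain ⟨c, hc⟩ := hne
    set A := (lam Z z : F) ^ (3 * 3 ^ m + 2) with hA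
    set A' := (lam Z z' : F) ^ (3 * 3 ^ m + 2) with hA'
    have hAA : A = A' := by
      by_contra hne'
      have h := hv (Multiplicative.ofAdd (0, c / (A - A')))
      apply hc
      have hz : ∀ w s, φ (w, s) (Multiplicative.ofAdd (0, c / (A - A'))) =
          iz (Multiplicative.ofAdd ((lam Z w : F) ^ (3 * 3 ^ m + 2) * (c / (A - A')))) := fun w s => by
        apply Multiplicative.toAdd.injective
        simp [φ, iz]
      rw [hz, hz, ← hA, ← hA'] at h
      have := hadd _ _ h
      rwa [← sub_mul, mul_div_cancel₀ _ (sub_ne_zero.2 hne')] at this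
    have hzz : z = z' := by
      have h0 : lam Z z ^ (3 * 3 ^ m + 2) = lam Z z' ^ (3 * 3 ^ m + 2) :=
        Units.ext (by rw [Units.val_pow_eq_pow_val, Units.val_pow_eq_pow_val]; exact hAA)
      have h1 : lam Z (z * z'⁻¹) = 1 := lam_pow_v Z hK (by
        rw [lam_mul, mul_pow, h0, ← mul_pow, ← lam_mul, mul_inv_cancel, lam_one, one_pow])
      exact mul_inv_eq_one.1 ((lam_eq_one_iff Z hK).1 h1)
    subst hzz
    refine Prod.ext rfl ?_
    show t = t'
    by_contra ht
    have hA0 : A ≠ 0 := pow_ne_zero _ (Units.ne_zero _)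
    have h := hv (Multiplicative.ofAdd (c / (A * (t' - t)), 0))
    apply hc
    set a := c / (A * (t' - t))
    have hz : ∀ s, φ (z, s) (Multiplicative.ofAdd (a, 0)) =
        Multiplicative.ofAdd ((lam Z z : F) ^ (3 * 3 ^ m + 1) * a, (0 : F)) *
          iz (Multiplicative.ofAdd (A * (-(a * s)))) := fun s => by
      apply Multiplicative.toAdd.injective
      simp [φ, iz, hA]
    rw [hz, hz, (f ψ₀).map_mul, (f ψ₀).map_mul] at h
    have := hadd _ _ (mul_left_cancel h)
    rwa [show A * -(a * t) - A * -(a * t') = c by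
      simp only [a]; field_simp [sub_ne_zero.2 (Ne.symm ht)]; ring] at this
  have hΨT : ∀ p, Ψ p ∉ T₀ := by
    rintro ⟨z, t⟩ hp
    apply hψ₀
    refine mem_filter.2 ⟨mem_univ _, MonoidHom.ext fun b => ?_⟩
    have hA0 : (lam Z z : F) ^ (3 * 3 ^ m + 2) ≠ 0 := pow_ne_zero _ (Units.ne_zero _)
    have h := DFunLike.congr_fun (mem_filter.1 hp).2
      (Multiplicative.ofAdd (b.toAdd / (lam Z z : F) ^ (3 * 3 ^ m + 2)))
    rw [MonoidHom.comp_apply, MonoidHom.one_apply] at h
    have hv := hΨ (z, t) (iz (Multiplicative.ofAdd (b.toAdd / (lam Z z : F) ^ (3 * 3 ^ m + 2))))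
    rw [hf (Ψ (z, t))] at hv
    simp only [h, Units.val_one] at hv
    rw [MonoidHom.comp_apply, MonoidHom.one_apply]
    refine Units.ext ?_
    rw [Units.val_one, hv]
    congr 2
    apply Multiplicative.toAdd.injective
    simp [φ, iz, mul_div_cancel₀ _ hA0]
  have hbound : (∑ ψ ∈ T₀, mu ψ) + (q - 1) * q ≤ k := by
    have h1 : ∑ ψ ∈ T₀, mu ψ + ∑ p : Fˣ × F, mu (Ψ p) ≤ k := by
      rw [← hk, ← sum_image (f := mu) (g := Ψ) (fun a _ b _ e => hΨinj e), ← sum_union]
      · exact sum_le_sum_of_subset (subset_univ _)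
      · rw [disjoint_left]
        intro ψ h h'
        obtain ⟨p, -, rfl⟩ := mem_image.1 h'
        exact hΨT p h
    refine le_trans (Nat.add_le_add_left ?_ _) h1
    simp only [hΨmu, sum_const, card_univ, Fintype.card_prod, smul_eq_mul]
    rw [hK, ← Nat.card_eq_fintype_card (α := Fˣ), card_units_q Z hK, ← hq]
    exact Nat.le_mul_of_pos_right _ hpos
  have hqq : q ^ 2 - q = (q - 1) * q := by rw [Nat.sub_mul, one_mul, pow_two]
  rw [hqq]
  by_contra hlt
  have hk0 : ∑ ψ ∈ T₀, mu ψ = 0 := by omega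
  have hkq : k = (q - 1) * q := by omega
  -- every involution has trace zero
  have havg : avg (ρ.comp (jZ Z hK)) = 0 := avg_eq_zero _ (hsumz.trans (by rw [hk0]; simp))
  have h3 : (3 : F) = 0 := (pow_facts hK).1
  have hinv : ρ.character (torG Z hK (-1)) = 0 := by
    have hvv : ((lam Z (-1) : F)) ^ (3 * 3 ^ m + 2) = -1 := by
      rw [lam_neg_one Z hK, Units.val_neg, Units.val_one]
      exact ((Odd.mul (by decide : Odd 3) ((by decide : Odd 3).pow)).add_even even_two).neg_one_pow
    have hconj : ∀ b : Multiplicative F,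
        ρ.character (torG Z hK (-1) * jZ Z hK b) = ρ.character (torG Z hK (-1)) := fun b => by
      refine char_mul_of_inverted ρ ?_ ?_
      · rw [← map_inv (jZ Z hK)]
        change torG Z hK (-1) * uu Z 0 0 b.toAdd * (torG Z hK (-1))⁻¹ = uu Z 0 0 (-b.toAdd)
        rw [torG_uu Z hK, mul_zero, mul_zero, hvv, neg_one_mul]
      · rw [← map_pow (jZ Z hK), show b ^ 3 = 1 from Multiplicative.toAdd.injective (by
          simp [toAdd_pow, nsmul_eq_mul, h3]), map_one]
    have h1 := sum_char_mul_eq_zero ρ (jZ Z hK) (torG Z hK (-1)) havg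
    rw [sum_congr rfl fun b _ => hconj b, sum_const, card_univ, nsmul_eq_mul, mul_eq_zero] at h1
    exact h1.resolve_left (Nat.cast_ne_zero.2 Fintype.card_ne_zero)
  haveI : Fintype ↥(eightHom Z hK).range := Fintype.ofFinite _
  obtain ⟨d, hd⟩ : ∃ d : ℕ, Cfsg.classInner (fun e : ↥(eightHom Z hK).range => ρ.character e) 1 = d :=
    CharCore.IsCharacter.exists_classInner_eq_natCast
      (CharCore.isCharacter_restrict ⟨k, ρ, rfl⟩ _) CharCore.isCharacter_one
  obtain ⟨S, hS⟩ := exists_sylow_two Z hK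
  have hsq := (sylow_two_G1 Z hK S).2
  have hall : ∀ x : ↥G₁, x * x = 1 → x ≠ 1 → ρ.character x = 0 := fun x hx hx1 => by
    obtain ⟨c, rfl⟩ := exists_conj_aG Z hK hm hx hx1
    rw [Representation.char_conj]
    exact hinv
  rw [CharCore.classInner_def, inv_mul_eq_iff_eq_mul₀ (Nat.cast_ne_zero.2 Nat.card_pos.ne'),
    card_eight Z hK, sum_eq_single (1 : ↥(eightHom Z hK).range)] at hd
  · simp only [Pi.one_apply, map_one, mul_one, OneMemClass.coe_one, Representation.char_one,
      hfin] at hd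
    have hd' : k = 8 * d := by exact_mod_cast hd
    have hq8 : q % 8 = 3 := by
      rw [hq, pow_succ, pow_mul, Nat.mul_mod, Nat.pow_mod]; simp
    rw [hkq] at hd'
    have h6 : ((q - 1) * q) % 8 = 6 := by
      rw [Nat.mul_mod, hq8, show (q - 1) % 8 = 2 by omega]
    omega
  · intro e _ he
    rw [hall e (hsq e (by show (e : ↥G₁) ∈ (S : Subgroup ↥G₁); rw [hS]; exact e.2))
      (fun h => he (Subtype.ext h)), zero_mul]
  · simp

end Cfsg.Agent.Twisted.TypeG2.MinDegree
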