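import Cfsg.Agent.KnownSimple58.ReeDeg
import Cfsg.Agent.Lib.Ree.Borel
import Cfsg.Agent.Lib.Ree.TorusH

/-!
# The small Ree groups are generated by two elements
-/

set_option autoImplicit false

namespace Cfsg.Agent.Twisted.TypeG2.TwoGen

open ChevGroup ChevIsogeny Cfsg.Lie MinDegree

variable {F : Type*} [Field F] [Fintype F] {m : ℕ} {K : Rels chevG2 F}

variable (Z : Frame (T := MT) K PP (3 ^ m) fd) (hK : Fintype.card F = 3 ^ (2 * m + 1))

set_option quotPrecheck false in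
local notation "G₁" => genG MT K (g2Words F (3 ^ m))

include Z hK

theorem uu_mul (t u v t' u' v' : F) :
    uu Z t u v * uu Z t' u' v' = uu Z (t + t') (u + u' - t' ^ (3 * 3 ^ m) * t)
      (v + v' - t' ^ (3 * 3 ^ m) * t ^ 2 - (u - t' ^ (3 * 3 ^ m) * t) * t') := by
  have hx : ∀ t u v : F, wordU K m t u v ∈ (gens Z hK).data.U1 :=
    fun t u v => (mem_U1_iff Z hK).2 ⟨t, u, v, rfl⟩
  obtain ⟨T, U, V, h⟩ := (mem_U1_iff Z hK).1 (mul_mem (hx t u v) (hx t' u' v'))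
  apply Subtype.ext
  change wordU K m t u v * wordU K m t' u' v' = wordU K m _ _ _
  rw [h]
  have e := h
  rw [wordU, wordU, wordU, form_mul_eq Z hK] at e
  obtain ⟨-, h1, -, -, h2, h3⟩ := form_inj Z e
  have e3 : (t' ^ 3 ^ m) ^ 3 = t' ^ (3 * 3 ^ m) := by rw [← pow_mul, mul_comm]
  rw [← h1, ← h2, ← h3, e3]

theorem exists_inv (t a b : F) : ∃ u v, (uu Z t a b)⁻¹ = uu Z (-t) u v := by
  obtain ⟨s, u, v, h⟩ := (mem_U1_iff Z hK).1
    (inv_mem ((mem_U1_iff Z hK).2 ⟨t, a, b, rfl⟩ : wordU K m t a b ∈ (gens Z hK).data.U1))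
  have h' : (uu Z t a b)⁻¹ = uu Z s u v := Subtype.ext h
  have e := inv_mul_cancel (uu Z t a b)
  rw [h', uu_mul Z hK] at e
  have h0 := ((wordU_eq_one_iff Z hK).1 (congrArg Subtype.val e)).1
  rw [show -t = s by linear_combination -h0]
  exact ⟨u, v, h'⟩

/-- A subgroup containing the torus and the displayed unipotent elements is the whole group. -/
theorem eq_top_of_mem (H : Subgroup ↥G₁) (hT : ∀ z, torG Z hK z ∈ H) (hU : ∀ t u v, uu Z t u v ∈ H)
    (hn : nG Z hK ∈ H) : H = ⊤ := by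
  have hU1 : ∀ g : ↥G₁, (g : ↥(chevG2.group F)) ∈ (gens Z hK).data.U1 → g ∈ H := by
    intro g hg
    obtain ⟨t, u, v, e⟩ := (mem_U1_iff Z hK).1 hg
    rw [show g = uu Z t u v from Subtype.ext e]
    exact hU t u v
  have hB : ∀ g : ↥G₁, (g : ↥(chevG2.group F)) ∈ (gens Z hK).data.B1 → g ∈ H := by
    intro g hg
    obtain ⟨u, hu, z, rfl⟩ := exists_coord Z hK (Subgroup.mem_subgroupOf.2 hg)
    exact mul_mem (hU1 u (Subgroup.mem_subgroupOf.1 hu)) (hT z)
  rw [eq_top_iff]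
  intro g _
  rcases mem_B1_or_bigCell Z hK g.2 with h | ⟨b, hb, u, hu, e⟩
  · exact hB g h
  · have hbG : b ∈ G₁ := (Subgroup.mem_inf.1 hb).1
    have huG : u ∈ G₁ := (Subgroup.mem_inf.1 hu).1
    rw [show g = (⟨b, hbG⟩ : ↥G₁) * nG Z hK * ⟨u, huG⟩ from Subtype.ext (by
      rw [e]; simp [nG_val Z hK])]
    exact mul_mem (mul_mem (hB ⟨b, hbG⟩ hb) hn) (hU1 ⟨u, huG⟩ hu)

theorem exists_two_gen (hm : 1 ≤ m) : ∃ a b : ↥G₁, Subgroup.closure ({a, b} : Set ↥G₁) = ⊤ := by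
  classical
  obtain ⟨z, hz⟩ := IsCyclic.exists_generator (α := Fˣ)
  set h := torG Z hK z with hh
  set x := uu Z 1 0 0 with hx
  set H := Subgroup.closure ({h, x * nG Z hK} : Set ↥G₁) with hH
  refine ⟨h, x * nG Z hK, ?_⟩
  have hh' : h ∈ H := Subgroup.subset_closure (by simp)
  have hb : x * nG Z hK ∈ H := Subgroup.subset_closure (by simp)
  have hT : ∀ w, torG Z hK w ∈ H := by
    intro w
    obtain ⟨k, rfl⟩ := Subgroup.mem_zpowers_iff.1 (hz w)
    rw [map_zpow]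
    exact zpow_mem hh' k
  have hz1 : z ≠ 1 := by
    intro e
    have := hz (-1)
    rw [e, Subgroup.zpowers_one_eq_bot, Subgroup.mem_bot] at this
    have h3 : (3 : F) = 0 := (pow_facts hK).1
    have h1 : ((-1 : Fˣ) : F) = 1 := by rw [this]; rfl
    rw [Units.val_neg, Units.val_one] at h1
    exact one_ne_zero (show (1 : F) = 0 by linear_combination h3 + h1)
  -- first coordinates
  let T : Set F := {t | ∃ u v, uu Z t u v ∈ H}
  have hT0 : (0 : F) ∈ T := ⟨0, 0, by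
    rw [show uu Z (0 : F) 0 0 = 1 from Subtype.ext (wordU_zero Z hK)]; exact one_mem _⟩
  have hl : ((lam Z z : F)) - 1 ∈ T := by
    have h1 : h * ((x * nG Z hK) * h * (x * nG Z hK)⁻¹) ∈ H :=
      mul_mem hh' (mul_mem (mul_mem hb hh') (inv_mem hb))
    have e : h * ((x * nG Z hK) * h * (x * nG Z hK)⁻¹) = h * x * h⁻¹ * x⁻¹ := by
      have hn : nG Z hK * h * (nG Z hK)⁻¹ = h⁻¹ := by
        rw [hh, nG_mul_torG, mul_inv_cancel_right, map_inv]
      calc _ = h * (x * (nG Z hK * h * (nG Z hK)⁻¹) * x⁻¹) := by group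
        _ = _ := by rw [hn]; group
    obtain ⟨u, v, hi⟩ := exists_inv Z hK (1 : F) 0 0
    rw [← hx] at hi
    rw [e, hi, hx, hh, torG_uu Z hK, uu_mul Z hK] at h1
    exact ⟨_, _, by rwa [mul_one, ← sub_eq_add_neg] at h1⟩
  have hTadd : ∀ {s t}, s ∈ T → t ∈ T → s + t ∈ T := by
    rintro s t ⟨u, v, hs⟩ ⟨u', v', ht⟩
    exact ⟨_, _, uu_mul Z hK s u v t u' v' ▸ mul_mem hs ht⟩
  have hTl : ∀ (w : Fˣ) {t}, t ∈ T → (lam Z w : F) * t ∈ T := by
    rintro w t ⟨u, v, ht⟩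
    exact ⟨_, _, torG_uu Z hK w t u v ▸ mul_mem (mul_mem (hT w) ht) (inv_mem (hT w))⟩
  have hTall : ∀ t, t ∈ T := by
    intro t
    by_cases ht : t = 0
    · exact ht ▸ hT0
    have hne : (lam Z z : F) - 1 ≠ 0 := fun e => hz1 ((lam_eq_one_iff Z hK).1 (Units.ext (sub_eq_zero.1 e)))
    obtain ⟨w, hw⟩ := Finite.injective_iff_surjective.1 (lam_inj Z hK)
      (Units.mk0 (t / ((lam Z z : F) - 1)) (div_ne_zero ht hne))
    have := hTl w hl
    rwa [hw, Units.val_mk0, div_mul_cancel₀ _ hne] at this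
  -- second coordinates
  let A : Set F := {a | ∃ v, uu Z 0 a v ∈ H}
  have hAcomm : ∀ s t : F, t ^ (3 * 3 ^ m) * s - s ^ (3 * 3 ^ m) * t ∈ A := by
    intro s t
    obtain ⟨u, v, hx'⟩ := hTall t
    obtain ⟨u', v', hy'⟩ := hTall s
    have hc : uu Z t u v * uu Z s u' v' * (uu Z t u v)⁻¹ * (uu Z s u' v')⁻¹ ∈ H :=
      mul_mem (mul_mem (mul_mem hx' hy') (inv_mem hx')) (inv_mem hy')
    obtain ⟨V, hV⟩ : ∃ V, uu Z t u v * uu Z s u' v' =
        uu Z 0 (t ^ (3 * 3 ^ m) * s - s ^ (3 * 3 ^ m) * t) V * (uu Z s u' v' * uu Z t u v) := by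
      refine ⟨(v + v' - s ^ (3 * 3 ^ m) * t ^ 2 - (u - s ^ (3 * 3 ^ m) * t) * s) -
        (v' + v - t ^ (3 * 3 ^ m) * s ^ 2 - (u' - t ^ (3 * 3 ^ m) * s) * t) +
        (t ^ (3 * 3 ^ m) * s - s ^ (3 * 3 ^ m) * t) * (s + t), ?_⟩
      rw [uu_mul Z hK, uu_mul Z hK, uu_mul Z hK]
      congr 1 <;> ring
    refine ⟨V, ?_⟩
    rw [hV] at hc
    have e : uu Z 0 (t ^ (3 * 3 ^ m) * s - s ^ (3 * 3 ^ m) * t) V * (uu Z s u' v' * uu Z t u v) *
        (uu Z t u v)⁻¹ * (uu Z s u' v')⁻¹ = uu Z 0 (t ^ (3 * 3 ^ m) * s - s ^ (3 * 3 ^ m) * t) V := by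
      group
    rwa [e] at hc
  have hAadd : ∀ {a b}, a ∈ A → b ∈ A → a + b ∈ A := by
    rintro a b ⟨v, ha⟩ ⟨v', hb⟩
    exact ⟨_, uu_add Z hK a v b v' ▸ mul_mem ha hb⟩
  have hAneg : ∀ {a}, a ∈ A → -a ∈ A := fun {a} ha => by
    have h3 : (3 : F) = 0 := (pow_facts hK).1
    rw [show -a = a + a by linear_combination (-a) * h3]
    exact hAadd ha ha
  have hAl : ∀ (w : Fˣ) {a}, a ∈ A → (lam Z w : F) ^ (3 * 3 ^ m + 1) * a ∈ A := by
    rintro w a ⟨v, ha⟩
    refine ⟨(lam Z w : F) ^ (3 * 3 ^ m + 2) * v, ?_⟩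
    have := mul_mem (mul_mem (hT w) ha) (inv_mem (hT w))
    rwa [torG_uu Z hK, mul_zero] at this
  obtain ⟨c, hcA, hc0⟩ : ∃ c ∈ A, c ≠ 0 := by
    obtain ⟨h3, -, hadd, -, -, hper⟩ := pow_facts hK
    by_contra hcon
    push Not at hcon
    have hall : ∀ s : F, s ^ (3 * 3 ^ m) = s := fun s => by
      have := hcon _ (hAcomm s 1)
      rw [one_pow, one_mul, mul_one, sub_eq_zero] at this
      exact this.symm
    have hall' : ∀ s : F, s ^ 3 = s := fun s => by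
      have h1 : s ^ (3 * 3 ^ m * 3 ^ m) = s := hper s
      rw [pow_mul, hall] at h1
      calc s ^ 3 = (s ^ (3 ^ m)) ^ 3 := by rw [h1]
        _ = s ^ (3 * 3 ^ m) := by rw [← pow_mul, mul_comm]
        _ = s := hall s
    have hm0 : Fintype.card F ≤ 3 := by
      have hsub : (Finset.univ : Finset F) ⊆ {0, 1, -1} := fun s _ => by
        have h := hall' s
        have h' : s * ((s - 1) * (s + 1)) = 0 := by linear_combination h
        rcases mul_eq_zero.1 h' with h0 | h0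
        · simp [h0]
        rcases mul_eq_zero.1 h0 with h1 | h1
        · simp [sub_eq_zero.1 h1]
        · simp [eq_neg_of_add_eq_zero_left h1]
      exact (Finset.card_le_card hsub).trans Finset.card_le_three
    rw [hK] at hm0
    have hm' : m = 0 := by
      by_contra hm'
      have : 3 ^ 2 ≤ 3 ^ (2 * m + 1) := Nat.pow_le_pow_right (by norm_num) (by omega)
      omega
    omega
  have hAall : ∀ a, a ∈ A := by
    intro a
    by_cases ha : a = 0
    · subst ha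
      rw [← add_neg_cancel c]
      exact hAadd hcA (hAneg hcA)
    obtain ⟨r, hr⟩ := eq_pow_or_neg Z hK (Units.mk0 (a / c) (div_ne_zero ha hc0))
    obtain ⟨w, hw⟩ := Finite.injective_iff_surjective.1 (lam_inj Z hK) r
    have hmem := hAl w hcA
    rw [hw] at hmem
    rcases hr with hr | hr
    · have e := congrArg Units.val hr
      rw [Units.val_pow_eq_pow_val, Units.val_mk0] at e
      rwa [e, div_mul_cancel₀ _ hc0] at hmem
    · have e := congrArg Units.val hr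
      rw [Units.val_pow_eq_pow_val, Units.val_mul, Units.val_neg, Units.val_one, neg_one_mul, Units.val_mk0] at e
      rw [e, neg_mul, div_mul_cancel₀ _ hc0] at hmem
      simpa using hAneg hmem
  -- third coordinates
  have hZ : ∀ v, uu Z (0 : F) 0 v ∈ H := by
    intro v
    obtain ⟨p, r, hx'⟩ := hTall 1
    obtain ⟨b, hy'⟩ := hAall v
    have hc : uu Z 1 p r * uu Z 0 v b * (uu Z 1 p r)⁻¹ * (uu Z 0 v b)⁻¹ ∈ H :=
      mul_mem (mul_mem (mul_mem hx' hy') (inv_mem hx')) (inv_mem hy')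
    have hz0 : (0 : F) ^ (3 * 3 ^ m) = 0 := zero_pow (by positivity)
    have hV : uu Z 1 p r * uu Z 0 v b = uu Z 0 0 v * (uu Z 0 v b * uu Z 1 p r) := by
      rw [uu_mul Z hK, uu_mul Z hK, uu_mul Z hK, hz0]
      congr 1 <;> ring
    rw [hV] at hc
    have e : uu Z 0 0 v * (uu Z 0 v b * uu Z 1 p r) * (uu Z 1 p r)⁻¹ * (uu Z 0 v b)⁻¹ =
        uu Z (0 : F) 0 v := by group
    rwa [e] at hc
  have hU : ∀ t u v, uu Z t u v ∈ H := by
    intro t u v
    obtain ⟨p, r, hx'⟩ := hTall t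
    obtain ⟨b, hy'⟩ := hAall (u - p)
    have h2 := mul_mem (hZ (v - (b + r - (u - p) * t))) (mul_mem hy' hx')
    rw [uu_mul Z hK, uu_mul Z hK] at h2
    convert h2 using 2 <;> ring
  refine eq_top_of_mem Z hK _ hT hU ?_
  have := mul_mem (inv_mem (hU 1 0 0)) hb
  rwa [hx, inv_mul_cancel_left] at this

end Cfsg.Agent.Twisted.TypeG2.TwoGen
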