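import Mathlib
import Cfsg.Agent.Lib.Symplectic.Simple
import Cfsg.Agent.KnownSimple58.SemisimpleAlgebra

/-!
Elements of symplectic groups over fields of odd order: an element centralises an involution other than `-1`, or
is unipotent up to sign, or has semisimple part of order dividing `q^d ± 1` with `d` dividing the rank.
-/

set_option autoImplicit false

namespace Cfsg.Agent.KS58.SpDi

open Cfsg.Agent.Symplectic Matrix Polynomial

variable {F : Type*} [Field F] {n : ℕ}

local notation "Mat" => Matrix (Fin n ⊕ Fin n) (Fin n ⊕ Fin n) F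

/-- The adjoint with respect to the symplectic form. -/
def adj (X : Mat) : Mat := (-Matrix.J (Fin n) F) * Xᵀ * Matrix.J (Fin n) F

theorem adj_one : adj (1 : Mat) = 1 := by
  simp [adj, Matrix.J_squared]

theorem adj_mul (X Y : Mat) : adj (X * Y) = adj Y * adj X := by
  have h : Matrix.J (Fin n) F * (-Matrix.J (Fin n) F) = 1 := by rw [mul_neg, Matrix.J_squared, neg_neg]
  simp only [adj, Matrix.transpose_mul]
  calc (-Matrix.J (Fin n) F) * (Yᵀ * Xᵀ) * Matrix.J (Fin n) F
      = (-Matrix.J (Fin n) F) * Yᵀ * (Matrix.J (Fin n) F * (-Matrix.J (Fin n) F)) * Xᵀ * Matrix.J (Fin n) F := by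
        rw [h, mul_one]; noncomm_ring
    _ = _ := by noncomm_ring

theorem adj_add (X Y : Mat) : adj (X + Y) = adj X + adj Y := by
  simp [adj, Matrix.transpose_add, mul_add, add_mul]

theorem adj_sub (X Y : Mat) : adj (X - Y) = adj X - adj Y := by
  simp only [adj, Matrix.transpose_sub, mul_sub, sub_mul]

theorem adj_zero : adj (0 : Mat) = 0 := by simp [adj]

theorem adj_smul (c : F) (X : Mat) : adj (c • X) = c • adj X := by
  simp [adj, Matrix.transpose_smul]

theorem adj_adj (X : Mat) : adj (adj X) = X := by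
  simp only [adj, Matrix.transpose_mul, Matrix.transpose_transpose, Matrix.transpose_neg, Matrix.J_transpose, neg_neg]
  calc -Matrix.J (Fin n) F * (-Matrix.J (Fin n) F * (X * Matrix.J (Fin n) F)) * Matrix.J (Fin n) F
      = (Matrix.J (Fin n) F * Matrix.J (Fin n) F) * X * (Matrix.J (Fin n) F * Matrix.J (Fin n) F) := by noncomm_ring
    _ = X := by rw [Matrix.J_squared]; noncomm_ring

theorem adj_pow (X : Mat) (j : ℕ) : adj (X ^ j) = adj X ^ j := by
  induction j with
  | zero => simp [adj_one]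
  | succ j ih => rw [pow_succ, adj_mul, ih, pow_succ']

theorem adj_aeval (X : Mat) (P : F[X]) : adj (aeval X P) = aeval (adj X) P := by
  induction P using Polynomial.induction_on' with
  | add P R hP hR => rw [map_add, map_add, adj_add, hP, hR]
  | monomial j c => rw [aeval_monomial, aeval_monomial, ← Algebra.smul_def, ← Algebra.smul_def, adj_smul, adj_pow]

theorem adj_sp (g : Sp n F) : adj (g : Mat) = ((g⁻¹ : Sp n F) : Mat) := rfl

theorem mem_of_adj_eq_inv {u : Mat} (h : adj u = u) (h2 : u * u = 1) : u ∈ Matrix.symplecticGroup (Fin n) F := by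
  rw [SymplecticGroup.mem_iff]
  have h4 : (-Matrix.J (Fin n) F) * uᵀ * Matrix.J (Fin n) F = u := h
  have h5 : uᵀ * uᵀ = 1 := by rw [← Matrix.transpose_mul, h2, Matrix.transpose_one]
  conv_lhs => arg 1; arg 1; rw [← h4]
  calc (-Matrix.J (Fin n) F) * uᵀ * Matrix.J (Fin n) F * Matrix.J (Fin n) F * uᵀ
      = (-Matrix.J (Fin n) F) * uᵀ * (Matrix.J (Fin n) F * Matrix.J (Fin n) F) * uᵀ := by noncomm_ring
    _ = Matrix.J (Fin n) F * (uᵀ * uᵀ) := by rw [Matrix.J_squared]; noncomm_ring
    _ = Matrix.J (Fin n) F := by rw [h5, mul_one]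

theorem coe_pow' (g : Sp n F) (j : ℕ) : ((g ^ j : Sp n F) : Mat) = (g : Mat) ^ j := SubmonoidClass.coe_pow _ _

theorem eq_one_iff (g : Sp n F) : g = 1 ↔ (g : Mat) = 1 := by
  rw [← Subtype.coe_inj]; rfl

theorem finrank_range_of_adj {e : Mat} (he : e * e = e) (ha : adj e = 1 - e) :
    Module.finrank F (LinearMap.range (Matrix.toLinAlgEquiv' e)) = n := by
  have hr : (1 - e).rank = e.rank := by
    have hu : IsUnit (Matrix.J (Fin n) F).det := Matrix.isUnit_det_J (Fin n) F
    have hu' : IsUnit (-Matrix.J (Fin n) F).det := by rw [Matrix.det_neg]; exact ((isUnit_one.neg).pow _).mul hu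
    rw [← ha, adj, Matrix.rank_mul_eq_left_of_isUnit_det _ _ hu, Matrix.rank_mul_eq_right_of_isUnit_det _ _ hu',
      Matrix.rank_transpose]
  have hk : LinearMap.ker (Matrix.toLinAlgEquiv' e) = LinearMap.range (Matrix.toLinAlgEquiv' (1 - e)) := by
    ext x
    simp only [LinearMap.mem_ker, LinearMap.mem_range, map_sub, map_one, LinearMap.sub_apply, Module.End.one_apply]
    constructor
    · intro hx; exact ⟨x, by rw [hx, sub_zero]⟩
    · rintro ⟨y, rfl⟩
      rw [map_sub, ← Module.End.mul_apply, ← map_mul, he, sub_self]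
  have h := (Matrix.toLinAlgEquiv' e).finrank_range_add_finrank_ker
  rw [hk, Module.finrank_fintype_fun_eq_card, Fintype.card_sum, Fintype.card_fin] at h
  have h1 : Module.finrank F (LinearMap.range (Matrix.toLinAlgEquiv' e)) = e.rank := rfl
  have h2 : Module.finrank F (LinearMap.range (Matrix.toLinAlgEquiv' (1 - e))) = (1 - e).rank := rfl
  omega

variable [Fintype F] {p : ℕ} [Fact p.Prime] [CharP F p]

theorem pow_eq_one_of_sub_pow {h : Sp n F} {k : ℕ} (hk : ((h : Mat) - 1) ^ k = 0) (hn : 0 < n) {e : ℕ}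
    (he : k ≤ p ^ e) : h ^ p ^ e = 1 := by
  haveI : Nonempty (Fin n ⊕ Fin n) := ⟨Sum.inl ⟨0, hn⟩⟩
  have h0 : ((h : Mat) - 1) ^ p ^ e = 0 := by
    rw [← Nat.add_sub_cancel' he, pow_add, hk, zero_mul]
  rw [sub_pow_char_pow_of_commute _ _ (Commute.one_right _), one_pow, sub_eq_zero] at h0
  rw [eq_one_iff, coe_pow', h0]

theorem dvd_facts {G : Type*} [Group G] (g : G) {p : ℕ} (hp : p.Prime) {t M N e : ℕ} (ho : orderOf g = p ^ t * M)
    (h1 : g ^ (p ^ t * N) = 1) (h2 : g ^ (M * p ^ e) = 1) : g ^ (N * p ^ e) = 1 := by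
  have hMN : M ∣ N := by
    have := orderOf_dvd_of_pow_eq_one h1
    rw [ho] at this
    exact Nat.dvd_of_mul_dvd_mul_left (pow_pos hp.pos t) this
  obtain ⟨c, rfl⟩ := hMN
  rw [show M * c * p ^ e = M * p ^ e * c by ring, pow_mul, h2, one_pow]

theorem dichotomy (h2 : (2 : F) ≠ 0) (hn : 0 < n) (g : Sp n F) :
    (∃ u : Sp n F, Commute g u ∧ u * u = 1 ∧ u ≠ 1 ∧ u ≠ negOne) ∨
    g ^ (2 * p ^ Nat.clog p (2 * n)) = 1 ∨
    ∃ d k, 1 ≤ d ∧ d * k = n ∧ (g ^ ((Fintype.card F ^ d + 1) * p ^ Nat.clog p k) = 1 ∨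
      g ^ ((Fintype.card F ^ d - 1) * p ^ Nat.clog p k) = 1) := by
  classical
  have hp : p.Prime := Fact.out
  haveI : Nonempty (Fin n ⊕ Fin n) := ⟨Sum.inl ⟨0, hn⟩⟩
  obtain ⟨t, M, hpM, ho⟩ := Nat.exists_eq_pow_mul_and_not_dvd (orderOf_pos g).ne' p hp.ne_one
  have hM0 : 0 < M := Nat.pos_of_ne_zero (by rintro rfl; exact hpM (dvd_zero _))
  set S : Mat := ((g ^ p ^ t : Sp n F) : Mat) with hS
  have hSM : S ^ M = 1 := by
    rw [hS, ← coe_pow', ← eq_one_iff, ← pow_mul, ← ho, pow_orderOf_eq_one]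
  have hcop : (Fintype.card F).Coprime M := by
    obtain ⟨f, hf⟩ := FiniteField.card F p
    rw [hf.2]
    exact Nat.Coprime.pow_left _ (hp.coprime_iff_not_dvd.mpr hpM)
  obtain ⟨Q, hQ, hfix⟩ := Semi.exists_pow_fixed (F := F) hM0 hSM hcop
  set A := Algebra.adjoin F {S} with hA
  have hSA : S ∈ A := Algebra.self_mem_adjoin_singleton F S
  have hrep : ∀ x ∈ A, ∃ P : F[X], aeval S P = x := fun x hx => by
    rw [hA, Algebra.adjoin_singleton_eq_range_aeval] at hx; exact hx
  have hcomm : ∀ x ∈ A, ∀ y : Mat, Commute S y → Commute x y := by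
    intro x hx y hy
    obtain ⟨P, rfl⟩ := hrep x hx
    induction P using Polynomial.induction_on' with
    | add P R hP hR =>
      rw [map_add]
      exact (hP (aeval_mem_adjoin_singleton F S)).add_left (hR (aeval_mem_adjoin_singleton F S))
    | monomial j c => rw [aeval_monomial]; exact ((Algebra.commute_algebraMap_left c y).mul_left (hy.pow_left j))
  have hAA : ∀ x ∈ A, ∀ y ∈ A, Commute x y := fun x hx y hy =>
    hcomm x hx y ((hcomm y hy S (Commute.refl S)).symm)
  have hgS : Commute (g : Mat) S := by rw [hS, coe_pow']; exact (Commute.refl _).pow_right _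
  have hadjA : ∀ x ∈ A, adj x ∈ A := by
    intro x hx
    obtain ⟨P, rfl⟩ := hrep x hx
    have : adj S = S ^ (M - 1) := by
      rw [hS, adj_sp, ← coe_pow']
      congr 1
      rw [inv_eq_of_mul_eq_one_right]
      rw [← pow_succ', Nat.sub_add_cancel hM0, ← pow_mul, ← ho, pow_orderOf_eq_one]
    rw [adj_aeval, this, ← aeval_X_pow (R := F) S, ← aeval_comp]
    exact aeval_mem_adjoin_singleton F S
  have hidem : ∀ x ∈ A, x ^ (Q - 1) * x ^ (Q - 1) = x ^ (Q - 1) := by
    intro x hx
    rw [← pow_add, show Q - 1 + (Q - 1) = Q + (Q - 2) by omega, pow_add, hfix x hx, ← pow_succ',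
      show Q - 2 + 1 = Q - 1 by omega]
  by_cases h1 : ∃ e ∈ A, e * e = e ∧ adj e = e ∧ e ≠ 0 ∧ e ≠ 1
  · left
    obtain ⟨e, heA, he, hae, he0, he1⟩ := h1
    set u : Mat := (2 : F) • e - 1 with hu
    have hu2 : u * u = 1 := by
      rw [hu, sub_mul, mul_sub, mul_sub, one_mul, mul_one, one_mul, smul_mul_smul_comm, he]
      have h22 : ((2 : F) * 2) • e = (2 : F) • e + (2 : F) • e := by rw [← add_smul]; norm_num
      rw [h22]; abel
    have hau : adj u = u := by rw [hu, adj_sub, adj_smul, hae, adj_one]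
    refine ⟨⟨u, mem_of_adj_eq_inv hau hu2⟩, Subtype.ext ?_, Subtype.ext hu2, fun h => he1 ?_, fun h => he0 ?_⟩
    · show Commute (g : Mat) u
      exact ((hcomm e heA _ hgS.symm).symm.smul_right (2 : F)).sub_right (Commute.one_right _)
    · have h' : u = 1 := congrArg Subtype.val h
      rw [hu, sub_eq_iff_eq_add, ← two_smul F (1 : Mat)] at h'
      exact smul_right_injective _ h2 h'
    · have h' : u = -1 := congrArg Subtype.val h
      rw [hu, sub_eq_iff_eq_add, neg_add_cancel] at h'
      exact (smul_eq_zero.mp h').resolve_left h2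
  push Not at h1
  right
  set u : Sp n F := g ^ M with hudef
  have hunil : IsNilpotent ((u : Mat) - 1) := by
    refine ⟨p ^ t, ?_⟩
    rw [sub_pow_char_pow_of_commute _ _ (Commute.one_right _), one_pow, ← coe_pow', hudef, ← pow_mul, mul_comm M, ← ho,
      pow_orderOf_eq_one, OneMemClass.coe_one, sub_self]
  have hucomm : ∀ x ∈ A, Commute x ((u : Mat) - 1) := by
    intro x hx
    refine (hcomm x hx _ ?_).sub_right (Commute.one_right _)
    rw [hudef, coe_pow']
    exact hgS.symm.pow_right M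
  by_cases h3 : ∃ e ∈ A, e * e = e ∧ e ≠ 0 ∧ e ≠ 1
  · right
    obtain ⟨e, heA, he, he0, he1⟩ := h3
    have hswap : ∀ f ∈ A, f * f = f → f ≠ 0 → f ≠ 1 → adj f = 1 - f := by
      intro f hf hff hf0 hf1
      have hfa : adj f * adj f = adj f := by rw [← adj_mul, hff]
      have hc := hAA f hf _ (hadjA f hf)
      have hprod : f * adj f = 0 := by
        rcases eq_or_ne (f * adj f) 0 with h | h
        · exact h
        exfalso
        have hs : adj (f * adj f) = f * adj f := by rw [adj_mul, adj_adj]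
        have hi : f * adj f * (f * adj f) = f * adj f := by
          rw [mul_assoc, ← mul_assoc (adj f), ← hc.eq, ← mul_assoc, ← mul_assoc, hff, mul_assoc, hfa]
        have h' := h1 _ (A.mul_mem hf (hadjA f hf)) hi hs h
        apply hf1
        calc f = f * (f * adj f) := by rw [h', mul_one]
          _ = 1 := by rw [← mul_assoc, hff, h']
      have hs : adj (f + adj f) = f + adj f := by rw [adj_add, adj_adj, add_comm]
      have hi : (f + adj f) * (f + adj f) = f + adj f := by
        rw [add_mul, mul_add, mul_add, hff, hfa, ← hc.eq, hprod, add_zero, zero_add]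
      have hne : f + adj f ≠ 0 := by
        intro h
        apply hf0
        calc f = f * (f + adj f) := by rw [mul_add, hff, hprod, add_zero]
          _ = 0 := by rw [h, mul_zero]
      exact eq_sub_of_add_eq' (h1 _ (A.add_mem hf (hadjA f hf)) hi hs hne)
    have hea := hswap e heA he he0 he1
    have hcases : ∀ f ∈ A, f * f = f → e * f = f → f = 0 ∨ f = e := by
      intro f hf hff hef
      by_cases hf0 : f = 0
      · exact Or.inl hf0
      right
      have hf1 : f ≠ 1 := by rintro rfl; rw [mul_one] at hef; exact he1 hef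
      have h5 := congrArg adj hef
      rw [adj_mul, hswap f hf hff hf0 hf1, hea, sub_mul, one_mul, mul_sub, mul_one] at h5
      have hfe : f * e = f := by rw [← (hAA e heA f hf).eq, hef]
      rw [hfe] at h5
      have : (1 : Mat) - e - (f - f) = 1 - f := h5
      rw [sub_self, sub_zero] at this
      exact (sub_right_inj.mp this).symm
    set L := Matrix.toLinAlgEquiv' (R := F) (n := Fin n ⊕ Fin n) with hL
    set W := LinearMap.range (L e) with hW
    have hinv : ∀ x : Mat, Commute x e → ∀ v ∈ W, L x v ∈ W := by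
      rintro x hx _ ⟨v, rfl⟩
      exact ⟨L x v, by rw [← Module.End.mul_apply, ← map_mul, ← hx.eq, map_mul]; rfl⟩
    have hWe : ∀ w : W, L e (w : Fin n ⊕ Fin n → F) = w := by
      rintro ⟨_, v, rfl⟩
      show L e (L e v) = L e v
      rw [← Module.End.mul_apply, ← map_mul, he]
    let Φ : A →ₐ[F] Module.End F W :=
      { toFun := fun x => (L x.1).restrict (hinv x.1 (hAA x.1 x.2 e heA))
        map_one' := LinearMap.ext fun w => Subtype.ext (by
          show L ((1 : A) : Mat) w.1 = w.1
          rw [OneMemClass.coe_one, map_one]; rfl)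
        map_mul' := fun x y => LinearMap.ext fun w => Subtype.ext (by
          show L ((x * y : A) : Mat) w.1 = L x.1 (L y.1 w.1)
          rw [MulMemClass.coe_mul, map_mul]; rfl)
        map_zero' := LinearMap.ext fun w => Subtype.ext (by
          show L ((0 : A) : Mat) w.1 = 0
          rw [ZeroMemClass.coe_zero, map_zero]; rfl)
        map_add' := fun x y => LinearMap.ext fun w => Subtype.ext (by
          show L ((x + y : A) : Mat) w.1 = L x.1 w.1 + L y.1 w.1
          rw [AddMemClass.coe_add, map_add]; rfl)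
        commutes' := fun c => LinearMap.ext fun w => Subtype.ext (by
          show L ((algebraMap F A c : A) : Mat) w.1 = c • w.1
          rw [Subalgebra.coe_algebraMap, AlgEquiv.commutes]; rfl) }
    have hΦ0 : ∀ x : A, Φ x = 0 ↔ x.1 * e = 0 := by
      intro x
      constructor
      · intro h
        apply L.injective
        rw [map_mul, map_zero]
        exact LinearMap.ext fun v => congrArg Subtype.val (LinearMap.congr_fun h ⟨L e v, v, rfl⟩)
      · intro h
        refine LinearMap.ext fun w => Subtype.ext ?_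
        show L x.1 w.1 = 0
        rw [← hWe w, ← Module.End.mul_apply, ← map_mul, h, map_zero]; rfl
    have hne : Nontrivial (Module.End F W) := ⟨⟨1, 0, fun h => he0 (by
      have := (hΦ0 1).mp (by rw [map_one]; exact h)
      rwa [OneMemClass.coe_one, one_mul] at this)⟩⟩
    have hpow1 : ∀ y ∈ Φ.range, y ≠ 0 → y ^ (Q - 1) = 1 := by
      rintro _ ⟨x, rfl⟩ hx
      change Φ x ≠ 0 at hx
      show Φ x ^ (Q - 1) = 1
      set f := x.1 ^ (Q - 1) with hf
      have hfA : f ∈ A := A.pow_mem x.2 _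
      have hce := hAA f hfA e heA
      have hi : (e * f) * (e * f) = e * f := by
        rw [mul_assoc, ← mul_assoc f, hce.eq, mul_assoc, hidem x.1 x.2, ← mul_assoc, he]
      rcases hcases (e * f) (A.mul_mem heA hfA) hi (by rw [← mul_assoc, he]) with h | h
      · exfalso
        apply hx
        rw [hΦ0, ← hfix x.1 x.2, show Q = 1 + (Q - 1) by omega, pow_add, ← hf, mul_assoc, hce.eq, h, mul_zero]
      · have h4 : Φ (x ^ (Q - 1) - 1) = 0 := by
          rw [hΦ0, AddSubgroupClass.coe_sub, SubmonoidClass.coe_pow,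
            OneMemClass.coe_one, ← hf, sub_mul, one_mul, hce.eq, h, sub_self]
        exact sub_eq_zero.mp ((by rw [map_sub, map_pow, map_one] : Φ (x ^ (Q - 1) - 1) = Φ x ^ (Q - 1) - 1).symm.trans h4)
    have hF : IsField Φ.range := by
      refine ⟨exists_pair_ne _, ?_, ?_⟩
      · rintro ⟨_, x, rfl⟩ ⟨_, y, rfl⟩
        apply Subtype.ext
        show Φ x * Φ y = Φ y * Φ x
        rw [← map_mul, ← map_mul]
        exact congrArg Φ (Subtype.ext (hAA x.1 x.2 y.1 y.2).eq)
      · intro a ha
        refine ⟨a ^ (Q - 2), Subtype.ext ?_⟩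
        rw [← pow_succ', show Q - 2 + 1 = Q - 1 by omega, SubmonoidClass.coe_pow]
        exact hpow1 _ a.2 fun h => ha (Subtype.ext h)
    letI : Ring Φ.range := Algebra.semiringToRing F
    obtain ⟨hD, hDn, hnilk, hordk⟩ := Semi.field_action Φ.range hF Φ.range.val
    rw [finrank_range_of_adj he hea] at hDn hnilk
    set D := Module.finrank F Φ.range
    obtain ⟨k, hk⟩ := hDn
    refine ⟨D, k, hD, hk.symm, Or.inr ?_⟩
    have hdiv : n / D = k := by rw [hk, Nat.mul_div_cancel_left _ hD]
    rw [hdiv] at hnilk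
    set U : Mat := (u : Mat) - 1 with hU
    have hUe : Commute U e := (hucomm e heA).symm
    have hUk : U ^ k * e = 0 := by
      have h4 := hnilk ((L U).restrict (hinv U hUe)) ⟨hunil.choose, by
        rw [Module.End.pow_restrict]
        ext w : 2
        simp [← map_pow, hunil.choose_spec]⟩ (by
        rintro ⟨_, x, rfl⟩
        refine LinearMap.ext fun w => Subtype.ext ?_
        show L x.1 (L U w.1) = L U (L x.1 w.1)
        rw [← Module.End.mul_apply, ← map_mul, (hucomm x.1 x.2).eq, map_mul]; rfl)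
      rw [Module.End.pow_restrict] at h4
      apply L.injective
      rw [map_mul, map_pow, map_zero]
      exact LinearMap.ext fun v => congrArg Subtype.val (LinearMap.congr_fun h4 ⟨L e v, v, rfl⟩)
    have hUk' : U ^ k = 0 := by
      have h5 := congrArg adj hUk
      have hui : adj U = -(((u⁻¹ : Sp n F) : Mat) * U) := by
        rw [hU, adj_sub, adj_one, adj_sp, mul_sub, mul_one, ← Submonoid.coe_mul, inv_mul_cancel, OneMemClass.coe_one,
          neg_sub]
      rw [adj_mul, adj_zero, adj_pow, hea, hui] at h5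
      have hcu : Commute ((u⁻¹ : Sp n F) : Mat) U := by
        refine Commute.sub_right ?_ (Commute.one_right _)
        show ((u⁻¹ : Sp n F) : Mat) * (u : Mat) = (u : Mat) * ((u⁻¹ : Sp n F) : Mat)
        rw [← Submonoid.coe_mul, ← Submonoid.coe_mul, inv_mul_cancel, mul_inv_cancel]
      rw [neg_pow, hcu.mul_pow] at h5
      have hu1 : IsUnit ((-1 : Mat) ^ k * ((u⁻¹ : Sp n F) : Mat) ^ k) :=
        ((isUnit_one.neg).pow k).mul (((Group.isUnit (u⁻¹)).map (Matrix.symplecticGroup (Fin n) F).subtype).pow k)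
      have h6 : ((-1 : Mat) ^ k * ((u⁻¹ : Sp n F) : Mat) ^ k) * (U ^ k * (1 - e)) = 0 := by
        have hce : Commute (1 - e) ((-1 : Mat) ^ k * (((u⁻¹ : Sp n F) : Mat) ^ k * U ^ k)) := by
          refine ((Commute.neg_one_right _).pow_right k).mul_right (Commute.mul_right (Commute.pow_right ?_ k) ?_)
          · refine Commute.sub_left (Commute.one_left _) (hcomm e heA _ ?_)
            rw [hudef, ← inv_pow, coe_pow']
            refine (Commute.pow_right ?_ M)
            rw [hS]
            show ((g ^ p ^ t : Sp n F) : Mat) * ((g⁻¹ : Sp n F) : Mat) = ((g⁻¹ : Sp n F) : Mat) * ((g ^ p ^ t : Sp n F) : Mat)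
            rw [← Submonoid.coe_mul, ← Submonoid.coe_mul, ((Commute.refl g).pow_left _ |>.inv_right).eq]
          · exact (Commute.sub_left (Commute.one_left _) (hUe.symm)).pow_right k
        rw [hce.eq] at h5
        rw [← h5]; simp only [mul_assoc]
      rw [hu1.mul_right_eq_zero] at h6
      rwa [mul_sub, mul_one, hUk, sub_zero] at h6
    refine dvd_facts g hp ho ?_ (by rw [pow_mul, ← hudef]; exact pow_eq_one_of_sub_pow hUk' hn (Nat.le_pow_clog hp.one_lt k))
    have hΦS : (⟨Φ ⟨S, hSA⟩, ⟨S, hSA⟩, rfl⟩ : Φ.range) ≠ 0 := by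
      intro h
      apply he0
      have h7 : S * e = 0 := (hΦ0 _).mp (congrArg Subtype.val h)
      calc e = S ^ M * e := by rw [hSM, one_mul]
        _ = S ^ (M - 1) * (S * e) := by rw [← mul_assoc, ← pow_succ, Nat.sub_add_cancel hM0]
        _ = 0 := by rw [h7, mul_zero]
    set q' := Fintype.card F ^ D - 1 with hq'
    have h8 := congrArg Subtype.val (hordk _ hΦS)
    rw [SubmonoidClass.coe_pow, OneMemClass.coe_one] at h8
    change Φ ⟨S, hSA⟩ ^ q' = 1 at h8
    have h8' : Φ ((⟨S, hSA⟩ : A) ^ q' - 1) = 0 := by rw [map_sub, map_pow, map_one, h8, sub_self]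
    rw [hΦ0, AddSubgroupClass.coe_sub, SubmonoidClass.coe_pow, OneMemClass.coe_one] at h8'
    replace h8 := h8'
    change (S ^ q' - 1) * e = 0 at h8
    rw [pow_mul, eq_one_iff, coe_pow', ← hS]
    have h9 := congrArg adj h8
    rw [adj_mul, adj_zero, adj_sub, adj_one, hea, hS, ← coe_pow', adj_sp] at h9
    set Si := (((g ^ p ^ t) ^ q')⁻¹ : Sp n F)
    have hSi : (Si : Mat) * S ^ q' = 1 := by
      rw [hS, ← coe_pow', ← Submonoid.coe_mul, inv_mul_cancel, OneMemClass.coe_one]
    have h10 : (1 - e) * (S ^ q' - 1) = 0 := by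
      have := congrArg (· * S ^ q') h9
      simp only [zero_mul, mul_assoc, sub_mul _ (1 : Mat), hSi, one_mul] at this
      rw [← neg_sub (1 : Mat) (S ^ q'), mul_neg, this, neg_zero]
    rw [sub_mul, one_mul, (hcomm e heA _ (((Commute.refl S).pow_right q').sub_right (Commute.one_right _))).eq, h8,
      sub_zero, sub_eq_zero] at h10
    exact h10
  push Not at h3
  have hpow1 : ∀ x : A, x ≠ 0 → x ^ (Q - 1) = 1 := by
    intro x hx
    refine Subtype.ext ?_
    rw [SubmonoidClass.coe_pow, OneMemClass.coe_one]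
    refine h3 _ (A.pow_mem x.2 _) (hidem _ x.2) fun h => hx (Subtype.ext ?_)
    rw [← hfix x.1 x.2, show Q = 1 + (Q - 1) by omega, pow_add, h, mul_zero]; rfl
  have hF : IsField A := by
    refine ⟨exists_pair_ne _, fun a b => Subtype.ext (hAA a.1 a.2 b.1 b.2).eq, fun {a} ha => ⟨a ^ (Q - 2), ?_⟩⟩
    rw [← pow_succ', show Q - 2 + 1 = Q - 1 by omega, hpow1 a ha]
  by_cases hST : adj S = S
  · left
    letI : Field A := hF.toField
    have hS2 : (⟨S, hSA⟩ : A) ^ 2 = 1 := by
      refine Subtype.ext ?_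
      rw [SubmonoidClass.coe_pow, OneMemClass.coe_one, sq]
      show S * S = 1
      nth_rw 1 [← hST]
      rw [hS, adj_sp, ← Submonoid.coe_mul, inv_mul_cancel, OneMemClass.coe_one]
    have hg2 : g ^ (2 * p ^ t) = 1 := by
      rw [mul_comm, pow_mul, eq_one_iff, coe_pow', ← hS]
      exact congrArg Subtype.val hS2
    rw [pow_mul] at hg2 ⊢
    have hnil2 : IsNilpotent (((g ^ 2 : Sp n F) : Mat) - 1) := ⟨p ^ t, by
      rw [sub_pow_char_pow_of_commute _ _ (Commute.one_right _), one_pow, ← coe_pow', hg2, OneMemClass.coe_one, sub_self]⟩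
    refine pow_eq_one_of_sub_pow (k := 2 * n) ?_ hn (Nat.le_pow_clog hp.one_lt _)
    have h0 := Matrix.aeval_self_charpoly (((g ^ 2 : Sp n F) : Mat) - 1)
    have hcp := (hnil2.map (Matrix.toLinAlgEquiv' (R := F) (n := Fin n ⊕ Fin n))).charpoly_eq_X_pow_finrank
    rw [show Matrix.toLinAlgEquiv' (R := F) (((g ^ 2 : Sp n F) : Mat) - 1) = Matrix.toLin' (((g ^ 2 : Sp n F) : Mat) - 1) from rfl,
      Matrix.charpoly_toLin', Module.finrank_fintype_fun_eq_card, Fintype.card_sum,
      Fintype.card_fin, ← two_mul] at hcp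
    rwa [hcp, map_pow, aeval_X] at h0
  right
  let σ : A →ₐ[F] A :=
    { toFun := fun x => ⟨adj x.1, hadjA x.1 x.2⟩
      map_one' := Subtype.ext adj_one
      map_mul' := fun x y => Subtype.ext (by
        show adj (x.1 * y.1) = adj x.1 * adj y.1
        rw [adj_mul, (hAA _ (hadjA x.1 x.2) _ (hadjA y.1 y.2)).eq])
      map_zero' := Subtype.ext adj_zero
      map_add' := fun x y => Subtype.ext (adj_add x.1 y.1)
      commutes' := fun c => Subtype.ext (by
        show adj (algebraMap F Mat c) = algebraMap F Mat c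
        rw [Algebra.algebraMap_eq_smul_one, adj_smul, adj_one]) }
  obtain ⟨j, hj, hfrob⟩ := Semi.involution_field hF σ (fun x => Subtype.ext (adj_adj x.1)) ⟨S, hSA⟩
    (fun h => hST (congrArg Subtype.val h))
  obtain ⟨hD, hDn, hnilk, -⟩ := Semi.field_action A hF
    ((Matrix.toLinAlgEquiv' (R := F) (n := Fin n ⊕ Fin n)).toAlgHom.comp A.val)
  rw [hj, Module.finrank_fintype_fun_eq_card, Fintype.card_sum, Fintype.card_fin] at hDn hnilk
  obtain ⟨k, hk⟩ := hDn
  have hjk : j * k = n := by
    have h5 : 2 * (j * k) = n + n := by rw [hk, mul_assoc]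
    omega
  refine ⟨j, k, by omega, hjk, Or.inl ?_⟩
  rw [hk, Nat.mul_div_cancel_left _ (by omega)] at hnilk
  have hUk : ((u : Mat) - 1) ^ k = 0 := by
    apply (Matrix.toLinAlgEquiv' (R := F) (n := Fin n ⊕ Fin n)).injective
    rw [map_zero, map_pow]
    exact hnilk _ (hunil.map (Matrix.toLinAlgEquiv' (R := F) (n := Fin n ⊕ Fin n)))
      fun a => (hucomm a.1 a.2).map (Matrix.toLinAlgEquiv' (R := F) (n := Fin n ⊕ Fin n))
  refine dvd_facts g hp ho ?_ (by rw [pow_mul, ← hudef]; exact pow_eq_one_of_sub_pow hUk hn (Nat.le_pow_clog hp.one_lt k))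
  rw [pow_mul, eq_one_iff, coe_pow', ← hS, pow_succ]
  have h11 : adj S = S ^ Fintype.card F ^ j := congrArg Subtype.val (hfrob ⟨S, hSA⟩)
  rw [← h11, hS, adj_sp, ← Submonoid.coe_mul, inv_mul_cancel, OneMemClass.coe_one]

end Cfsg.Agent.KS58.SpDi
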