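import Cfsg.Agent.BC86.Suz.Degrees
import Cfsg.Agent.BC86.Count
import Cfsg.Agent.BSW7.Data

/-!
# Character values of the Suzuki group on the fixed-point-free tori
-/

set_option autoImplicit false

namespace Cfsg.Agent.KnownSimple58.SzTable

open Finset Cfsg.Agent.Suzuki Cfsg.Agent.BC86.Suz
open scoped ComplexConjugate


variable {F : Type*} [Field F] [Fintype F] {m : ℕ} (hF : Fintype.card F = 2 ^ (2 * m + 1))
  (hm : 1 ≤ m) [Fintype (Cfsg.Sz F m)]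
include hF hm

/-- The characters which are neither known nor one of the two of degree `2 ^ m * (q - 1)`, and
those two. -/
structure Tbl (R : Finset (Cfsg.IrrCharacter (Cfsg.Sz F m)))
    (w₁ w₂ : Cfsg.IrrCharacter (Cfsg.Sz F m)) : Prop where
  card : 2 * R.card = Fintype.card F
  not_mem₁ : w₁ ∉ R
  not_mem₂ : w₂ ∉ R
  ne : w₁ ≠ w₂
  iff : ∀ χ, ¬ IsKnown hF hm χ ↔ χ ∈ R ∨ χ = w₁ ∨ χ = w₂
  data : ∀ χ ∈ R, ∃ Y, Data hF hm χ 1 Y
  data₁ : Data hF hm w₁ 0 (2 ^ m)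
  data₂ : Data hF hm w₂ 0 (2 ^ m)
  conj_w : ∀ g, (w₂ : Cfsg.Sz F m → ℂ) g = conj ((w₁ : Cfsg.Sz F m → ℂ) g)
  sq_w : (w₁ : Cfsg.Sz F m → ℂ) (U hF 1 0) * (w₁ : Cfsg.Sz F m → ℂ) (U hF 1 0) =
    -(2 ^ m : ℂ) ^ 2
  rho : ∀ χ ∈ R, ∀ a b : F, a ≠ 0 → (χ : Cfsg.Sz F m → ℂ) (U hF a b) = -1

/-- The sum over all characters. -/
theorem two_sum_all [Fintype Fˣ] [Fintype (Fˣ →* ℂˣ)] [DecidableEq (Fˣ →* ℂˣ)]
    {R : Finset (Cfsg.IrrCharacter (Cfsg.Sz F m))} {w₁ w₂ : Cfsg.IrrCharacter (Cfsg.Sz F m)}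
    (hne : w₁ ≠ w₂) (h1 : w₁ ∉ R) (h2 : w₂ ∉ R)
    (hiff : ∀ χ, ¬ IsKnown hF hm χ ↔ χ ∈ R ∨ χ = w₁ ∨ χ = w₂)
    (h : (Cfsg.Sz F m → ℂ) → ℂ) :
    2 * ∑ χ : Cfsg.IrrCharacter (Cfsg.Sz F m), h (χ : Cfsg.Sz F m → ℂ) =
      2 * h 1 + 2 * h (indB hF hm 1 - 1) + ∑ f ∈ univ.erase (1 : Fˣ →* ℂˣ), h (indB hF hm f) +
        2 * (∑ χ ∈ R, h (χ : Cfsg.Sz F m → ℂ) + h (w₁ : Cfsg.Sz F m → ℂ) +
          h (w₂ : Cfsg.Sz F m → ℂ)) := by
  classical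
  rw [← sum_filter_add_sum_filter_not univ (IsKnown hF hm), mul_add, sum_known hF hm h]
  congr 1
  have he : univ.filter (fun χ => ¬ IsKnown hF hm χ) = insert w₁ (insert w₂ R) := by
    ext χ
    simp only [mem_filter, mem_univ, true_and, mem_insert, hiff]
    tauto
  rw [he, sum_insert (by simp [hne, h1]), sum_insert h2]
  ring


omit [Fintype (Cfsg.Sz F m)] in
theorem two_pow_facts : 2 ≤ 2 ^ m ∧ Fintype.card F = 2 * (2 ^ m) ^ 2 := by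
  refine ⟨Nat.le_self_pow (by omega) 2, ?_⟩
  rw [hF]; ring

theorem card_hom_erase [Fintype Fˣ] [Fintype (Fˣ →* ℂˣ)] [DecidableEq (Fˣ →* ℂˣ)] :
    (univ.erase (1 : Fˣ →* ℂˣ)).card = Fintype.card F - 2 := by
  rw [card_erase_of_mem (mem_univ _), card_univ, ← Nat.card_eq_fintype_card,
    CommGroup.card_monoidHom_of_hasEnoughRootsOfUnity, Nat.card_units, Nat.card_eq_fintype_card]
  omega

theorem exists_tbl : ∃ R w₁ w₂, Tbl hF hm R w₁ w₂ := by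
  classical
  have : Fintype Fˣ := Fintype.ofFinite _
  have : Fintype (Fˣ →* ℂˣ) := Fintype.ofFinite _
  obtain ⟨R, w₁, w₂, X, hR, h1, h2, hne, hiff, hd, hd1, hd2, hu⟩ := exists_split hF hm
  obtain ⟨A₁, A₂, hA₁, hA₂, c1, c2, hfpf⟩ := exists_tori hF hm
  obtain rfl : X = 2 ^ m := pair_X hF hm hd1 hu hA₁ hA₂ c1 c2 hfpf
  obtain ⟨hM, hqM⟩ := two_pow_facts hF hm
  set u := U hF (1 : F) 0 with hudef
  set c := (w₁ : Cfsg.Sz F m → ℂ) u with hc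
  have hqC : (Fintype.card F : ℂ) = 2 * (2 ^ m : ℂ) ^ 2 := by rw [hqM]; push_cast; ring
  have hcc : c * conj c = (2 ^ m : ℂ) ^ 2 := by
    rw [hqC] at hu; linear_combination (1 / 2 : ℂ) * hu
  have hcre : c + conj c = 0 := by
    have := hd1.re; push_cast at this; linear_combination this
  have hsq : c * c = -(2 ^ m : ℂ) ^ 2 := by linear_combination c * hcre - hcc
  -- the complex conjugate
  set v : Cfsg.IrrCharacter (Cfsg.Sz F m) :=
    ⟨fun g => conj ((w₁ : Cfsg.Sz F m → ℂ) g), CharCore.isIrrCharacter_star w₁.2⟩ with hv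
  have hvk : ¬ IsKnown hF hm v := fun hk => hd1.not_known (by
    have e : w₁ = v := Subtype.ext (funext fun g => by
      have h := known_real hF hm hk g
      simp only [v, Complex.conj_conj] at h
      exact h)
    rw [e]; exact hk)
  have hvw : v = w₂ := by
    rcases (hiff v).1 hvk with h | h | h
    · exfalso
      obtain ⟨Y, hY⟩ := hd v h
      have := hY.re
      simp only [v, Complex.conj_conj, ← hudef, ← hc] at this
      rw [add_comm, hcre] at this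
      norm_num at this
    · exfalso
      have e : conj c = c := congrFun (congrArg Subtype.val h) u
      rw [e] at hcre
      have : c = 0 := by linear_combination (1 / 2 : ℂ) * hcre
      rw [this, zero_mul] at hcc
      exact pow_ne_zero 2 (pow_ne_zero m (two_ne_zero (α := ℂ))) hcc.symm
    · exact h
  refine ⟨R, w₁, w₂, hR, h1, h2, hne, hiff, hd, hd1, hd2, fun g => by rw [← hvw], hsq, ?_⟩
  -- the values at the elements of order four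
  have hre : ∀ χ ∈ R, ((χ : Cfsg.Sz F m → ℂ) u).re = -1 := by
    intro χ hχ
    obtain ⟨Y, hY⟩ := hd χ hχ
    have := hY.re
    rw [Complex.add_conj, ← hudef] at this
    have h' := congrArg Complex.re this
    simp at h'
    linarith
  have hsum : ∑ χ ∈ R, (χ : Cfsg.Sz F m → ℂ) u * conj ((χ : Cfsg.Sz F m → ℂ) u) =
      ((R.card : ℕ) : ℂ) := by
    have h := BC87.sum_norm_sq_eq_card_centralizer u
    rw [natCard_centralizer_U hF hm one_ne_zero] at h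
    have hk := two_sum_all hF hm hne h1 h2 hiff fun φ => φ u * conj (φ u)
    simp only [fun f => indB_U hF hm f (U_ne_one_of_left hF hm one_ne_zero (b := (0 : F))),
      hudef, (steinberg_values hF hm).2.1 1 0 (U_ne_one_of_left hF hm one_ne_zero), Pi.one_apply,
      map_one, map_zero, mul_zero, mul_one, sum_const, nsmul_eq_mul, card_hom_erase hF hm] at hk
    rw [h] at hk
    simp only [← hudef, ← hc, ← hvw, v, Complex.conj_conj] at hk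
    rw [Nat.cast_sub (show 2 ≤ Fintype.card F by have := (q_facts hF hm).1; omega)] at hk
    push_cast at hk
    have hR' : (2 : ℂ) * (R.card : ℂ) = (Fintype.card F : ℂ) := by exact_mod_cast hR
    linear_combination (-1 / 2 : ℂ) * hk - 2 * hcc - (1 / 2 : ℂ) * hR' + hqC
  have him : ∀ χ ∈ R, (χ : Cfsg.Sz F m → ℂ) u = -1 := by
    have h' := congrArg Complex.re hsum
    simp only [Complex.re_sum, Complex.mul_conj, Complex.ofReal_re, Complex.natCast_re] at h'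
    intro χ hχ
    have h0 : ∑ ψ ∈ R, (Complex.normSq ((ψ : Cfsg.Sz F m → ℂ) u) - 1) = 0 := by
      rw [sum_sub_distrib, h', sum_const, nsmul_eq_mul, mul_one, sub_self]
    have h1' := (sum_eq_zero_iff_of_nonneg fun ψ hψ => by
      rw [Complex.normSq_apply, hre ψ hψ]; nlinarith).1 h0 χ hχ
    rw [Complex.normSq_apply, hre χ hχ] at h1'
    refine Complex.ext (by rw [hre χ hχ]; simp) ?_
    have : ((χ : Cfsg.Sz F m → ℂ) u).im * ((χ : Cfsg.Sz F m → ℂ) u).im = 0 := by linarith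
    simpa using mul_self_eq_zero.1 this
  intro χ hχ a b ha
  rcases isConj_U_or hF ha b with h | h <;>
    rw [BC86.Suz.apply_of_isConj (CharCore.irr_isClassFunction χ) h]
  · exact him χ hχ
  · rw [CharCore.irr_apply_inv, him χ hχ]; simp

theorem two_sum_tbl [Fintype Fˣ] [Fintype (Fˣ →* ℂˣ)] [DecidableEq (Fˣ →* ℂˣ)]
    {R : Finset (Cfsg.IrrCharacter (Cfsg.Sz F m))} {w₁ w₂ : Cfsg.IrrCharacter (Cfsg.Sz F m)}
    (t : Tbl hF hm R w₁ w₂) (h : (Cfsg.Sz F m → ℂ) → ℂ) :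
    2 * ∑ χ : Cfsg.IrrCharacter (Cfsg.Sz F m), h (χ : Cfsg.Sz F m → ℂ) =
      2 * h 1 + 2 * h (indB hF hm 1 - 1) + ∑ f ∈ univ.erase (1 : Fˣ →* ℂˣ), h (indB hF hm f) +
        2 * (∑ χ ∈ R, h (χ : Cfsg.Sz F m → ℂ) + h (w₁ : Cfsg.Sz F m → ℂ) +
          h (w₂ : Cfsg.Sz F m → ℂ)) :=
  two_sum_all hF hm t.ne t.not_mem₁ t.not_mem₂ t.iff h

/-- A fixed-point-free torus `A` with the set of rows of `R` which do not vanish on it. -/
structure TorusRow (R : Finset (Cfsg.IrrCharacter (Cfsg.Sz F m)))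
    (A : Subgroup (Cfsg.Sz F m)) (RA : Finset (Cfsg.IrrCharacter (Cfsg.Sz F m))) (n' : ℕ) (e : ℤ) :
    Prop where
  isTorus : IsTorus A
  sign : e = 1 ∨ e = -1
  card_eq : (Nat.card A : ℤ) = (Fintype.card F : ℤ) + 1 + 2 * e * 2 ^ m
  other_eq : (n' : ℤ) = (Fintype.card F : ℤ) + 1 - 2 * e * 2 ^ m
  sub : RA ⊆ R
  data : ∀ χ ∈ RA, Data hF hm χ 1 n'
  vanish : ∀ χ ∈ R, χ ∉ RA → ∀ u ∈ A, u ≠ 1 → (χ : Cfsg.Sz F m → ℂ) u = 0

omit hm [Fintype (Cfsg.Sz F m)] in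
theorem coprime_q_sub_one {n : ℕ} (hn : n ∣ Fintype.card F ^ 2 + 1) (hodd : Odd n) :
    Nat.Coprime n (Fintype.card F - 1) := by
  apply Nat.coprime_of_dvd
  intro p hp hpn hpq
  have h1 : p ∣ Fintype.card F ^ 2 + 1 := hpn.trans hn
  have h2 : p ∣ Fintype.card F ^ 2 - 1 := by
    have := Nat.sq_sub_sq (Fintype.card F) 1
    rw [one_pow] at this
    rw [this]
    exact hpq.mul_left _
  have h0 : 1 ≤ Fintype.card F ^ 2 := Nat.one_le_pow _ _ Fintype.card_pos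
  have h3 : p ∣ 2 := by
    have := Nat.dvd_sub h1 h2
    rwa [show Fintype.card F ^ 2 + 1 - (Fintype.card F ^ 2 - 1) = 2 by omega] at this
  rw [(Nat.prime_dvd_prime_iff_eq hp Nat.prime_two).1 h3] at hpn
  exact Nat.not_even_iff_odd.2 hodd (even_iff_two_dvd.2 hpn)

theorem nonvanish_card {R : Finset (Cfsg.IrrCharacter (Cfsg.Sz F m))}
    {w₁ w₂ : Cfsg.IrrCharacter (Cfsg.Sz F m)} (t : Tbl hF hm R w₁ w₂)
    {A : Subgroup (Cfsg.Sz F m)} [Fintype A] (hA : IsTorus A) (h5 : 5 ≤ Nat.card A)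
    (hcop : Nat.Coprime (Nat.card A) ((Fintype.card F - 1) * 2 ^ m))
    (s₀ : Finset (Cfsg.IrrCharacter (Cfsg.Sz F m))) (hs₀ : s₀ ⊆ R)
    (hdiv : ∀ χ ∈ s₀, ∀ k : ℤ, (χ : Cfsg.Sz F m → ℂ) 1 ≠ (((Nat.card A : ℤ) * k : ℤ) : ℂ)) :
    4 * s₀.card ≤ Nat.card A - 1 := by
  classical
  obtain ⟨h8, -⟩ := q_facts hF hm
  set n : ℤ := (Nat.card A : ℤ) with hn
  set one : Cfsg.IrrCharacter (Cfsg.Sz F m) := ⟨1, CharCore.isIrrCharacter_one⟩
  set st : Cfsg.IrrCharacter (Cfsg.Sz F m) := ⟨_, isIrr_steinberg hF hm⟩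
  have honeK : IsKnown hF hm one := Or.inl rfl
  have hstK : IsKnown hF hm st := Or.inr (Or.inl rfl)
  have hone_st : one ≠ st := fun e => one_ne_steinberg hF hm (congrArg Subtype.val e)
  have hRnk : ∀ χ ∈ R, ¬ IsKnown hF hm χ := fun χ h => (t.iff χ).2 (Or.inl h)
  set s := insert one (insert st (insert w₁ (insert w₂ s₀)))
  have hs : ∀ χ ∈ s, n * mult χ (trivA (A := A)) ≠ ∑ φ : Cfsg.IrrCharacter A, mult χ φ := by
    intro χ hχ h
    have hd := sum_mult hA χ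
    rw [← h] at hd
    have hS := sum_torus_sub hA χ
    rw [← h, sub_self, Int.cast_zero] at hS
    simp only [s, mem_insert] at hχ
    have hone1 : ((univ : Finset A).erase 1).card ≠ 0 := by
      rw [card_erase_of_mem (mem_univ _), card_univ, ← Nat.card_eq_fintype_card]; omega
    rcases hχ with rfl | rfl | rfl | rfl | hR
    · simp only [one, Pi.one_apply, sum_const, nsmul_eq_mul, mul_one, Nat.cast_eq_zero] at hS
      exact hone1 hS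
    · rw [sum_congr rfl (g := fun _ => (-1 : ℂ)) fun (u : A) hu =>
        (steinberg_values hF hm).2.2.2 u (hA.fpf u u.2 fun e => ne_of_mem_erase hu (Subtype.ext e))]
        at hS
      simp only [sum_const, nsmul_eq_mul, mul_neg, mul_one, neg_eq_zero, Nat.cast_eq_zero] at hS
      exact hone1 hS
    iterate 2
      rw [(by first | exact t.data₁ | exact t.data₂ : Data hF hm χ 0 (2 ^ m)).deg] at hd
      have e : ((((Fintype.card F - 1) * 2 ^ m : ℕ)) : ℤ) = n * mult χ (trivA (A := A)) := by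
        rw [← @Int.cast_inj ℂ]
        push_cast [show 1 ≤ Fintype.card F by omega] at hd ⊢
        exact hd
      have hdvd : Nat.card A ∣ (Fintype.card F - 1) * 2 ^ m :=
        Int.natCast_dvd_natCast.1 ⟨_, e⟩
      have := Nat.eq_one_of_dvd_coprimes hcop dvd_rfl hdvd
      omega
    exact hdiv χ hR _ hd
  have hscard : s.card = s₀.card + 4 := by
    have a1 : w₂ ∉ s₀ := fun h => t.not_mem₂ (hs₀ h)
    have a2 : w₁ ∉ insert w₂ s₀ := by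
      simp only [mem_insert, not_or]
      exact ⟨t.ne, fun h => t.not_mem₁ (hs₀ h)⟩
    have a3 : st ∉ insert w₁ (insert w₂ s₀) := by
      simp only [mem_insert, not_or]
      exact ⟨fun e => t.data₁.not_known (e ▸ hstK), fun e => t.data₂.not_known (e ▸ hstK),
        fun e => hRnk st (hs₀ e) hstK⟩
    have a4 : one ∉ insert st (insert w₁ (insert w₂ s₀)) := by
      simp only [mem_insert, not_or]
      exact ⟨hone_st, fun e => t.data₁.not_known (e ▸ honeK),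
        fun e => t.data₂.not_known (e ▸ honeK), fun e => hRnk one (hs₀ e) honeK⟩
    simp only [s, card_insert_of_notMem a4, card_insert_of_notMem a3, card_insert_of_notMem a2,
      card_insert_of_notMem a1]
  rcases four_card_rows_le hA h5 s hs with ⟨h, hs5⟩ | hs4 <;> omega

theorem sum_degree_R [Fintype Fˣ] [Fintype (Fˣ →* ℂˣ)] [DecidableEq (Fˣ →* ℂˣ)]
    {R : Finset (Cfsg.IrrCharacter (Cfsg.Sz F m))} {w₁ w₂ : Cfsg.IrrCharacter (Cfsg.Sz F m)}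
    (t : Tbl hF hm R w₁ w₂) (Y : Cfsg.IrrCharacter (Cfsg.Sz F m) → ℕ)
    (hY : ∀ χ ∈ R, Data hF hm χ 1 (Y χ)) :
    2 * ((Fintype.card F : ℤ) - 1) ^ 2 * ∑ χ ∈ R, (Y χ : ℤ) ^ 2 =
      2 * ((Fintype.card F : ℤ) ^ 2 * ((Fintype.card F : ℤ) ^ 2 + 1) * ((Fintype.card F : ℤ) - 1)) -
        2 - 2 * (Fintype.card F : ℤ) ^ 4 -
        ((Fintype.card F : ℤ) - 2) * ((Fintype.card F : ℤ) ^ 2 + 1) ^ 2 -
        2 * (Fintype.card F : ℤ) * ((Fintype.card F : ℤ) - 1) ^ 2 := by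
  obtain ⟨h8, -⟩ := q_facts hF hm
  obtain ⟨-, hqM⟩ := two_pow_facts hF hm
  rw [← @Int.cast_inj ℂ]
  have hk := two_sum_tbl hF hm t fun φ => φ 1 ^ 2
  rw [CharCore.sum_degree_sq, card_Sz hF hm, ← hF] at hk
  simp only [Pi.one_apply, one_pow, (steinberg_values hF hm).1, indB_one, sum_const, nsmul_eq_mul,
    card_hom_erase hF hm, t.data₁.deg, t.data₂.deg] at hk
  rw [sum_congr rfl (s₂ := R) fun χ hχ => show (χ : Cfsg.Sz F m → ℂ) 1 ^ 2 =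
    ((Fintype.card F : ℂ) - 1) ^ 2 * (Y χ : ℂ) ^ 2 by rw [(hY χ hχ).deg]; ring, ← mul_sum] at hk
  have hqC : (Fintype.card F : ℂ) = 2 * (2 ^ m : ℂ) ^ 2 := by rw [hqM]; push_cast; ring
  push_cast [show 2 ≤ Fintype.card F by omega, show 1 ≤ Fintype.card F by omega] at hk ⊢
  linear_combination -hk + 2 * ((Fintype.card F : ℂ) - 1) ^ 2 * hqC

theorem exists_rows {R : Finset (Cfsg.IrrCharacter (Cfsg.Sz F m))}
    {w₁ w₂ : Cfsg.IrrCharacter (Cfsg.Sz F m)} (t : Tbl hF hm R w₁ w₂) :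
    ∃ (A₁ A₂ : Subgroup (Cfsg.Sz F m)) (R₁ R₂ : Finset (Cfsg.IrrCharacter (Cfsg.Sz F m)))
      (n₁ n₂ : ℕ), TorusRow hF hm R A₁ R₁ n₂ 1 ∧ TorusRow hF hm R A₂ R₂ n₁ (-1) ∧
      Disjoint R₁ R₂ ∧ ∀ g : Cfsg.Sz F m, Fpf g ↔ g ∈ cls A₁ ∪ cls A₂ := by
  classical
  have : Fintype Fˣ := Fintype.ofFinite _
  have : Fintype (Fˣ →* ℂˣ) := Fintype.ofFinite _
  obtain ⟨A₁, A₂, hA₁, hA₂, c1, c2, hfpf⟩ := exists_tori hF hm
  have : Fintype A₁ := Fintype.ofFinite _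
  have : Fintype A₂ := Fintype.ofFinite _
  obtain ⟨h8, -⟩ := q_facts hF hm
  obtain ⟨hM, hqM⟩ := two_pow_facts hF hm
  set q := Fintype.card F with hq
  set M := 2 ^ m with hMdef
  have h2M : 2 ^ (m + 1) = 2 * M := pow_succ' 2 m
  rw [h2M] at c1 c2
  have hMq : 2 * M ≤ q := by rw [hqM]; nlinarith
  set n₁ := Nat.card A₁ with hn₁
  set n₂ := Nat.card A₂ with hn₂
  have z1 : (n₁ : ℤ) = (q : ℤ) + 1 + 2 * M := by rw [c1]; push_cast; ring
  have z2 : (n₂ : ℤ) = (q : ℤ) + 1 - 2 * M := by rw [c2]; push_cast [hMq]; ring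
  have zq : (q : ℤ) = 2 * (M : ℤ) ^ 2 := by exact_mod_cast hqM
  have zM : (2 : ℤ) ≤ M := by exact_mod_cast hM
  have hprod : n₁ * n₂ = q ^ 2 + 1 := by
    zify; rw [z1, z2, zq]; ring
  have hodd1 : Odd n₁ := ⟨M ^ 2 + M, by zify; rw [z1, zq]; ring⟩
  have hodd2 : Odd n₂ := by
    refine (Nat.odd_mul.1 (?_ : Odd (n₁ * n₂))).2
    rw [hprod, hqM]; exact ⟨2 * M ^ 4, by ring⟩
  have hc12 : Nat.Coprime n₁ n₂ := by
    apply Nat.coprime_of_dvd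
    intro p hp hp1 hp2
    have h4 : (p : ℤ) ∣ ((4 * M : ℕ) : ℤ) := by
      have := Int.dvd_sub (Int.natCast_dvd_natCast.2 hp1) (Int.natCast_dvd_natCast.2 hp2)
      rw [z1, z2] at this
      push_cast; ring_nf at this ⊢; exact this
    rw [Int.natCast_dvd_natCast, hMdef, show 4 * 2 ^ m = 2 ^ (m + 2) by ring] at h4
    rw [(Nat.prime_dvd_prime_iff_eq hp Nat.prime_two).1 (hp.dvd_of_dvd_pow h4)] at hp1
    exact Nat.not_even_iff_odd.2 hodd1 (even_iff_two_dvd.2 hp1)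
  have hcq : ∀ n, n ∣ q ^ 2 + 1 → Odd n → Nat.Coprime n ((q - 1) * 2 ^ m) := fun n hn ho =>
    Nat.Coprime.mul_right (coprime_q_sub_one hF hn ho)
      ((Nat.coprime_two_right.2 ho).pow_right m)
  have hd1 : n₁ ∣ q ^ 2 + 1 := hprod ▸ dvd_mul_right _ _
  have hd2 : n₂ ∣ q ^ 2 + 1 := hprod ▸ dvd_mul_left _ _
  have h52 : 5 ≤ n₂ := by zify; rw [z2, zq]; nlinarith
  have h51 : 5 ≤ n₁ := by omega
  choose Y hY using fun χ : R => t.data χ χ.2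
  set Y' : Cfsg.IrrCharacter (Cfsg.Sz F m) → ℕ := fun χ => if h : χ ∈ R then Y ⟨χ, h⟩ else 0
  have hY' : ∀ χ ∈ R, Data hF hm χ 1 (Y' χ) := fun χ h => by
    simp only [Y', dif_pos h]; exact hY ⟨χ, h⟩
  have hdeg : ∀ χ ∈ R, (χ : Cfsg.Sz F m → ℂ) 1 = (((q - 1) * Y' χ : ℕ) : ℂ) := fun χ h => by
    rw [(hY' χ h).deg]; push_cast [show 1 ≤ q by omega]; rfl
  have hpos : ∀ χ ∈ R, 0 < Y' χ := fun χ h => Nat.pos_of_ne_zero fun h0 =>
    CharCore.irr_apply_one_ne_zero χ (by rw [hdeg χ h, h0, mul_zero, Nat.cast_zero])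
  set R₁ := R.filter fun χ => ¬ n₁ ∣ Y' χ with hR₁
  set R₂ := R.filter fun χ => ¬ n₂ ∣ Y' χ with hR₂
  have hcard : ∀ (A : Subgroup (Cfsg.Sz F m)) [Fintype A], IsTorus A → 5 ≤ Nat.card A →
      Nat.card A ∣ q ^ 2 + 1 → Odd (Nat.card A) →
      4 * (R.filter fun χ => ¬ Nat.card A ∣ Y' χ).card ≤ Nat.card A - 1 := by
    intro A _ hA h5 hdA hoA
    refine nonvanish_card hF hm t hA h5 (hcq _ hdA hoA) _ (filter_subset _ _) fun χ hχ k hk => ?_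
    obtain ⟨hχR, hnd⟩ := mem_filter.1 hχ
    apply hnd
    rw [hdeg χ hχR] at hk
    have : ((((q - 1) * Y' χ : ℕ)) : ℤ) = (Nat.card A : ℤ) * k := by exact_mod_cast hk
    exact (coprime_q_sub_one hF hdA hoA).dvd_of_dvd_mul_left (Int.natCast_dvd_natCast.1 ⟨k, this⟩)
  have e1 := hcard A₁ hA₁ h51 hd1 hodd1
  have e2 := hcard A₂ hA₂ h52 hd2 hodd2
  rw [← hn₁, ← hR₁] at e1
  rw [← hn₂, ← hR₂] at e2
  have hid := sum_degree_R hF hm t Y' hY'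
  rw [← hq] at hid
  have hnn : (n₁ : ℤ) * n₂ = (q : ℤ) ^ 2 + 1 := by exact_mod_cast hprod
  -- no degree is divisible by both
  have hnot : ∀ χ ∈ R, ¬ (n₁ ∣ Y' χ ∧ n₂ ∣ Y' χ) := by
    rintro χ hχ ⟨a, b⟩
    have hle : q ^ 2 + 1 ≤ Y' χ :=
      Nat.le_of_dvd (hpos χ hχ) (hprod ▸ hc12.mul_dvd_of_dvd_of_dvd a b)
    have hle' : ((q : ℤ) ^ 2 + 1) ^ 2 ≤ ∑ ψ ∈ R, (Y' ψ : ℤ) ^ 2 :=
      le_trans (by exact_mod_cast Nat.pow_le_pow_left hle 2)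
        (single_le_sum (f := fun ψ => (Y' ψ : ℤ) ^ 2) (fun _ _ => sq_nonneg _) hχ)
    have hq8 : (8 : ℤ) ≤ q := by exact_mod_cast h8
    have h1 : 2 * ((q : ℤ) - 1) ^ 2 * ((q : ℤ) ^ 2 + 1) ^ 2 ≤
        2 * ((q : ℤ) ^ 2 * ((q : ℤ) ^ 2 + 1) * ((q : ℤ) - 1)) := by
      refine (mul_le_mul_of_nonneg_left hle' (by positivity)).trans ?_
      rw [hid]
      have : 0 ≤ ((q : ℤ) - 2) * ((q : ℤ) ^ 2 + 1) ^ 2 := mul_nonneg (by linarith) (sq_nonneg _)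
      have : 0 ≤ (q : ℤ) * ((q : ℤ) - 1) ^ 2 := mul_nonneg (by linarith) (sq_nonneg _)
      have : 0 ≤ (q : ℤ) ^ 4 := by positivity
      linarith
    have h2 : ((q : ℤ) - 1) * ((q : ℤ) ^ 2 + 1) ≤ (q : ℤ) ^ 2 := by
      have hp : 0 < 2 * ((q : ℤ) - 1) * ((q : ℤ) ^ 2 + 1) :=
        mul_pos (by linarith) (by positivity)
      exact le_of_mul_le_mul_left (by linear_combination h1) hp
    nlinarith
  have hcover : R ⊆ R₁ ∪ R₂ := fun χ h => by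
    simp only [mem_union, hR₁, hR₂, mem_filter, h, true_and, ← not_and_or]
    exact hnot χ h
  have hsum_card : R.card ≤ R₁.card + R₂.card :=
    (card_le_card hcover).trans (card_union_le _ _)
  have htc := t.card
  rw [← hq] at htc
  have hn12 : n₁ + n₂ = 2 * q + 2 := by zify; rw [z1, z2]; ring
  have f1 : 4 * R₁.card = n₁ - 1 := by omega
  have f2 : 4 * R₂.card = n₂ - 1 := by omega
  have hU : R₁ ∪ R₂ = R :=
    Subset.antisymm (union_subset (filter_subset _ _) (filter_subset _ _)) hcover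
  have hdisj : Disjoint R₁ R₂ := by
    rw [← card_union_eq_card_add_card, hU]
    have := card_union_le R₁ R₂
    omega
  have hl1 : ∀ χ ∈ R₁, n₂ ≤ Y' χ := fun χ h => by
    obtain ⟨hR', -⟩ := mem_filter.1 h
    have : ¬ χ ∈ R₂ := disjoint_left.1 hdisj h
    simp only [hR₂, mem_filter, hR', true_and, not_not] at this
    exact Nat.le_of_dvd (hpos χ hR') this
  have hl2 : ∀ χ ∈ R₂, n₁ ≤ Y' χ := fun χ h => by
    obtain ⟨hR', -⟩ := mem_filter.1 h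
    have : ¬ χ ∈ R₁ := disjoint_right.1 hdisj h
    simp only [hR₁, mem_filter, hR', true_and, not_not] at this
    exact Nat.le_of_dvd (hpos χ hR') this
  have key : ∀ (S : Finset (Cfsg.IrrCharacter (Cfsg.Sz F m))) (n : ℕ), (∀ χ ∈ S, n ≤ Y' χ) →
      0 ≤ ∑ χ ∈ S, ((Y' χ : ℤ) ^ 2 - (n : ℤ) ^ 2) := fun S n h => sum_nonneg fun χ hχ =>
    sub_nonneg.2 (by exact_mod_cast Nat.pow_le_pow_left (h χ hχ) 2)
  have hz : ∑ χ ∈ R₁, ((Y' χ : ℤ) ^ 2 - (n₂ : ℤ) ^ 2) +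
      ∑ χ ∈ R₂, ((Y' χ : ℤ) ^ 2 - (n₁ : ℤ) ^ 2) = 0 := by
    have g1 : 4 * (R₁.card : ℤ) = (n₁ : ℤ) - 1 := by omega
    have g2 : 4 * (R₂.card : ℤ) = (n₂ : ℤ) - 1 := by omega
    simp only [sum_sub_distrib, sum_const, nsmul_eq_mul]
    have hu := sum_union hdisj (f := fun χ => (Y' χ : ℤ) ^ 2)
    rw [hU] at hu
    have hne : (8 * ((q : ℤ) - 1) ^ 2) ≠ 0 := by
      have : (8 : ℤ) ≤ q := by exact_mod_cast h8
      have : (q : ℤ) - 1 ≠ 0 := by omega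
      positivity
    apply mul_left_cancel₀ hne
    rw [hu] at hid
    have h4 : 8 * ((q : ℤ) - 1) ^ 2 * ((n₂ : ℤ) ^ 2 * R₁.card + (n₁ : ℤ) ^ 2 * R₂.card) =
        4 * (2 * ((q : ℤ) ^ 2 * ((q : ℤ) ^ 2 + 1) * ((q : ℤ) - 1)) -
        2 - 2 * (q : ℤ) ^ 4 -
        ((q : ℤ) - 2) * ((q : ℤ) ^ 2 + 1) ^ 2 - 2 * (q : ℤ) * ((q : ℤ) - 1) ^ 2) := by
      have : 4 * ((n₂ : ℤ) ^ 2 * R₁.card + (n₁ : ℤ) ^ 2 * R₂.card) =
          (n₂ : ℤ) ^ 2 * ((n₁ : ℤ) - 1) + (n₁ : ℤ) ^ 2 * ((n₂ : ℤ) - 1) := by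
        linear_combination (n₂ : ℤ) ^ 2 * g1 + (n₁ : ℤ) ^ 2 * g2
      calc 8 * ((q : ℤ) - 1) ^ 2 * ((n₂ : ℤ) ^ 2 * R₁.card + (n₁ : ℤ) ^ 2 * R₂.card)
          = 2 * ((q : ℤ) - 1) ^ 2 *
            (4 * ((n₂ : ℤ) ^ 2 * R₁.card + (n₁ : ℤ) ^ 2 * R₂.card)) := by ring
        _ = _ := by rw [this, z1, z2, zq]; ring
    linear_combination 4 * hid - h4
  have hz1 := key R₁ n₂ hl1
  have hz2 := key R₂ n₁ hl2
  have heq1 : ∀ χ ∈ R₁, Y' χ = n₂ := fun χ hχ => by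
    have := (sum_eq_zero_iff_of_nonneg (f := fun ψ => (Y' ψ : ℤ) ^ 2 - (n₂ : ℤ) ^ 2)
      (s := R₁) fun ψ hψ => sub_nonneg.2
      (by exact_mod_cast Nat.pow_le_pow_left (hl1 ψ hψ) 2)).1 (by linarith) χ hχ
    have h' : Y' χ ^ 2 = n₂ ^ 2 := by exact_mod_cast sub_eq_zero.1 this
    exact Nat.pow_left_injective two_ne_zero h'
  have heq2 : ∀ χ ∈ R₂, Y' χ = n₁ := fun χ hχ => by
    have := (sum_eq_zero_iff_of_nonneg (f := fun ψ => (Y' ψ : ℤ) ^ 2 - (n₁ : ℤ) ^ 2)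
      (s := R₂) fun ψ hψ => sub_nonneg.2
      (by exact_mod_cast Nat.pow_le_pow_left (hl2 ψ hψ) 2)).1 (by linarith) χ hχ
    have h' : Y' χ ^ 2 = n₁ ^ 2 := by exact_mod_cast sub_eq_zero.1 this
    exact Nat.pow_left_injective two_ne_zero h'
  have hG : Nat.card (Cfsg.Sz F m) = q ^ 2 * (q ^ 2 + 1) * (q - 1) := by
    rw [card_Sz hF hm, ← hF]
  have hvan : ∀ (A : Subgroup (Cfsg.Sz F m)) (n n' : ℕ), Nat.card A = n → n * n' = q ^ 2 + 1 →
      Odd n → Nat.Coprime n n' → ∀ χ ∈ R, Y' χ = n → ∀ u ∈ A, u ≠ 1 →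
      (χ : Cfsg.Sz F m → ℂ) u = 0 := by
    intro A n n' hn hnn' hno hco χ hχ he u hu hu1
    obtain ⟨p, hp, hpu⟩ := Nat.exists_prime_and_dvd (n := orderOf u)
      (fun h => hu1 (orderOf_eq_one_iff.1 h))
    have hpn : p ∣ n := hn ▸ hpu.trans (Subgroup.orderOf_dvd_natCard _ hu)
    refine BSW7.eq_zero_of_defect χ ((q - 1) * n) (by rw [hdeg χ hχ, he]) hp
      (c := q ^ 2 * n') ?_ ?_ hpu
    · rw [hG, ← hnn']; ring
    · rw [hp.dvd_mul]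
      rintro (h | h)
      · have h1 : p ∣ q ^ 2 + 1 := hnn' ▸ hpn.mul_right _
        exact hp.one_lt.ne' (Nat.dvd_one.1 ((Nat.dvd_add_right h).1 h1))
      · exact hp.one_lt.ne' (Nat.eq_one_of_dvd_coprimes hco hpn h)
  refine ⟨A₁, A₂, R₁, R₂, n₁, n₂, ⟨hA₁, Or.inl rfl, ?_, ?_, filter_subset _ _, ?_, ?_⟩,
    ⟨hA₂, Or.inr rfl, ?_, ?_, filter_subset _ _, ?_, ?_⟩, hdisj, hfpf⟩
  · rw [← hn₁, z1, ← hq, hMdef]; push_cast; ring
  · rw [z2, ← hq, hMdef]; push_cast; ring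
  · intro χ hχ; exact heq1 χ hχ ▸ hY' χ (mem_filter.1 hχ).1
  · intro χ hχ hn u hu hu1
    have h2 : χ ∈ R₂ := (mem_union.1 (hU.symm ▸ hχ : χ ∈ R₁ ∪ R₂)).resolve_left hn
    exact hvan A₁ n₁ n₂ rfl hprod hodd1 hc12 χ hχ (heq2 χ h2) u hu hu1
  · rw [← hn₂, z2, ← hq, hMdef]; push_cast; ring
  · rw [z1, ← hq, hMdef]; push_cast; ring
  · intro χ hχ; exact heq2 χ hχ ▸ hY' χ (mem_filter.1 hχ).1
  · intro χ hχ hn u hu hu1
    have h1 : χ ∈ R₁ := (mem_union.1 (hU.symm ▸ hχ : χ ∈ R₁ ∪ R₂)).resolve_right hn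
    exact hvan A₂ n₂ n₁ rfl (by rw [mul_comm, hprod]) hodd2 hc12.symm χ hχ (heq1 χ h1) u hu hu1

end Cfsg.Agent.KnownSimple58.SzTable
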