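import Cfsg.Agent.Twisted.Count

/-!
# Two generators for twisted groups

A subgroup of `G₁` that contains every `X k` and the representative of the longest element is the whole of
`G₁`. When the longest element acts as `-1`, the pair `h * y`, `x * n₀` recovers `h`, `y` and the commutator
of `h` with `x`.
-/

set_option autoImplicit false

namespace Cfsg.Agent.Twisted

open ChevGroup ChevIsogeny Cfsg.Lie

theorem mem_of_commute_coprime {G : Type*} [Group G] {h y : G} (hc : Commute h y) {i j : ℕ}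
    (hh : h ^ i = 1) (hy : y ^ j = 1) (hij : i.Coprime j) {P : Subgroup G} (hm : h * y ∈ P) :
    h ∈ P ∧ y ∈ P := by
  have h1 : y ^ i ∈ P := by
    have := P.pow_mem hm i
    rwa [hc.mul_pow, hh, one_mul] at this
  obtain ⟨a, b, hab⟩ := Nat.isCoprime_iff_coprime.2 hij
  have hy' : y ∈ P := by
    have h2 := P.zpow_mem h1 a
    have e : (y ^ i) ^ a = y := by
      conv_rhs => rw [← zpow_one y, ← hab, zpow_add, mul_comm a, mul_comm b, zpow_mul, zpow_mul,
        zpow_natCast, zpow_natCast, hy, one_zpow, mul_one]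
    rwa [e] at h2
  exact ⟨by simpa [mul_assoc] using mul_mem hm (inv_mem hy'), hy'⟩

theorem x_pow {Φ I G : Type*} [Group G] {F : Type*} [Field F] {S : RootIdx Φ I}
    (R : RootRel G F S) (r : Φ) (t : F) (n : ℕ) : R.x r t ^ n = R.x r ((n : F) * t) := by
  induction n with
  | zero => simp [R.x_zero]
  | succ n ih => rw [pow_succ, ih, ← R.x_add]; push_cast; ring_nf

/-- A set that absorbs multiplication by a set generating the ring is an ideal. -/
theorem smul_mem_of_closure_eq_top {F : Type*} [Field F] {L : Set F} (hL : Subring.closure L = ⊤)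
    (T : AddSubgroup F) (h : ∀ l ∈ L, ∀ t ∈ T, l * t ∈ T) {t₀ : F} (h0 : t₀ ∈ T) (hne : t₀ ≠ 0) :
    ∀ t, t ∈ T := by
  have key : ∀ c : F, ∀ t ∈ T, c * t ∈ T := by
    intro c
    have hc : c ∈ Subring.closure L := hL ▸ Subring.mem_top c
    induction hc using Subring.closure_induction with
    | mem l hl => exact h l hl
    | zero => exact fun t _ => by rw [zero_mul]; exact T.zero_mem
    | one => exact fun t ht => by rwa [one_mul]
    | add a b _ _ ha hb => exact fun t ht => by rw [add_mul]; exact T.add_mem (ha t ht) (hb t ht)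
    | neg a _ ha => exact fun t ht => by rw [neg_mul]; exact T.neg_mem (ha t ht)
    | mul a b _ _ ha hb => exact fun t ht => by rw [mul_assoc]; exact ha _ (hb t ht)
  intro t
  have := key (t / t₀) t₀ h0
  rwa [div_mul_cancel₀ _ hne] at this

/-- A unit of large order generates a finite field as a ring. -/
theorem closure_eq_top_of_orderOf {F : Type*} [Field F] [Finite F] {a : Fˣ}
    (ha : Nat.card F < orderOf a * orderOf a) : Subring.closure ({(a : F)} : Set F) = ⊤ := by
  classical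
  cases nonempty_fintype F
  set S := Subring.closure ({(a : F)} : Set F) with hS
  have haS : (a : F) ∈ S := Subring.subset_closure rfl
  by_contra hne
  obtain ⟨z, hz⟩ : ∃ z, z ∉ S := by
    by_contra hcon
    push Not at hcon
    exact hne (eq_top_iff.2 fun z _ => hcon z)
  have hinv : ∀ d ∈ S, d ≠ 0 → d⁻¹ ∈ S := by
    intro d hd hd0
    have e : d ^ (Fintype.card F - 2) = d⁻¹ := by
      refine eq_inv_of_mul_eq_one_left ?_
      have h2 := Fintype.one_lt_card (α := F)
      rw [← pow_succ, show Fintype.card F - 2 + 1 = Fintype.card F - 1 by omega]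
      exact FiniteField.pow_card_sub_one_eq_one d hd0
    exact e ▸ S.pow_mem hd _
  have hinj : Function.Injective fun p : S × S => (p.1 : F) + (p.2 : F) * z := by
    rintro ⟨⟨c, hc⟩, ⟨d, hd⟩⟩ ⟨⟨c', hc'⟩, ⟨d', hd'⟩⟩ h
    dsimp only at h
    by_cases hdd : d = d'
    · subst hdd
      have : c = c' := add_right_cancel h
      subst this
      rfl
    · refine absurd ?_ hz
      have hd0 : d - d' ≠ 0 := sub_ne_zero.2 hdd
      have e : z = (d - d')⁻¹ * (c' - c) := by
        rw [eq_inv_mul_iff_mul_eq₀ hd0]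
        linear_combination h
      exact e ▸ S.mul_mem (hinv _ (S.sub_mem hd hd') hd0) (S.sub_mem hc' hc)
  have h1 := Nat.card_le_card_of_injective _ hinj
  rw [Nat.card_prod] at h1
  have h2 : orderOf a ≤ Nat.card S := by
    have hi : Function.Injective fun i : Fin (orderOf a) => (⟨(a : F) ^ (i : ℕ), S.pow_mem haS _⟩ : S) := by
      intro i j h
      have h' : (a : F) ^ (i : ℕ) = (a : F) ^ (j : ℕ) := congrArg Subtype.val h
      refine Fin.ext (pow_injOn_Iio_orderOf i.2 j.2 (Units.ext ?_))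
      simpa using h'
    simpa using Nat.card_le_card_of_injective _ hi
  have := Nat.mul_le_mul h2 h2
  omega

namespace Gens

variable {D : ChevalleyDatum} {T : Model D} {F : Type*} [Field F] [Finite F] {K : Rels D F} {κ : ℕ}
  {P : IsoData} {e : ℕ} {A : FrameData T (κ := κ)}
  {Z : Frame K P e A} {G₁ : Subgroup ↥(D.group F)} {nj : Fin κ → ↥(D.group F)} (X : Gens Z G₁ nj)
  {W0 : List (Fin κ)} (hneg : ∀ r, T.S.actw ((W0.map A.O.wd).flatten) r = T.S.neg r)
include X hneg

omit hneg in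
theorem longest_coset : InCoset (T.rel K) (X.data.nW W0) ((W0.map A.O.wd).flatten) :=
  X.data.nW_coset W0

theorem mem_of_neg {Q : Subgroup ↥(D.group F)} {k : Fin κ} (hX : X.data.X k ≤ Q)
    (hn : X.data.nW W0 ∈ Q) {y : ↥(D.group F)} (hy : y ∈ G₁)
    (h : y ∈ Sg (T.rel K) (fun r => T.S.neg r ∈ A.O.cls k)) : y ∈ Q := by
  have h1 : X.data.nW W0 * y * (X.data.nW W0)⁻¹ ∈ Sg (T.rel K) (· ∈ A.O.cls k) :=
    (X.longest_coset (W0 := W0)).conj_Sg _ (fun r hr => by rw [hneg]; exact hr) h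
  have h2 : X.data.nW W0 * y * (X.data.nW W0)⁻¹ ∈ G₁ :=
    mul_mem (mul_mem (X.data.nW_mem W0) hy) (inv_mem (X.data.nW_mem W0))
  have := mul_mem (mul_mem (inv_mem hn) (hX ⟨h2, h1⟩)) hn
  simpa [mul_assoc] using this

theorem le_of_X_le {Q : Subgroup ↥(D.group F)} (hX : ∀ k, X.data.X k ≤ Q)
    (hn : X.data.nW W0 ∈ Q) : G₁ ≤ Q := by
  intro g hg
  refine (Subgroup.closure_le _).2 ?_ (X.gen g hg)
  rintro y ⟨k, hy, h | h⟩
  · exact hX k ⟨hy, h⟩
  · exact X.mem_of_neg hneg (hX k) hn hy h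

/-- The longest element inverts the torus. -/
theorem longest_conj (hA : TorOk A)
    (hpair : ∀ (i : Fin T.tab.l) (s : Fin T.tab.n),
      D.pairing (T.S.simple i).val (T.S.neg s).val = -D.pairing (T.S.simple i).val s.val)
    {h : ↥(D.group F)} (hh : h ∈ (T.rel K).H) :
    X.data.nW W0 * h * (X.data.nW W0)⁻¹ = h⁻¹ := by
  obtain ⟨c, rfl⟩ := Z.exists_tor hA hh
  have hco := (X.longest_coset (W0 := W0))
  refine Z.H_ext (mono_conj_H _ hco.mem_mono hh) (inv_mem hh) fun s t => ?_
  obtain ⟨k, hk, hkc⟩ := hco.conj_x (T.S.neg s)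
  have e0 : T.S.actw ((W0.map A.O.wd).flatten) (T.S.neg s) = s := by rw [hneg, T.S.neg_neg]
  rw [e0] at hkc
  set n := X.data.nW W0
  have e1 : (T.rel K).x s t = n * (T.rel K).x (T.S.neg s) (k⁻¹ * t) * n⁻¹ := by
    rw [hkc, mul_inv_cancel_left₀ hk]
  have e2 : chi T c⁻¹ s = chi T c (T.S.neg s) := by
    simp [chi, hpair, zpow_neg]
  rw [show (tor T K c)⁻¹ = tor T K c⁻¹ from (map_inv Z.torHom c).symm, Z.tor_conj, e2]
  calc n * tor T K c * n⁻¹ * (T.rel K).x s t * (n * tor T K c * n⁻¹)⁻¹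
      = n * (tor T K c * (T.rel K).x (T.S.neg s) (k⁻¹ * t) * (tor T K c)⁻¹) * n⁻¹ := by rw [e1]; group
    _ = _ := by
      rw [Z.tor_conj, hkc]
      congr 1
      field_simp

/-- Two generators from a torus element `h`, an element `y` commuting with it of coprime order and a root
element `x`, provided `h`, `y` and the commutator of `h` with `x` reach every `X k`. -/
theorem exists_two_gen_of (hA : TorOk A)
    (hpair : ∀ (i : Fin T.tab.l) (s : Fin T.tab.n),
      D.pairing (T.S.simple i).val (T.S.neg s).val = -D.pairing (T.S.simple i).val s.val)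
    {h y x : ↥(D.group F)} (hh : h ∈ (T.rel K).H) (hhG : h ∈ G₁) (hy : y ∈ G₁) (hx : x ∈ G₁)
    (hc : Commute h y) {i j : ℕ} (hi : h ^ i = 1) (hj : y ^ j = 1) (hij : i.Coprime j)
    (key : ∀ Q : Subgroup ↥(D.group F), h ∈ Q → y ∈ Q → h * x * h⁻¹ * x⁻¹ ∈ Q →
      x * X.data.nW W0 ∈ Q → ∀ k, X.data.X k ≤ Q)
    (hxk : ∃ k, x ∈ X.data.X k) :
    ∃ a b : ↥G₁, Subgroup.closure ({a, b} : Set ↥G₁) = ⊤ := by
  set n := X.data.nW W0 with hn
  set a : ↥G₁ := ⟨h * y, mul_mem hhG hy⟩
  set b : ↥G₁ := ⟨x * n, mul_mem hx (X.data.nW_mem W0)⟩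
  refine ⟨a, b, ?_⟩
  set Q := (Subgroup.closure ({a, b} : Set ↥G₁)).map G₁.subtype with hQ
  have ha : h * y ∈ Q := ⟨a, Subgroup.subset_closure (by simp), rfl⟩
  have hb : x * n ∈ Q := ⟨b, Subgroup.subset_closure (by simp), rfl⟩
  obtain ⟨hhQ, hyQ⟩ := mem_of_commute_coprime hc hi hj hij ha
  have hcom : h * x * h⁻¹ * x⁻¹ ∈ Q := by
    have h1 := mul_mem hhQ (mul_mem (mul_mem hb hhQ) (inv_mem hb))
    have e : h * (x * n * h * (x * n)⁻¹) = h * x * h⁻¹ * x⁻¹ := by
      rw [show x * n * h * (x * n)⁻¹ = x * (n * h * n⁻¹) * x⁻¹ by group,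
        X.longest_conj hneg hA hpair hh]
      group
    rwa [e] at h1
  have hX := key Q hhQ hyQ hcom hb
  obtain ⟨k, hk⟩ := hxk
  have hnQ : n ∈ Q := by simpa [mul_assoc] using mul_mem (inv_mem (hX k hk)) hb
  rw [eq_top_iff]
  intro g _
  obtain ⟨g', hg', e⟩ := X.le_of_X_le hneg hX hnQ g.2
  exact (Subtype.ext e : g' = g) ▸ hg'

end Gens

end Cfsg.Agent.Twisted
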